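import Cfsg.Agent.Lib.RankOneTwo.Extend

/-!
In a faithful rank one set-up with a four group the regular normal subgroup `Q` of the point
stabiliser is a 2-group.
-/

set_option autoImplicit false

noncomputable section

namespace CfsgLib.RankOneTwo

open CfsgLib.RankOneInvol CfsgLib.ClassCount CfsgLib.Characters
open MulAction (stabilizer mem_stabilizer_iff)

universe u v

section Step

variable {G : Type u} {Ω : Type v} [Group G] [MulAction G Ω] {a : Ω} {t : G} {Q : Subgroup G}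
  [Finite G] (hS : Cfsg.IsRankOneSetup G Ω a t Q)
  (h2 : ∃ x y : G, x ≠ 1 ∧ y ≠ 1 ∧ x ≠ y ∧ x * x = 1 ∧ y * y = 1 ∧ x * y = y * x)
  [FaithfulSMul G Ω] (ih : IndHyp.{v} (Nat.card G))

include hS h2 ih in
theorem stabP_eq_bot_of_four (hq : Nat.card (Zsub G a) = 4) {ξ : Cfsg.IrrCharacter (Pp Q)}
    (hξ : ξ ≠ principalIrr _) : stabP hS ξ = ⊥ := by
  obtain ⟨f, -, hqf, hfE⟩ := exists_exponent hS h2
  have hf : f = 2 := Nat.pow_right_injective (le_refl 2) (show 2 ^ f = 2 ^ 2 by rw [← hqf, hq])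
  have h1 := (stabP_cyclic hS h2 ih hξ hfE).2
  obtain ⟨r, hr⟩ := odd_card_stabP hS ξ
  exact Subgroup.eq_bot_of_card_eq _ (by omega)

variable [Fintype G] [Fintype (stabilizer G a)]

include ih in
/-- `L` has the expected size over every good pair -/
theorem lam_good {x : Pair Q} (hx1 : x.1 ≠ principalIrr _) (hfree : FreeP hS x)
    (hkind : Triv a x.2 → Nat.card (Zsub G a) = 4) :
    ∀ k : Bool, (Triv a x.2 ↔ k = true) → FamLamIs hS h2 (dg x) k := by
  obtain ⟨ξ, μ⟩ := x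
  intro k hk
  cases k
  · have hμ : ¬ Triv a μ := fun h => Bool.false_ne_true (hk.1 h)
    by_cases hgood : stabP hS ξ = ⊥ ∨ (Zin a Q).index ≠ 1
    · exact (lam_of_free_count hS h2 ih hx1 hμ hfree hgood).1
    · push Not at hgood
      exact lam_of_extension hS h2 ih hgood.2 hx1 hgood.1 hμ hfree
  · have hμ : Triv a μ := hk.2 rfl
    have hE := stabP_eq_bot_of_four hS h2 ih (hkind hμ) hx1
    obtain ⟨μ', hμ'⟩ := exists_not_triv hS h2
    have hd : dg ((ξ, μ) : Pair Q) = cdeg ξ := by simp [dg, cdeg_eq_one_of_triv hS h2 hμ]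
    rw [hd]
    exact (lam_of_free_count hS h2 ih hx1 hμ' (freeP_of_stabP_eq_bot hS hE) (Or.inl hE)).2

include hS h2 ih in
theorem Pp_eq_bot : Pp Q = ⊥ := by
  classical
  by_contra hP
  haveI := Fintype.ofFinite (Pp Q)
  haveI := Fintype.ofFinite (twoPt G a t)
  set good : Pair Q → Prop := fun x =>
    x.1 ≠ principalIrr _ ∧ FreeP hS x ∧ (Triv a x.2 → Nat.card (Zsub G a) = 4) with hgood
  set Good : Finset (Pair Q) := Finset.univ.filter good with hGood
  -- the exceptional characters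
  have hex : ∀ (D0 : ℕ) (k : Bool), ∃ ν : FamI hS D0 k → Cfsg.IrrCharacter G,
      Nonempty (FamI hS D0 k) → ∃ ε, IsExc a (famTheta hS h2 D0 k) ε ν := by
    intro D0 k
    by_cases hne : Nonempty (FamI hS D0 k)
    · obtain ⟨ε, ν, h⟩ := exists_exc (isOrthLocal_fam hS h2 D0 k)
      exact ⟨ν, fun _ => ⟨ε, h⟩⟩
    · exact ⟨fun i => absurd ⟨i⟩ hne, fun h => absurd h hne⟩
  choose ν hν using hex
  let kind : Pair Q → Bool := fun x => decide (Triv a x.2)
  have hfam : ∀ x, good x → FamP hS (dg x) (kind x) x := fun x hx =>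
    ⟨hx.1, hx.2.1, rfl, (decide_eq_true_iff).symm⟩
  let Φ : Pair Q → Cfsg.IrrCharacter G := fun x =>
    if h : good x then ν (dg x) (kind x) (famClass hS (hfam x h)) else principalIrr G
  have hΦL : ∀ x ∈ Good, LamIs a t Q (dg x) (Φ x) := by
    intro x hx
    have h : good x := (Finset.mem_filter.1 hx).2
    simp only [Φ, dif_pos h]
    obtain ⟨ε, hε⟩ := hν (dg x) (kind x) ⟨famClass hS (hfam x h)⟩
    exact lam_good hS h2 ih h.1 h.2.1 h.2.2 _ (hfam x h).2.2.2 ε _ hε _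
  have horb : ∀ x ∈ Good, ∀ y ∈ Good, Φ x = Φ y → ∃ d, pact hS d x = y := by
    intro x hx y hy e
    have h : good x := (Finset.mem_filter.1 hx).2
    have h' : good y := (Finset.mem_filter.1 hy).2
    simp only [Φ, dif_pos h, dif_pos h'] at e
    obtain ⟨ε, hε⟩ := hν (dg x) (kind x) ⟨famClass hS (hfam x h)⟩
    obtain ⟨ε', hε'⟩ := hν (dg y) (kind y) ⟨famClass hS (hfam y h')⟩
    by_cases heq : dg x = dg y ∧ kind x = kind y
    · have key : ∀ (D1 : ℕ) (k1 : Bool) (hy1 : FamP hS D1 k1 y), dg x = D1 → kind x = k1 →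
          ν (dg x) (kind x) (famClass hS (hfam x h)) = ν D1 k1 (famClass hS hy1) →
          ∃ d, pact hS d x = y := by
        intro D1 k1 hy1 e1 e2 e3
        subst e1 e2
        exact (famClass_eq_iff hS _ _).1 (hε.inj e3)
      exact key _ _ (hfam y h') heq.1 heq.2 e
    · exfalso
      have hne : dg x ≠ dg y ∨ kind x ≠ kind y := by tauto
      have two : ∀ {D1 : ℕ} {k1 : Bool} (i : FamI hS D1 k1), ∃ i', i' ≠ i := fun i => by
        haveI := Finite.one_lt_card_iff_nontrivial.1 (two_le_fam hS h2 i)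
        exact exists_ne i
      exact disjoint_exc (isOrthLocal_fam hS h2 _ _) (isOrthLocal_fam hS h2 _ _)
        (classInner_fam_ne hS h2 hne) hε hε' two two _ _ e
  -- the square sum
  have hfib : ∀ χ : Cfsg.IrrCharacter G,
      (Good.filter fun x => Φ x = χ).card ≤ Fintype.card (twoPt G a t) := by
    intro χ
    rcases (Good.filter fun x => Φ x = χ).eq_empty_or_nonempty with he | ⟨x, hx⟩
    · simp [he]
    obtain ⟨hxG, hxχ⟩ := Finset.mem_filter.1 hx
    refine le_trans (Finset.card_le_card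
      (t := (Finset.univ : Finset (twoPt G a t)).image fun d => pact hS d x) fun y hy => ?_)
      (Finset.card_image_le.trans (le_of_eq Finset.card_univ))
    obtain ⟨hyG, hyχ⟩ := Finset.mem_filter.1 hy
    obtain ⟨d, hd⟩ := horb x hxG y hyG (hxχ.trans hyχ.symm)
    exact Finset.mem_image.2 ⟨d, Finset.mem_univ _, hd⟩
  have hsum : ∑ x ∈ Good, lam a t Q (Φ x) ^ 2 ≤
      (Nat.card (twoPt G a t) : ℝ) * ∑ χ : Cfsg.IrrCharacter G, lam a t Q χ ^ 2 := by
    rw [← Finset.sum_fiberwise Good Φ, Finset.mul_sum]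
    refine Finset.sum_le_sum fun χ _ => ?_
    rw [Finset.sum_congr rfl fun x hx => by rw [(Finset.mem_filter.1 hx).2], Finset.sum_const,
      nsmul_eq_mul, Nat.card_eq_fintype_card]
    exact mul_le_mul_of_nonneg_right (Nat.cast_le.2 (hfib χ)) (sq_nonneg _)
  set W : ℕ := ∑ x ∈ Good, dg x ^ 2 with hW
  set q : ℝ := (Nat.card (Zsub G a) : ℝ) with hqdef
  set D : ℝ := (Nat.card (twoPt G a t) : ℝ) with hDdef
  set M : ℝ := (Nat.card Q : ℝ) with hMdef
  have hq := one_lt_q hS h2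
  have hD0 : 0 < D := Nat.cast_pos.2 Nat.card_pos
  have hM0 : 0 < M := Nat.cast_pos.2 Nat.card_pos
  have hl : ∑ x ∈ Good, lam a t Q (Φ x) ^ 2 * (2 * (q - 1)) ^ 2 = (W : ℝ) * q ^ 2 * D ^ 2 := by
    rw [hW, Nat.cast_sum, Finset.sum_mul, Finset.sum_mul]
    refine Finset.sum_congr rfl fun x hx => ?_
    have h := hΦL x hx
    unfold LamIs at h
    rw [← sq_abs (lam a t Q (Φ x)), ← mul_pow, h]
    push_cast
    ring
  have hZs : (Zs G a).card = Nat.card (Ksub G a t) := by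
    have h : (Zs G a).card = Nat.card {z : Zsub G a // z ≠ 1} := by
      rw [Nat.card_eq_fintype_card, ← Finset.card_univ]
      refine Finset.card_bij (fun z hz => ⟨⟨z, Subgroup.subset_closure (mem_Zs_iff.1 hz)⟩,
        fun e => (mem_Zs.1 hz).2.1 (congrArg Subtype.val e)⟩) (fun z _ => Finset.mem_univ _)
        (fun z _ w _ e => congrArg (fun w : {z : Zsub G a // z ≠ 1} => ((w.1 : Zsub G a) : G)) e)
        fun w _ => ⟨w.1, mem_Zs_iff.2 (((mem_Zsub_iff hS h2).1 w.1.2).resolve_left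
          fun e => w.2 (Subtype.ext e)), rfl⟩
    have h1 : Nat.card (Zsub G a) = Nat.card {z : Zsub G a // z ≠ 1} + 1 := by
      rw [← Finite.card_option]
      exact Nat.card_congr (Equiv.optionSubtypeNe (1 : Zsub G a)).symm
    have h3 := card_Zsub hS h2
    omega
  have hZsR : ((Zs G a).card : ℝ) = q - 1 := by
    rw [hZs, hqdef, card_Zsub hS h2]; push_cast; ring
  have hG : (Nat.card G : ℝ) = M * D * (M + 1) := by
    rw [CfsgLib.RankOne.card_group hS]
    push_cast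
    rfl
  have hC : (Nat.card (Subgroup.centralizer ({t} : Set G)) : ℝ) * ((M + 1) * (q - 1)) =
      M * D * (M + 1) := by
    rw [← hG, ← card_cls_mul_centralizer t, card_cls_t hS]
    push_cast
    rw [hZsR]
    ring
  have hb : bconst G a Q = (q - 2) / (2 * (M + 1) * (q - 1)) := by
    rw [bconst, hZsR]; ring
  have hM1 : M + 1 ≠ 0 := by positivity
  have hq1 : q - 1 ≠ 0 := by linarith
  have hCv : (Nat.card (Subgroup.centralizer ({t} : Set G)) : ℝ) = M * D / (q - 1) := by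
    rw [eq_div_iff hq1]
    refine mul_right_cancel₀ hM1 ?_
    linear_combination hC
  have hmain : (W : ℝ) * q ^ 2 * (M + 1) ≤ M * (4 * (M + 1) * (q - 1) + (q - 2) ^ 2) := by
    have h1 := mul_le_mul_of_nonneg_right hsum (sq_nonneg (2 * (q - 1)))
    rw [Finset.sum_mul, hl, sum_lam_sq hS, hCv, hb, hG] at h1
    have h3 : (M * D / (q - 1) + ((q - 2) / (2 * (M + 1) * (q - 1))) ^ 2 * (M * D * (M + 1))) *
        (2 * (q - 1)) ^ 2 * (M + 1) = M * D * (4 * (M + 1) * (q - 1) + (q - 2) ^ 2) := by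
      field_simp
      ring
    have h4 := mul_le_mul_of_nonneg_right h1 (show 0 ≤ M + 1 by positivity)
    refine le_of_mul_le_mul_right ?_ (mul_pos hD0 hD0)
    calc (W : ℝ) * q ^ 2 * (M + 1) * (D * D) = (W : ℝ) * q ^ 2 * D ^ 2 * (M + 1) := by ring
      _ ≤ _ := h4
      _ = D * ((M * D / (q - 1) + ((q - 2) / (2 * (M + 1) * (q - 1))) ^ 2 * (M * D * (M + 1))) *
            (2 * (q - 1)) ^ 2 * (M + 1)) := by ring
      _ = _ := by rw [h3]; ring
  -- the weight
  obtain ⟨f, hf2, hqf, -⟩ := exists_exponent hS h2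
  have hWξ : W = ∑ ξ : Cfsg.IrrCharacter (Pp Q), if ξ = principalIrr _ then 0 else cdeg ξ ^ 2 *
      ∑ μ ∈ Finset.univ.filter (fun μ : Cfsg.IrrCharacter (Sp Q) =>
        FreeP hS (ξ, μ) ∧ (Triv a μ → Nat.card (Zsub G a) = 4)), cdeg μ ^ 2 := by
    rw [hW, hGood, Finset.sum_filter, Fintype.sum_prod_type]
    refine Finset.sum_congr rfl fun ξ _ => ?_
    split_ifs with hξ
    · refine Finset.sum_eq_zero fun μ _ => if_neg fun h => h.1 hξ
    · rw [Finset.mul_sum, Finset.sum_filter]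
      refine Finset.sum_congr rfl fun μ _ => ?_
      have hiff : good (ξ, μ) ↔ FreeP hS (ξ, μ) ∧ (Triv a μ → Nat.card (Zsub G a) = 4) :=
        ⟨fun h => h.2, fun h => ⟨hξ, h⟩⟩
      by_cases hc : good (ξ, μ)
      · rw [if_pos hc, if_pos (hiff.1 hc), dg, mul_pow]
      · rw [if_neg hc, if_neg fun h => hc (hiff.2 h)]
  have hsumP : (∑ ξ : Cfsg.IrrCharacter (Pp Q), if ξ = principalIrr _ then 0 else cdeg ξ ^ 2) =
      Nat.card (Pp Q) - 1 := by
    have h1 : cdeg (principalIrr (Pp Q)) = 1 := by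
      have := cdeg_spec (principalIrr (Pp Q))
      simp only [principalIrr] at this
      exact_mod_cast this.symm
    have h := sum_cdeg_sq (A := Pp Q)
    rw [← Finset.add_sum_erase _ _ (Finset.mem_univ (principalIrr (Pp Q))), h1, one_pow] at h
    rw [← Finset.add_sum_erase _ _ (Finset.mem_univ (principalIrr (Pp Q))), if_pos rfl,
      Finset.sum_congr rfl fun ξ hξ => if_neg (Finset.mem_erase.1 hξ).1]
    omega
  have hW2 : f = 2 → W = Nat.card (Sp Q) * (Nat.card (Pp Q) - 1) := by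
    intro hf
    have hq4 : Nat.card (Zsub G a) = 4 := by rw [hqf, hf]; norm_num
    haveI := Fintype.ofFinite (Sp Q)
    rw [hWξ, ← hsumP, Finset.mul_sum]
    refine Finset.sum_congr rfl fun ξ _ => ?_
    split_ifs with hξ
    · rw [mul_zero]
    · rw [Finset.filter_true_of_mem fun μ _ =>
        ⟨freeP_of_stabP_eq_bot hS (stabP_eq_bot_of_four hS h2 ih hq4 hξ), fun _ => hq4⟩, sum_cdeg_sq,
        mul_comm]
  have hW3 : 3 ≤ f → Nat.card (Sp Q) * (Nat.card (Pp Q) - 1) * (2 ^ f - 2) ≤ W * 2 ^ f := by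
    intro _
    rw [hWξ, ← hsumP, Finset.mul_sum, Finset.sum_mul, Finset.sum_mul]
    refine Finset.sum_le_sum fun ξ _ => ?_
    split_ifs with hξ
    · simp
    · have h1 := weight_le hS h2 ih hξ
      have h3 : ∑ μ ∈ Finset.univ.filter (fun μ : Cfsg.IrrCharacter (Sp Q) => ¬ Triv a μ ∧ FreeP hS (ξ, μ)),
          cdeg μ ^ 2 ≤ ∑ μ ∈ Finset.univ.filter (fun μ : Cfsg.IrrCharacter (Sp Q) =>
            FreeP hS (ξ, μ) ∧ (Triv a μ → Nat.card (Zsub G a) = 4)), cdeg μ ^ 2 :=
        Finset.sum_le_sum_of_subset fun μ hμ => by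
          obtain ⟨-, h, h'⟩ := Finset.mem_filter.1 hμ
          exact Finset.mem_filter.2 ⟨Finset.mem_univ _, h', fun e => absurd e h⟩
      rw [card_S hS h2, hqf] at *
      calc 2 ^ f * (Zin a Q).index * cdeg ξ ^ 2 * (2 ^ f - 2)
          = cdeg ξ ^ 2 * ((2 ^ f - 2) * (Zin a Q).index) * 2 ^ f := by ring
        _ ≤ _ := Nat.mul_le_mul_right _ (Nat.mul_le_mul_left _ (h1.trans h3))
  have hQ : Nat.card Q = Nat.card (Sp Q) * Nat.card (Pp Q) := by
    rw [mul_comm]; exact (card_Pp_mul (isNilpotent_Q hS h2)).symm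
  have hSq : 2 ^ f ≤ Nat.card (Sp Q) := by
    rw [← hqf]
    exact Subgroup.card_le_of_le (Zsub_le_Sp hS h2)
  have hPge : 2 * 2 ^ f - 1 ≤ Nat.card (Pp Q) := by
    rw [← hqf]; exact card_Pp_ge hS h2 hP
  refine false_of_weight hf2 hSq hPge hW2 hW3 ?_
  have hge : 2 ≤ 2 ^ f := by
    calc 2 = 2 ^ 1 := (pow_one 2).symm
      _ ≤ _ := Nat.pow_le_pow_right (by norm_num) (by omega)
  have e : ((W * (2 ^ f) ^ 2 * (Nat.card (Sp Q) * Nat.card (Pp Q) + 1) : ℕ) : ℝ) ≤
      ((Nat.card (Sp Q) * Nat.card (Pp Q) *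
        (4 * (Nat.card (Sp Q) * Nat.card (Pp Q) + 1) * (2 ^ f - 1) + (2 ^ f - 2) ^ 2) : ℕ) : ℝ) := by
    rw [← hQ, ← hqf]
    have h2q : 2 ≤ Nat.card (Zsub G a) := by rw [hqf]; exact hge
    push_cast [Nat.cast_sub h2q, Nat.cast_sub (show 1 ≤ Nat.card (Zsub G a) by omega)]
    exact hmain
  exact_mod_cast e

end Step

/-- induction on the order of the group -/
theorem isPGroup_two_aux : ∀ N : ℕ, IndHyp.{v} N := by
  intro N
  induction N using Nat.strong_induction_on with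
  | _ N ihN =>
    intro G' _ _ Ω' _ _ a' t' Q' hS h2 hlt
    classical
    haveI := Fintype.ofFinite G'
    have hbot := Pp_eq_bot hS h2 (ihN _ hlt)
    have hcard := card_Pp_mul (isNilpotent_Q hS h2)
    rw [hbot, Subgroup.card_bot, one_mul] at hcard
    haveI : Fact (Nat.Prime 2) := ⟨Nat.prime_two⟩
    obtain ⟨k, hk⟩ := IsPGroup.iff_card.1 (isTwo_Sp (isNilpotent_Q hS h2))
    exact IsPGroup.of_card (hcard.symm.trans hk)

/-- **`Q` is a 2-group**: in a faithful rank one set-up with a four group the regular normal subgroup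
of the point stabiliser is a 2-group. -/
theorem isPGroup_two_Q {G : Type u} {Ω : Type v} [Group G] [Finite G] [MulAction G Ω]
    [FaithfulSMul G Ω] {a : Ω} {t : G} {Q : Subgroup G} (hS : Cfsg.IsRankOneSetup G Ω a t Q)
    (h2 : ∃ x y : G, x ≠ 1 ∧ y ≠ 1 ∧ x ≠ y ∧ x * x = 1 ∧ y * y = 1 ∧ x * y = y * x) :
    IsPGroup 2 Q := by
  classical
  haveI := Fintype.ofFinite G
  have hbot := Pp_eq_bot hS h2 (isPGroup_two_aux _)
  have hcard := card_Pp_mul (isNilpotent_Q hS h2)
  rw [hbot, Subgroup.card_bot, one_mul] at hcard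
  haveI : Fact (Nat.Prime 2) := ⟨Nat.prime_two⟩
  obtain ⟨k, hk⟩ := IsPGroup.iff_card.1 (isTwo_Sp (isNilpotent_Q hS h2))
  exact IsPGroup.of_card (hcard.symm.trans hk)

end CfsgLib.RankOneTwo
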