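import Cfsg.Agent.Lib.RankOneTwo.Section
import Cfsg.Agent.Lib.RankOneInvol.Twist
import Cfsg.Agent.Lib.SuzukiTwo.Field

/-!
The subgroups `Z` (involutions of `G_a` and `1`) and `K` (elements of `D` inverted by `t`), and the
subgroups of `D` whose nontrivial elements centralise at most one involution of `G_a`.
-/

set_option autoImplicit false

noncomputable section

namespace CfsgLib.RankOneTwo

open CfsgLib.RankOneInvol
open MulAction (stabilizer mem_stabilizer_iff)

universe u v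

variable {G : Type u} {Ω : Type v} [Group G] [MulAction G Ω] {a : Ω} {t : G} {Q : Subgroup G}

/-- the group generated by the involutions of `G_a` -/
def Zsub (G : Type u) [Group G] {Ω : Type v} [MulAction G Ω] (a : Ω) : Subgroup G :=
  Subgroup.closure (Cfsg.involutionsIn (stabilizer G a : Set G))

/-- the group generated by the elements of `D` inverted by `t` -/
def Ksub (G : Type u) [Group G] {Ω : Type v} [MulAction G Ω] (a : Ω) (t : G) : Subgroup G :=
  Subgroup.closure (invSet G a t)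

variable [Finite G] (hS : Cfsg.IsRankOneSetup G Ω a t Q)
  (h2 : ∃ x y : G, x ≠ 1 ∧ y ≠ 1 ∧ x ≠ y ∧ x * x = 1 ∧ y * y = 1 ∧ x * y = y * x)
include hS h2

theorem mem_Zsub_iff {x : G} :
    x ∈ Zsub G a ↔ x = 1 ∨ x ∈ Cfsg.involutionsIn (stabilizer G a : Set G) := by
  refine ⟨fun hx => ?_, fun hx => ?_⟩
  · induction hx using Subgroup.closure_induction with
    | mem y hy => exact Or.inr hy
    | one => exact Or.inl rfl
    | mul y z _ _ hy hz =>
      rcases hy with rfl | hy
      · simpa using hz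
      rcases hz with rfl | hz
      · simpa using Or.inr hy
      exact invol_mul hS h2 hy hz
    | inv y _ hy =>
      rcases hy with rfl | hy
      · exact Or.inl inv_one
      · right
        rwa [inv_eq_of_mul_eq_one_right (mem_invols.1 hy).2.2]
  · rcases hx with rfl | hx
    · exact one_mem _
    · exact Subgroup.subset_closure hx

theorem Zsub_le : Zsub G a ≤ Q := fun x hx => by
  rcases (mem_Zsub_iff hS h2).1 hx with rfl | h
  · exact Q.one_mem
  · exact (invol_central hS h2 h).1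

theorem Zsub_comm {z y : G} (hz : z ∈ Zsub G a) (hy : y ∈ Q) : z * y = y * z := by
  rcases (mem_Zsub_iff hS h2).1 hz with rfl | h
  · rw [one_mul, mul_one]
  · exact (invol_central hS h2 h).2 y hy

theorem Zsub_sq {z : G} (hz : z ∈ Zsub G a) : z * z = 1 := by
  rcases (mem_Zsub_iff hS h2).1 hz with rfl | h
  · exact one_mul 1
  · exact (mem_invols.1 h).2.2

theorem Zsub_conj {g z : G} (hg : g • a = a) (hz : z ∈ Zsub G a) : g * z * g⁻¹ ∈ Zsub G a := by
  rcases (mem_Zsub_iff hS h2).1 hz with rfl | h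
  · simp
  · refine (mem_Zsub_iff hS h2).2 (Or.inr ?_)
    have := conj_invol_mem hS h (k := g⁻¹) (by rw [inv_smul_eq_iff, hg])
    rwa [inv_inv] at this

theorem mem_Ksub_iff {x : G} : x ∈ Ksub G a t ↔ x ∈ invSet G a t := by
  obtain ⟨⟨k0, hk0, h⟩, -, -⟩ := invSet_structure hS h2
  have : Ksub G a t = Subgroup.zpowers k0 := by
    refine le_antisymm ((Subgroup.closure_le _).2 fun k hk => (h k).1 hk) ?_
    rw [Subgroup.zpowers_le]
    exact Subgroup.subset_closure ((h k0).2 (Subgroup.mem_zpowers k0))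
  rw [this, h]

theorem isCyclic_Ksub : IsCyclic (Ksub G a t) := by
  obtain ⟨⟨k0, hk0, h⟩, -, -⟩ := invSet_structure hS h2
  have : Ksub G a t = Subgroup.zpowers k0 := by
    ext x
    rw [mem_Ksub_iff hS h2, h]
  rw [this]
  infer_instance

theorem Ksub_le : Ksub G a t ≤ twoPt G a t := fun _ hk =>
  ((mem_invSet hS).1 ((mem_Ksub_iff hS h2).1 hk)).1

theorem Ksub_conj {d k : G} (hd : d ∈ twoPt G a t) (hk : k ∈ Ksub G a t) :
    d * k * d⁻¹ ∈ Ksub G a t :=
  (mem_Ksub_iff hS h2).2 ((invSet_structure hS h2).2.1 d hd k ((mem_Ksub_iff hS h2).1 hk))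

theorem Ksub_regular {z z' : G} (hz : z ∈ Zsub G a) (hz1 : z ≠ 1) (hz' : z' ∈ Zsub G a)
    (hz1' : z' ≠ 1) : ∃! k : Ksub G a t, (k : G) * z * (k : G)⁻¹ = z' := by
  have hs := ((mem_Zsub_iff hS h2).1 hz).resolve_left hz1
  have hs' := ((mem_Zsub_iff hS h2).1 hz').resolve_left hz1'
  obtain ⟨e, he⟩ := conj_invol_bijective hS hs
  obtain ⟨k, hk⟩ := e.surjective ⟨z', hs'⟩
  have hkz : (k : G)⁻¹ * z * k = z' := (he k).symm.trans (congrArg Subtype.val hk)
  refine ⟨⟨(k : G)⁻¹, inv_mem ((mem_Ksub_iff hS h2).2 k.2)⟩, by simp only; rw [inv_inv]; exact hkz, ?_⟩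
  rintro ⟨l, hl⟩ hle
  refine Subtype.ext (inv_injective ?_)
  show l⁻¹ = ((k : G)⁻¹)⁻¹
  rw [inv_inv]
  refine conj_invol_injective hS hs ((mem_Ksub_iff hS h2).1 (inv_mem hl)) k.2 ?_
  rw [inv_inv, hkz]
  exact hle

theorem card_Zsub : Nat.card (Zsub G a) = Nat.card (Ksub G a t) + 1 := by
  classical
  obtain ⟨s, s', -, hs, -⟩ := exists_two_invols hS h2
  have hsZ : s ∈ Zsub G a := Subgroup.subset_closure hs
  let f : Option (Ksub G a t) → Zsub G a := fun o => o.elim 1 fun k =>
    ⟨(k : G) * s * (k : G)⁻¹, Zsub_conj hS h2 (mem_twoPt.1 (Ksub_le hS h2 k.2)).1 hsZ⟩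
  have hf : Function.Bijective f := by
    refine ⟨?_, fun z => ?_⟩
    · rintro (_ | k) (_ | k') h
      · rfl
      · exact absurd (congrArg Subtype.val h).symm (conj_ne_one (mem_invols.1 hs).2.1 (k' : G))
      · exact absurd (congrArg Subtype.val h) (conj_ne_one (mem_invols.1 hs).2.1 (k : G))
      · have h' : (k : G) * s * (k : G)⁻¹ = (k' : G) * s * (k' : G)⁻¹ := congrArg Subtype.val h
        obtain ⟨k₀, -, hu⟩ := Ksub_regular hS h2 hsZ (mem_invols.1 hs).2.1
          (Zsub_conj hS h2 (mem_twoPt.1 (Ksub_le hS h2 k.2)).1 hsZ) (conj_ne_one (mem_invols.1 hs).2.1 (k : G))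
        rw [hu k rfl, hu k' h'.symm]
    · by_cases h : z = 1
      · exact ⟨none, h.symm⟩
      · obtain ⟨k, hk, -⟩ := Ksub_regular hS h2 hsZ (mem_invols.1 hs).2.1 z.2
          (fun e => h (Subtype.ext e))
        exact ⟨some k, Subtype.ext hk⟩
  rw [← Nat.card_eq_of_bijective f hf, Finite.card_option]

omit h2 in
/-- the nontrivial elements of `E` centralise at most one involution of `G_a` -/
theorem atMostOne_of_prime {E : Subgroup G} (hE : E ≤ twoPt G a t)
    (h2 : ∃ x y : G, x ≠ 1 ∧ y ≠ 1 ∧ x ≠ y ∧ x * x = 1 ∧ y * y = 1 ∧ x * y = y * x)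
    [FaithfulSMul G Ω] (ih : IndHyp.{v} (Nat.card G))
    (hbad : ∀ x ∈ E, (orderOf x).Prime → ∃ y ∈ Q, y ≠ 1 ∧ Odd (orderOf y) ∧ x * y = y * x)
    {e : G} (he : e ∈ E) (he1 : e ≠ 1) :
    (∀ s ∈ Zsub G a, ∀ s' ∈ Zsub G a, s ≠ 1 → s' ≠ 1 → e * s = s * e → e * s' = s' * e → s = s') ∧
      ∀ k ∈ Ksub G a t, e * k = k * e → k = 1 := by
  classical
  obtain ⟨p, hp, hpdvd⟩ := Nat.exists_prime_and_dvd (fun h => he1 (orderOf_eq_one_iff.1 h))
  obtain ⟨x, hx, hxo, hcomm⟩ : ∃ x ∈ E, orderOf x = p ∧ ∀ g, e * g = g * e → x * g = g * x :=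
    ⟨e ^ (orderOf e / p), E.pow_mem he _, by
      rw [orderOf_pow' e (Nat.div_pos (Nat.le_of_dvd (orderOf_pos e) hpdvd) hp.pos).ne',
        Nat.gcd_eq_right (Nat.div_dvd_of_dvd hpdvd), Nat.div_div_self hpdvd (orderOf_pos e).ne'],
      fun g hg => ((show Commute e g from hg).pow_left _).eq⟩
  have hx1 : x ≠ 1 := fun h => by rw [h, orderOf_one] at hxo; exact hp.one_lt.ne hxo
  obtain ⟨y, hy, hy1, hyo, hxy⟩ := hbad x hx (hxo ▸ hp)
  obtain ⟨s₀, ⟨hs₀, hxs₀⟩, huniq⟩ := unique_invol hS h2 ih (hE hx) hx1 hy hy1 hyo hxy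
  have hone : ∀ s ∈ Zsub G a, s ≠ 1 → x * s = s * x → s = s₀ := fun s hs hs1 hxs =>
    huniq s ⟨((mem_Zsub_iff hS h2).1 hs).resolve_left hs1, hxs⟩
  refine ⟨fun s hs s' hs' h1 h1' hc hc' =>
    (hone s hs h1 (hcomm s hc)).trans (hone s' hs' h1' (hcomm s' hc')).symm, fun k hk hc => ?_⟩
  have hkx := hcomm k hc
  have hs₀Z : s₀ ∈ Zsub G a := Subgroup.subset_closure hs₀
  have hka := (mem_twoPt.1 (Ksub_le hS h2 hk)).1
  have hnew : k * s₀ * k⁻¹ = s₀ := hone _ (Zsub_conj hS h2 hka hs₀Z)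
    (conj_ne_one (mem_invols.1 hs₀).2.1 k) (((show Commute x k from hkx).mul_right
      (show Commute x s₀ from hxs₀)).mul_right (show Commute x k from hkx).inv_right).eq
  obtain ⟨k₀, -, hu⟩ := Ksub_regular hS h2 hs₀Z (mem_invols.1 hs₀).2.1 hs₀Z (mem_invols.1 hs₀).2.1
  have := (hu ⟨k, hk⟩ hnew).trans (hu 1 (by simp)).symm
  exact congrArg Subtype.val this

/-- `q = 2 ^ f` with `f ≥ 2`, and a subgroup of `D` acting faithfully on `K` is cyclic of order at
most `f` -/
theorem exists_exponent :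
    ∃ f : ℕ, 2 ≤ f ∧ Nat.card (Zsub G a) = 2 ^ f ∧
      ∀ E : Subgroup G, E ≤ twoPt G a t →
        (∀ e ∈ E, (∀ k ∈ Ksub G a t, e * k = k * e) → e = 1) → IsCyclic E ∧ Nat.card E ≤ f := by
  classical
  letI : CommGroup (Zsub G a) :=
    { (inferInstance : Group (Zsub G a)) with
      mul_comm := fun x y => Subtype.ext (Zsub_comm hS h2 x.2 (Zsub_le hS h2 y.2)) }
  haveI := isCyclic_Ksub hS h2
  letI : CommGroup (Ksub G a t) :=
    { (inferInstance : Group (Ksub G a t)) with
      mul_comm := fun x y => IsCyclic.commutative.is_comm.comm x y }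
  let conjD : twoPt G a t → Additive (Zsub G a) →+ Additive (Zsub G a) := fun d =>
    { toFun := fun z => Additive.ofMul ⟨(d : G) * ((Additive.toMul z : Zsub G a) : G) * (d : G)⁻¹,
        Zsub_conj hS h2 (mem_twoPt.1 d.2).1 (Additive.toMul z : Zsub G a).2⟩
      map_zero' := Additive.toMul.injective (Subtype.ext (by simp))
      map_add' := fun x y => Additive.toMul.injective (Subtype.ext
        (show (d : G) * (((Additive.toMul x : Zsub G a) : G) * (Additive.toMul y : Zsub G a)) * (d : G)⁻¹ =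
          (d : G) * (Additive.toMul x : Zsub G a) * (d : G)⁻¹ *
            ((d : G) * (Additive.toMul y : Zsub G a) * (d : G)⁻¹) by group)) }
  have hconj : ∀ d z, ((Additive.toMul (conjD d z) : Zsub G a) : G) =
      (d : G) * ((Additive.toMul z : Zsub G a) : G) * (d : G)⁻¹ := fun d z => rfl
  have hext : ∀ x y : Additive (Zsub G a),
      ((Additive.toMul x : Zsub G a) : G) = ((Additive.toMul y : Zsub G a) : G) → x = y :=
    fun x y h => Additive.toMul.injective (Subtype.ext h)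
  letI : DistribMulAction (Ksub G a t) (Additive (Zsub G a)) :=
    { smul := fun k => conjD ⟨k, Ksub_le hS h2 k.2⟩
      one_smul := fun z => hext _ _
        (show (1 : G) * ((Additive.toMul z : Zsub G a) : G) * (1 : G)⁻¹ = _ by simp)
      mul_smul := fun k l z => hext _ _
        (show ((k : G) * l) * ((Additive.toMul z : Zsub G a) : G) * ((k : G) * l)⁻¹ =
          (k : G) * ((l : G) * ((Additive.toMul z : Zsub G a) : G) * (l : G)⁻¹) * (k : G)⁻¹ by group)
      smul_zero := fun k => map_zero (conjD ⟨k, Ksub_le hS h2 k.2⟩)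
      smul_add := fun k => map_add (conjD ⟨k, Ksub_le hS h2 k.2⟩) }
  have hsm : ∀ (k : Ksub G a t) (z : Additive (Zsub G a)),
      ((Additive.toMul (k • z) : Zsub G a) : G) =
        (k : G) * ((Additive.toMul z : Zsub G a) : G) * (k : G)⁻¹ := fun k z => rfl
  have hcardK := card_Zsub hS h2
  haveI : Nontrivial (Additive (Zsub G a)) := Finite.one_lt_card_iff_nontrivial.1 (by
    show 1 < Nat.card (Zsub G a)
    have : 0 < Nat.card (Ksub G a t) := Nat.card_pos
    omega)
  obtain ⟨L, _, _, ε, χ, hχ, hχs, hL2⟩ := SuzukiTwo.exists_lineField (E := Additive (Zsub G a))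
    (K := Ksub G a t) (fun z => hext _ _ (Zsub_sq hS h2 (Additive.toMul z : Zsub G a).2))
    (fun x y hx hy => by
      have hx' : ((Additive.toMul x : Zsub G a) : G) ≠ 1 := fun e => hx (hext _ _ e)
      have hy' : ((Additive.toMul y : Zsub G a) : G) ≠ 1 := fun e => hy (hext _ _ e)
      obtain ⟨k, hk, hu⟩ := Ksub_regular hS h2 (Additive.toMul x : Zsub G a).2 hx'
        (Additive.toMul y : Zsub G a).2 hy'
      exact ⟨k, hext _ _ hk, fun l hl => hu l ((hsm l x).symm.trans
        (congrArg (fun w => ((Additive.toMul w : Zsub G a) : G)) hl))⟩)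
  haveI : CharP L 2 := CharTwo.of_one_ne_zero_of_two_eq_zero one_ne_zero (by
    rw [← one_add_one_eq_two, hL2])
  letI : Algebra (ZMod 2) L := ZMod.algebra L 2
  haveI : Module.Finite (ZMod 2) L := Module.Finite.of_finite
  set f := Module.finrank (ZMod 2) L with hf
  have hq : Nat.card (Zsub G a) = 2 ^ f := by
    rw [show Nat.card (Zsub G a) = Nat.card L from (Nat.card_congr ε.toEquiv).symm,
      Module.natCard_eq_pow_finrank (K := ZMod 2) (V := L), Nat.card_zmod]
  have hf2 : 2 ≤ f := by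
    by_contra hlt
    push Not at hlt
    have h4 : 2 < Nat.card (Zsub G a) := by
      obtain ⟨s, s', hne, hs, hs'⟩ := exists_two_invols hS h2
      have h3 : 1 < Nat.card (Ksub G a t) := by
        obtain ⟨k, hk, hk1⟩ := exists_invSet_ne_one hS h2
        haveI : Nontrivial (Ksub G a t) :=
          ⟨⟨⟨k, (mem_Ksub_iff hS h2).2 hk⟩, 1, fun e => hk1 (congrArg Subtype.val e)⟩⟩
        exact Finite.one_lt_card
      omega
    rw [hq] at h4
    interval_cases f <;> norm_num at h4
  refine ⟨f, hf2, hq, fun E hE hker => ?_⟩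
  have hpoint : ∀ (k : Ksub G a t) (l : L), ε (χ k * l) = k • ε l := fun k l => (hχ k l).symm
  let T : twoPt G a t → L →+ L := fun d =>
    ε.symm.toAddMonoidHom.comp ((conjD d).comp ε.toAddMonoidHom)
  let kc : twoPt G a t → Ksub G a t → Ksub G a t := fun d k =>
    ⟨(d : G) * k * (d : G)⁻¹, Ksub_conj hS h2 d.2 k.2⟩
  have hT : ∀ d k l, T d (χ k * l) = χ (kc d k) * T d l := by
    intro d k l
    apply ε.injective
    show ε (ε.symm (conjD d (ε (χ k * l)))) = ε (χ (kc d k) * ε.symm (conjD d (ε l)))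
    rw [AddEquiv.apply_symm_apply, hpoint, hpoint, AddEquiv.apply_symm_apply]
    refine hext _ _ ?_
    rw [hconj, hsm, hsm, hconj]
    show _ = (d : G) * k * (d : G)⁻¹ * _ * ((d : G) * k * (d : G)⁻¹)⁻¹
    group
  have hTinj : ∀ d, Function.Injective (T d) := by
    intro d x y h
    apply ε.injective
    have h' : conjD d (ε x) = conjD d (ε y) := ε.symm.injective h
    have := congrArg (fun w => ((Additive.toMul w : Zsub G a) : G)) h'
    simp only [hconj] at this
    exact hext _ _ (mul_left_cancel (mul_right_cancel this))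
  have hT1 : ∀ d, T d 1 ≠ 0 := fun d h => one_ne_zero (hTinj d (h.trans (map_zero (T d)).symm))
  have hσχ : ∀ d k, T d (χ k) * (T d 1)⁻¹ = χ (kc d k) := by
    intro d k
    have := hT d k 1
    rw [mul_one] at this
    rw [this, mul_inv_cancel_right₀ (hT1 d)]
  have hmul : ∀ d l m, T d (l * m) * (T d 1)⁻¹ = T d l * (T d 1)⁻¹ * (T d m * (T d 1)⁻¹) := by
    intro d l m
    by_cases hl : l = 0
    · simp [hl]
    obtain ⟨k, rfl⟩ := hχs l hl
    rw [hσχ, hT, mul_assoc]
  let σ : twoPt G a t → L →+* L := fun d =>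
    { toFun := fun l => T d l * (T d 1)⁻¹
      map_one' := mul_inv_cancel₀ (hT1 d)
      map_mul' := hmul d
      map_zero' := by simp
      map_add' := fun x y => by rw [map_add, add_mul] }
  let σe : twoPt G a t → (L ≃ₐ[ZMod 2] L) := fun d =>
    AlgEquiv.ofBijective
      ({ σ d with
          commutes' := fun r => by
            show (σ d) (algebraMap (ZMod 2) L r) = algebraMap (ZMod 2) L r
            exact RingHom.congr_fun (RingHom.ext_zmod ((σ d).comp (algebraMap (ZMod 2) L)) _) r } :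
        L →ₐ[ZMod 2] L)
      (Finite.injective_iff_bijective.1 (σ d).injective)
  have hσe : ∀ d l, σe d l = σ d l := fun d l => rfl
  let F : E →* (L ≃ₐ[ZMod 2] L) := MonoidHom.mk' (fun e => σe ⟨e, hE e.2⟩) fun x y => by
    refine AlgEquiv.ext fun l => ?_
    rw [AlgEquiv.mul_apply, hσe, hσe, hσe]
    by_cases hl : l = 0
    · simp [hl]
    obtain ⟨k, rfl⟩ := hχs l hl
    show T _ (χ k) * _ = T _ (T _ (χ k) * _) * _
    rw [hσχ, hσχ, hσχ]
    congr 1
    refine Subtype.ext ?_
    show (x : G) * y * k * ((x : G) * y)⁻¹ = (x : G) * ((y : G) * k * (y : G)⁻¹) * (x : G)⁻¹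
    group
  have hFinj : Function.Injective F := by
    rw [injective_iff_map_eq_one]
    intro e he
    refine Subtype.ext (hker e e.2 fun k hk => ?_)
    have h1 := AlgEquiv.congr_fun he (χ ⟨k, hk⟩)
    rw [AlgEquiv.one_apply] at h1
    have h2' : χ (kc ⟨e, hE e.2⟩ ⟨k, hk⟩) = χ ⟨k, hk⟩ := by rw [← hσχ]; exact h1
    have hχinj : Function.Injective χ := by
      intro p q hpq
      obtain ⟨k1, hk1⟩ := exists_ne (0 : Additive (Zsub G a))
      have hp : p • k1 = q • k1 := by
        rw [← ε.apply_symm_apply k1, ← hpoint, ← hpoint, hpq]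
      have hk1' : ((Additive.toMul k1 : Zsub G a) : G) ≠ 1 := fun h => hk1 (hext _ _ h)
      obtain ⟨k₀, -, hu⟩ := Ksub_regular hS h2 (Additive.toMul k1 : Zsub G a).2 hk1'
        (Additive.toMul (p • k1) : Zsub G a).2 (by rw [hsm]; exact conj_ne_one hk1' _)
      rw [hu p (hsm p k1).symm, hu q (by rw [hp, hsm])]
    have h3 : (e : G) * k * (e : G)⁻¹ = k := congrArg Subtype.val (hχinj h2')
    exact mul_inv_eq_iff_eq_mul.1 h3
  refine ⟨isCyclic_of_injective F hFinj, (Nat.card_le_card_of_injective F hFinj).trans ?_⟩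
  rw [Nat.card_eq_fintype_card]
  exact AlgEquiv.card_le

end CfsgLib.RankOneTwo
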