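import Cfsg.Agent.Lib.RankOneInvol.Involutions

/-!
The fixed-point section of an element of the two-point stabiliser, and the involutions of `G_a`
centralised by such an element.
-/

set_option autoImplicit false

noncomputable section

namespace CfsgLib.RankOneTwo

open CfsgLib.RankOneInvol
open MulAction (stabilizer mem_stabilizer_iff)

universe u v

variable {G : Type u} {Ω : Type v} [Group G] [MulAction G Ω] {a : Ω} {t : G} {Q : Subgroup G}

/-- every smaller faithful set-up with a four group has `Q` a 2-group -/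
def IndHyp (N : ℕ) : Prop :=
  ∀ (G' : Type v) [Group G'] [Finite G'] (Ω' : Type v) [MulAction G' Ω'] [FaithfulSMul G' Ω']
    (a' : Ω') (t' : G') (Q' : Subgroup G'),
    Cfsg.IsRankOneSetup G' Ω' a' t' Q' →
    (∃ x y : G', x ≠ 1 ∧ y ≠ 1 ∧ x ≠ y ∧ x * x = 1 ∧ y * y = 1 ∧ x * y = y * x) →
    Nat.card G' < N → IsPGroup 2 Q'

variable [Finite G] (hS : Cfsg.IsRankOneSetup G Ω a t Q)
  (h2 : ∃ x y : G, x ≠ 1 ∧ y ≠ 1 ∧ x ≠ y ∧ x * x = 1 ∧ y * y = 1 ∧ x * y = y * x)
include hS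

/-- an element of `D` commuting with `y ≠ 1` in `Q` fixes three points -/
theorem three_fixed {x y : G} (hx : x ∈ twoPt G a t) (hy : y ∈ Q) (hy1 : y ≠ 1)
    (hc : x * y = y * x) :
    ∃ b c d : Ω, b ≠ c ∧ b ≠ d ∧ c ≠ d ∧ ∀ w ∈ ({x} : Set G), w • b = b ∧ w • c = c ∧ w • d = d := by
  have hxab := mem_twoPt.1 hx
  refine ⟨a, t • a, y • t • a, (ta_ne hS).symm, fun e => ?_, fun e => ?_, ?_⟩
  · apply ta_ne hS
    rw [← inv_smul_smul y (t • a), ← e]
    exact Q_smul hS (Q.inv_mem hy)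
  · exact hy1 (eq_one_of_mem_Q hS hy e.symm)
  · rintro w rfl
    exact ⟨hxab.1, hxab.2, by rw [smul_smul, hc, mul_smul, hxab.2]⟩

/-- an element of `D` fixing three points centralises an involution of `G_a` -/
theorem exists_invol_commute {x : G} (hx : x ∈ twoPt G a t)
    (h3 : ∃ b c d : Ω, b ≠ c ∧ b ≠ d ∧ c ≠ d ∧ ∀ w ∈ ({x} : Set G), w • b = b ∧ w • c = c ∧ w • d = d) :
    ∃ s ∈ Cfsg.involutionsIn (stabilizer G a : Set G), x * s = s * x := by
  have hX : ({x} : Set G) ⊆ (twoPt G a t : Set G) := Set.singleton_subset_iff.2 hx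
  obtain ⟨u, hu, hus⟩ := exists_swap_centralizing hS hX h3
  obtain ⟨c, hc⟩ := exists_fixed hS hus.2.1
  have hfa : ∀ w ∈ ({x} : Set G), w • a = a := fun w hw => (mem_twoPt.1 (hX hw)).1
  have hfb : ∀ w ∈ ({x} : Set G), w • t • a = t • a := fun w hw => (mem_twoPt.1 (hX hw)).2
  have hfc : ∀ w ∈ ({x} : Set G), w • c = c := fun w hw =>
    commute_fixed hS hus.1 hus.2.1 (Subgroup.mem_centralizer_iff.1 hu w hw) hc
  have hca : c ≠ a := fun e => ta_ne hS (by rw [← hus.2.2, ← e, hc])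
  obtain ⟨g, hg, hgc, -⟩ := centralizer_two_trans hS hX h3 hfc hfa hfa hfb hca (ta_ne hS).symm
  refine ⟨g * u * g⁻¹, mem_invols.2 ⟨?_, conj_ne_one hus.1 g, ?_⟩, ?_⟩
  · rw [← hgc, mul_smul, mul_smul, inv_smul_smul, hc]
  · calc g * u * g⁻¹ * (g * u * g⁻¹) = g * (u * u) * g⁻¹ := by group
      _ = 1 := by rw [hus.2.1]; group
  · exact Subgroup.mem_centralizer_iff.1 (mul_mem (mul_mem hg hu) (inv_mem hg)) x rfl

include h2

/-- the section: if `x ≠ 1` centralises two involutions of `G_a` then `C_Q(x)` is a 2-group -/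
theorem centralizer_isTwo [FaithfulSMul G Ω] (ih : IndHyp.{v} (Nat.card G)) {x : G} (hx : x ∈ twoPt G a t)
    (hx1 : x ≠ 1) {s s' : G} (hs : s ∈ Cfsg.involutionsIn (stabilizer G a : Set G))
    (hs' : s' ∈ Cfsg.involutionsIn (stabilizer G a : Set G)) (hne : s ≠ s')
    (hsx : x * s = s * x) (hsx' : x * s' = s' * x) {y : G} (hy : y ∈ Q) (hyx : x * y = y * x) :
    ∃ k : ℕ, y ^ 2 ^ k = 1 := by
  classical
  have hsQ := (invol_central hS h2 hs).1
  have hs'Q := (invol_central hS h2 hs').1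
  have hX : ({x} : Set G) ⊆ (twoPt G a t : Set G) := Set.singleton_subset_iff.2 hx
  have h3 := three_fixed hS hx hsQ (mem_invols.1 hs).2.1 hsx
  have hxab := mem_twoPt.1 hx
  obtain ⟨u, hu, hus⟩ := exists_swap_centralizing hS hX h3
  set C : Subgroup G := Subgroup.centralizer ({x} : Set G) with hC
  have hcomm : ∀ g ∈ C, g * x = x * g := fun g hg => (Subgroup.mem_centralizer_iff.1 hg x rfl).symm
  have hmemC : ∀ {g : G}, x * g = g * x → g ∈ C := fun hg =>
    Subgroup.mem_centralizer_iff.2 fun w hw => by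
      rw [Set.mem_singleton_iff] at hw; subst hw; exact hg
  haveI := CfsgLib.RankOneInvol.finite_omega hS
  let F := {c : Ω // x • c = c}
  let act : C → F → F := fun g c => ⟨(g : G) • (c : Ω), by
    rw [smul_smul, ← hcomm g g.2, mul_smul, c.2]⟩
  let φ : C →* Equiv.Perm F :=
    { toFun := fun g =>
        { toFun := act g
          invFun := act g⁻¹
          left_inv := fun c => Subtype.ext (inv_smul_smul (g : G) (c : Ω))
          right_inv := fun c => Subtype.ext (smul_inv_smul (g : G) (c : Ω)) }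
      map_one' := Equiv.ext fun c => Subtype.ext (one_smul G (c : Ω))
      map_mul' := fun g h => Equiv.ext fun c => Subtype.ext (mul_smul (g : G) (h : G) (c : Ω)) }
  let G' : Subgroup (Equiv.Perm F) := φ.range
  let a' : F := ⟨a, hxab.1⟩
  let b' : F := ⟨t • a, hxab.2⟩
  have hφ : ∀ (g : C) (c : F), (((φ g) c : F) : Ω) = (g : G) • (c : Ω) := fun g c => rfl
  let Q₀ : Subgroup C := Q.subgroupOf C
  let Q' : Subgroup G' := Q₀.map φ.rangeRestrict
  let t' : G' := φ.rangeRestrict ⟨u, hu⟩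
  haveI : FaithfulSMul G' F := ⟨fun {g h} e => Subtype.ext (Equiv.ext fun c => e c)⟩
  have hsmul : ∀ (g : C) (c : F), ((φ.rangeRestrict g • c : F) : Ω) = (g : G) • (c : Ω) := fun g c => rfl
  have hlift : ∀ g' : G', ∃ g : C, φ.rangeRestrict g = g' := fun g' => φ.rangeRestrict_surjective g'
  have htb : t' • a' = b' := Subtype.ext (by rw [hsmul]; exact hus.2.2)
  have hinj : ∀ q : C, (q : G) ∈ Q → φ.rangeRestrict q = 1 → q = 1 := by
    intro q hq e
    have h1 := congrArg (fun g' : G' => ((g' • b' : F) : Ω)) e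
    simp only [hsmul, one_smul] at h1
    exact Subtype.ext (eq_one_of_mem_Q hS hq h1)
  have hsC : s ∈ C := hmemC hsx
  have hs'C : s' ∈ C := hmemC hsx'
  have hS' : Cfsg.IsRankOneSetup G' F a' t' Q' := by
    refine ⟨?_, ?_, ?_, ?_, ?_, ?_, ?_, ?_, ?_, ?_⟩
    · rw [MulAction.is_two_pretransitive_iff]
      intro b₁ b₂ c₁ c₂ hb hc
      obtain ⟨g, hg, e1, e2⟩ := centralizer_two_trans hS hX h3
        (b₁ := (b₁ : Ω)) (b₂ := (b₂ : Ω)) (c₁ := (c₁ : Ω)) (c₂ := (c₂ : Ω))
        (fun w hw => by rw [Set.mem_singleton_iff] at hw; subst hw; exact b₁.2)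
        (fun w hw => by rw [Set.mem_singleton_iff] at hw; subst hw; exact b₂.2)
        (fun w hw => by rw [Set.mem_singleton_iff] at hw; subst hw; exact c₁.2)
        (fun w hw => by rw [Set.mem_singleton_iff] at hw; subst hw; exact c₂.2)
        (fun e => hb (Subtype.ext e)) (fun e => hc (Subtype.ext e))
      exact ⟨φ.rangeRestrict ⟨g, hg⟩, Subtype.ext e1, Subtype.ext e2⟩
    · rw [← map_mul, show (⟨u, hu⟩ : C) * ⟨u, hu⟩ = 1 from Subtype.ext hus.2.1, map_one]
    · intro e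
      rw [e, one_smul] at htb
      exact ta_ne hS (congrArg Subtype.val htb).symm
    · intro e
      rw [mem_stabilizer_iff, htb] at e
      exact ta_ne hS (congrArg Subtype.val e)
    · rintro g' ⟨q, hq, rfl⟩
      exact Subtype.ext (by rw [hsmul]; exact Q_smul hS (Subgroup.mem_subgroupOf.1 hq))
    · intro g' hg' q' hq'
      obtain ⟨g, rfl⟩ := hlift g'
      obtain ⟨q, hq, rfl⟩ := hq'
      refine ⟨g * q * g⁻¹, ?_, by rw [map_mul, map_mul, map_inv]⟩
      exact Subgroup.mem_subgroupOf.2 (Q_conj hS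
        (by have := congrArg Subtype.val hg'; rwa [hsmul] at this) (Subgroup.mem_subgroupOf.1 hq))
    · rw [eq_bot_iff]
      rintro g' ⟨⟨q, hq, rfl⟩, hfix⟩
      rw [Subgroup.mem_bot]
      have h1 : (q : G) • (t • a) = t • a := by
        have e := congrArg Subtype.val (mem_stabilizer_iff.1 hfix)
        rw [htb, hsmul] at e
        exact e
      rw [show q = 1 from Subtype.ext (eq_one_of_mem_Q hS (Subgroup.mem_subgroupOf.1 hq) h1), map_one]
    · rw [htb]
      refine le_antisymm (sup_le ?_ inf_le_left) fun g' hg' => ?_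
      · rintro g' ⟨q, hq, rfl⟩
        exact Subtype.ext (by rw [hsmul]; exact Q_smul hS (Subgroup.mem_subgroupOf.1 hq))
      obtain ⟨g, rfl⟩ := hlift g'
      have hga : (g : G) • a = a := by
        have := congrArg Subtype.val hg'
        rwa [hsmul] at this
      obtain ⟨q, hq, d, hd, he⟩ := decomp hS hga
      have hqX : q ∈ C := Q_centralizes hS hX hq rfl fun w hw => by
        rw [Set.mem_singleton_iff] at hw
        subst hw
        have e : (g : G) • t • a = q • t • a := by rw [he, mul_smul, (mem_twoPt.1 hd).2]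
        rw [← e, smul_smul, ← hcomm g g.2, mul_smul, hxab.2]
      have hdX : d ∈ C := by
        have := mul_mem (inv_mem hqX) g.2
        rwa [he, inv_mul_cancel_left] at this
      rw [show g = ⟨q, hqX⟩ * ⟨d, hdX⟩ from Subtype.ext he, map_mul]
      refine Subgroup.mul_mem_sup ⟨_, Subgroup.mem_subgroupOf.2 hq, rfl⟩ ⟨?_, ?_⟩
      · exact Subtype.ext (by rw [hsmul]; exact (mem_twoPt.1 hd).1)
      · exact Subtype.ext (by rw [hsmul]; exact (mem_twoPt.1 hd).2)
    · have hmem : φ.rangeRestrict ⟨s, hsC⟩ ∈ Q' := ⟨_, Subgroup.mem_subgroupOf.2 hsQ, rfl⟩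
      have ho : orderOf (⟨_, hmem⟩ : Q') = 2 := by
        rw [← Subgroup.orderOf_coe]
        refine orderOf_eq_prime ?_ fun e => (mem_invols.1 hs).2.1
          (congrArg Subtype.val (hinj _ hsQ e))
        show (φ.rangeRestrict ⟨s, hsC⟩) ^ 2 = 1
        rw [pow_two, ← map_mul, show (⟨s, hsC⟩ : C) * ⟨s, hsC⟩ = 1 from
          Subtype.ext (mem_invols.1 hs).2.2, map_one]
      exact even_iff_two_dvd.2 (ho ▸ orderOf_dvd_natCard _)
    · rw [htb]
      have hle : stabilizer G' a' ⊓ stabilizer G' b' ≤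
          ((twoPt G a t).subgroupOf C).map φ.rangeRestrict := by
        rintro g' ⟨h1, h1'⟩
        obtain ⟨g, rfl⟩ := hlift g'
        have e1 := congrArg Subtype.val h1
        have e2 := congrArg Subtype.val h1'
        rw [hsmul] at e1 e2
        exact ⟨g, Subgroup.mem_subgroupOf.2 (mem_twoPt.2 ⟨e1, e2⟩), rfl⟩
      refine Odd.of_dvd_nat ?_ (Subgroup.card_dvd_of_le hle)
      refine Odd.of_dvd_nat ?_ (Subgroup.card_map_dvd _ _)
      exact Odd.of_dvd_nat hS.odd_card (Subgroup.card_comap_dvd_of_injective _ C.subtype C.subtype_injective)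
  have hh2 : ∃ x y : G', x ≠ 1 ∧ y ≠ 1 ∧ x ≠ y ∧ x * x = 1 ∧ y * y = 1 ∧ x * y = y * x := by
    refine ⟨φ.rangeRestrict ⟨s, hsC⟩, φ.rangeRestrict ⟨s', hs'C⟩, fun e => (mem_invols.1 hs).2.1
      (congrArg Subtype.val (hinj _ hsQ e)), fun e => (mem_invols.1 hs').2.1
      (congrArg Subtype.val (hinj _ hs'Q e)), fun e => ?_, ?_, ?_, ?_⟩
    · have := hinj (⟨s, hsC⟩ * ⟨s', hs'C⟩⁻¹) (Q.mul_mem hsQ (Q.inv_mem hs'Q))
        (by rw [map_mul, map_inv, e, mul_inv_cancel])
      exact hne (mul_inv_eq_one.1 (congrArg Subtype.val this))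
    · rw [← map_mul, show (⟨s, hsC⟩ : C) * ⟨s, hsC⟩ = 1 from Subtype.ext (mem_invols.1 hs).2.2, map_one]
    · rw [← map_mul, show (⟨s', hs'C⟩ : C) * ⟨s', hs'C⟩ = 1 from Subtype.ext (mem_invols.1 hs').2.2,
        map_one]
    · rw [← map_mul, ← map_mul]
      exact congrArg _ (Subtype.ext ((invol_central hS h2 hs).2 s' hs'Q))
  have hxC : x ∈ C := hmemC rfl
  have hxker : φ.rangeRestrict ⟨x, hxC⟩ = 1 := Subtype.ext (Equiv.ext fun c => Subtype.ext c.2)
  have hlt : Nat.card G' < Nat.card G := by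
    refine lt_of_lt_of_le ?_ (Subgroup.card_le_card_group C)
    refine lt_of_le_of_ne (Nat.card_le_card_of_surjective _ φ.rangeRestrict_surjective) fun e => hx1 ?_
    have hb := (Nat.bijective_iff_surjective_and_card φ.rangeRestrict).2 ⟨φ.rangeRestrict_surjective, e.symm⟩
    exact congrArg Subtype.val (hb.1 (hxker.trans (map_one _).symm))
  obtain ⟨k, hk⟩ := ih G' F a' t' Q' hS' hh2 hlt
    ⟨φ.rangeRestrict ⟨y, hmemC hyx⟩, ⟨_, Subgroup.mem_subgroupOf.2 hy, rfl⟩⟩
  refine ⟨k, ?_⟩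
  have h1 := congrArg Subtype.val hk
  rw [SubgroupClass.coe_pow, OneMemClass.coe_one, ← map_pow] at h1
  have h1' := congrArg Subtype.val (hinj _ (by
    rw [SubgroupClass.coe_pow]; exact Q.pow_mem hy _) h1)
  simpa using h1'

/-- an element of `D` centralising an odd element `≠ 1` of `Q` centralises exactly one involution of
`G_a` -/
theorem unique_invol [FaithfulSMul G Ω] (ih : IndHyp.{v} (Nat.card G)) {x : G} (hx : x ∈ twoPt G a t)
    (hx1 : x ≠ 1) {y : G} (hy : y ∈ Q) (hy1 : y ≠ 1) (hyo : Odd (orderOf y)) (hxy : x * y = y * x) :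
    ∃! s : G, s ∈ Cfsg.involutionsIn (stabilizer G a : Set G) ∧ x * s = s * x := by
  obtain ⟨s, hs, hsx⟩ := exists_invol_commute hS hx (three_fixed hS hx hy hy1 hxy)
  refine ⟨s, ⟨hs, hsx⟩, fun s' ⟨hs', hsx'⟩ => ?_⟩
  by_contra hne
  obtain ⟨k, hk⟩ := centralizer_isTwo hS h2 ih hx hx1 hs' hs hne hsx' hsx hy hxy
  apply hy1
  rw [← orderOf_eq_one_iff]
  obtain ⟨j, -, hj⟩ := (Nat.dvd_prime_pow Nat.prime_two).1 (orderOf_dvd_of_pow_eq_one hk)
  rw [hj] at hyo ⊢
  rcases Nat.eq_zero_or_pos j with rfl | hj0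
  · rfl
  · exact absurd hyo (Nat.not_odd_iff_even.2 (Nat.even_pow.2 ⟨even_two, hj0.ne'⟩))

end CfsgLib.RankOneTwo
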