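import Cfsg.Agent.Lib.Characters.BrauerPerm
import Cfsg.Agent.Lib.Characters.Clifford
import Cfsg.Agent.Lib.Characters.Counting
import Cfsg.Agent.Lib.Characters.Scalar
import Cfsg.Agent.Lib.Characters.FrobKernelChar

/-!
Products of irreducible characters, characters fixed by fixed-point-free automorphisms, characters
of a group with a central subgroup, and an orbit counting lemma.
-/

set_option autoImplicit false

noncomputable section

namespace CfsgLib.RankOneTwo

open CfsgLib.Characters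
open scoped ComplexConjugate

universe u

section Prod

variable {A B X : Type u} [Group A] [Group B] [Group X]

/-- the product character transported along `e : X ≃* A × B` -/
def prodFun (e : X ≃* A × B) (α : A → ℂ) (β : B → ℂ) : X → ℂ :=
  fun x => α (e x).1 * β (e x).2

theorem classInner_prodFun [Fintype A] [Fintype B] [Fintype X] (e : X ≃* A × B)
    (α α' : A → ℂ) (β β' : B → ℂ) :
    Cfsg.classInner (prodFun e α β) (prodFun e α' β') = Cfsg.classInner α α' * Cfsg.classInner β β' := by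
  classical
  simp only [Cfsg.classInner, prodFun]
  have hs : ∑ g : X, α (e g).1 * β (e g).2 * conj (α' (e g).1 * β' (e g).2) =
      ∑ p : A × B, α p.1 * β p.2 * conj (α' p.1 * β' p.2) :=
    e.toEquiv.sum_comp fun p : A × B => α p.1 * β p.2 * conj (α' p.1 * β' p.2)
  rw [hs, Nat.card_congr e.toEquiv, Nat.card_prod, Fintype.sum_prod_type]
  simp only [map_mul, Nat.cast_mul, mul_inv]
  rw [Finset.mul_sum, Finset.mul_sum, Finset.mul_sum, Finset.sum_mul]
  refine Finset.sum_congr rfl fun a _ => ?_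
  rw [Finset.mul_sum, Finset.mul_sum]
  exact Finset.sum_congr rfl fun b _ => by ring

theorem isIrr_prodFun [Finite A] [Finite B] (e : X ≃* A × B) (α : Cfsg.IrrCharacter A)
    (β : Cfsg.IrrCharacter B) : Cfsg.IsIrrCharacter X (prodFun e α β) := by
  classical
  haveI : Finite X := Finite.of_equiv _ e.symm.toEquiv
  haveI := Fintype.ofFinite A
  haveI := Fintype.ofFinite B
  haveI := Fintype.ofFinite X
  refine Clifford.isIrr_of_norm_one ?_ ?_
  · exact isCharacter_mul
      (Clifford.isCharacter_pullback (irr_isCharacter α) ((MonoidHom.fst A B).comp e.toMonoidHom))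
      (Clifford.isCharacter_pullback (irr_isCharacter β) ((MonoidHom.snd A B).comp e.toMonoidHom))
  · rw [classInner_prodFun, classInner_irr_self α.2, classInner_irr_self β.2, mul_one]

end Prod

section Fixed

variable {A : Type u} [Group A] [Finite A]

/-- an automorphism of prime order fixing only `1` fixes only the trivial irreducible character -/
theorem fixed_irr_trivial (τ : A ≃* A) {p : ℕ} (hp : p.Prime) (hτ : τ ^ p = (1 : MulAut A))
    (hfix : ∀ x : A, τ x = x → x = 1) (χ : Cfsg.IrrCharacter A)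
    (hχ : BrauerPerm.twistIrr τ χ = χ) : χ = principalIrr A := by
  classical
  haveI := Fintype.ofFinite A
  haveI hpf : Fact p.Prime := ⟨hp⟩
  let T : Subgroup (MulAut A) := Subgroup.zpowers τ
  have hT : IsPGroup p T := by
    intro g
    refine ⟨1, ?_⟩
    obtain ⟨g, n, rfl⟩ := g
    refine Subtype.ext ?_
    show (τ ^ n) ^ p ^ 1 = (1 : MulAut A)
    rw [pow_one, ← zpow_natCast, ← zpow_mul, mul_comm, zpow_mul, zpow_natCast, hτ, one_zpow]
  letI : MulAction T A :=
    { smul := fun g x => (g : MulAut A) x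
      one_smul := fun x => rfl
      mul_smul := fun g h x => rfl }
  have hfixed : ∀ x : A, x ∈ MulAction.fixedPoints T A → x = 1 := fun x hx =>
    hfix x (hx ⟨τ, Subgroup.mem_zpowers τ⟩)
  have hcop : ¬ p ∣ Nat.card A := by
    have h1 := hT.card_modEq_card_fixedPoints A
    have h2 : Nat.card (MulAction.fixedPoints T A) = 1 := by
      rw [Nat.card_eq_one_iff_unique]
      exact ⟨⟨fun x y => Subtype.ext ((hfixed x x.2).trans (hfixed y y.2).symm)⟩,
        ⟨⟨1, fun g => map_one (g : MulAut A)⟩⟩⟩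
    rw [h2] at h1
    intro hd
    have := (Nat.modEq_zero_iff_dvd.2 hd).symm.trans h1
    have h01 : 0 % p = 1 % p := this
    rw [Nat.zero_mod, Nat.one_mod_eq_one.2 hp.one_lt.ne'] at h01
    exact absurd h01 zero_ne_one
  have hclass : ∀ c : ConjClasses A, (∀ k : A, ConjClasses.mk k = c → ConjClasses.mk (τ k) = c) →
      c = ConjClasses.mk 1 := by
    intro c hc
    obtain ⟨k0, rfl⟩ := ConjClasses.exists_rep c
    let C := {x : A // ConjClasses.mk x = ConjClasses.mk k0}
    have hC : ∀ (n : ℕ) (x : A), ConjClasses.mk x = ConjClasses.mk k0 →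
        ConjClasses.mk ((τ ^ n : MulAut A) x) = ConjClasses.mk k0 := by
      intro n
      induction n with
      | zero => exact fun x hx => hx
      | succ n ih => intro x hx; rw [pow_succ]; exact ih _ (hc x hx)
    have hg : ∀ g : T, ∃ n : ℕ, (g : MulAut A) = τ ^ n := fun g => by
      obtain ⟨n, hn⟩ := (isOfFinOrder_of_finite τ).mem_powers_iff_mem_zpowers.2 g.2
      exact ⟨n, hn.symm⟩
    letI : MulAction T C :=
      { smul := fun g x => ⟨(g : MulAut A) x, by
          obtain ⟨n, hn⟩ := hg g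
          rw [hn]; exact hC n x x.2⟩
        one_smul := fun x => rfl
        mul_smul := fun g h x => rfl }
    have hdvd : ¬ p ∣ Nat.card C := fun hd => hcop (hd.trans (by
      rw [show Nat.card C = (Subgroup.centralizer ({k0} : Set A)).index from by
        rw [← card_isConj_eq_index k0]
        exact Nat.card_congr (Equiv.subtypeEquivRight fun x => by
          rw [ConjClasses.mk_eq_mk_iff_isConj]; exact isConj_comm)]
      exact Subgroup.index_dvd_card _))
    obtain ⟨x, hx⟩ := hT.nonempty_fixed_point_of_prime_not_dvd_card C hdvd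
    have hx1 : (x : A) = 1 := hfix _ (congrArg Subtype.val (hx ⟨τ, Subgroup.mem_zpowers τ⟩))
    rw [← x.2, hx1]
  have hcard := BrauerPerm.card_fixed_eq (BrauerPerm.twistIrr τ) τ τ.bijective
    (fun ξ k => by simp)
  have h1 : Nat.card {c : ConjClasses A // ∀ k : A, ConjClasses.mk k = c → ConjClasses.mk (τ k) = c} = 1 := by
    rw [Nat.card_eq_one_iff_unique]
    refine ⟨⟨fun x y => Subtype.ext ((hclass x x.2).trans (hclass y y.2).symm)⟩, ⟨⟨ConjClasses.mk 1, ?_⟩⟩⟩
    intro k hk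
    rw [ConjClasses.mk_eq_mk_iff_isConj] at hk ⊢
    rw [isConj_one_left.1 hk, map_one]
  rw [h1, Nat.card_eq_one_iff_unique] at hcard
  exact congrArg Subtype.val (hcard.1.allEq ⟨χ, hχ⟩ ⟨principalIrr A, Subtype.ext (funext fun k => rfl)⟩)

end Fixed

section Orbits

variable {D U : Type*} [Group D] [MulAction D U]

/-- a commutative subgroup `E` normalising a semiregular subgroup `K`, none of whose nontrivial
elements centralises a nontrivial element of `K`: every `K`-orbit contains at most one point with a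
nontrivial `E`-stabiliser -/
theorem unique_stabilised {K E : Subgroup D} (hfree : ∀ k ∈ K, ∀ x : U, k • x = x → k = 1)
    (hnorm : ∀ e ∈ E, ∀ k ∈ K, e * k * e⁻¹ ∈ K) (hcent : ∀ e ∈ E, e ≠ 1 → ∀ k ∈ K, e * k = k * e → k = 1)
    (hcomm : ∀ e ∈ E, ∀ e' ∈ E, e * e' = e' * e) {x y : U} {e e' : D} (he : e ∈ E) (he1 : e ≠ 1)
    (hx : e • x = x) (he' : e' ∈ E) (he'1 : e' ≠ 1) (hy : e' • y = y) {k : D} (hk : k ∈ K)
    (hxy : k • x = y) : x = y := by
  have two : ∀ {f : D}, f ∈ E → f ≠ 1 → ∀ {z : U} {l : D}, l ∈ K → f • z = z →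
      f • (l • z) = l • z → l = 1 := by
    intro f hf hf1 z l hl hz hlz
    refine hcent f hf hf1 l hl ?_
    have h1 : (l⁻¹ * (f * l * f⁻¹)) • z = z := by
      simp only [mul_smul]
      rw [inv_smul_eq_iff.2 hz.symm, hlz, inv_smul_smul]
    have := hfree _ (K.mul_mem (K.inv_mem hl) (hnorm f hf l hl)) z h1
    rw [inv_mul_eq_one] at this
    exact (eq_mul_inv_iff_mul_eq.1 this).symm
  have hex : e • (e' • x) = e' • x := by rw [smul_smul, hcomm e he e' he', mul_smul, hx]
  have hl : (e' * k⁻¹ * e'⁻¹ * k) • x = e' • x := by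
    simp only [mul_smul]
    rw [hxy, inv_smul_eq_iff.2 hy.symm, inv_smul_eq_iff.2 hxy.symm]
  have h1 := two he he1 (K.mul_mem (hnorm e' he' _ (K.inv_mem hk)) hk) hx (by rw [hl, hex])
  have h2 : e' • x = x := by rw [← hl, h1, one_smul]
  rw [← hxy, two he' he'1 hk h2 (by rw [hxy, hy]), one_smul]

/-- the points with a nontrivial stabiliser in `E`, times `|K|`, fit into the invariant set -/
theorem card_stabilised_mul_le [Finite U] {K E : Subgroup D}
    (hfree : ∀ k ∈ K, ∀ x : U, k • x = x → k = 1)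
    (hnorm : ∀ e ∈ E, ∀ k ∈ K, e * k * e⁻¹ ∈ K) (hcent : ∀ e ∈ E, e ≠ 1 → ∀ k ∈ K, e * k = k * e → k = 1)
    (hcomm : ∀ e ∈ E, ∀ e' ∈ E, e * e' = e' * e) :
    Nat.card {x : U // ∃ e ∈ E, e ≠ 1 ∧ e • x = x} * Nat.card K ≤ Nat.card U := by
  rw [← Nat.card_prod]
  refine Nat.card_le_card_of_injective (fun p => ((p.2 : D) • (p.1 : U))) ?_
  rintro ⟨⟨x, e, he, he1, hx⟩, ⟨k, hk⟩⟩ ⟨⟨y, e', he', he'1, hy⟩, ⟨l, hl⟩⟩ h
  simp only at h
  have hxy : (l⁻¹ * k) • x = y := by rw [mul_smul, h, inv_smul_smul]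
  have hm := K.mul_mem (K.inv_mem hl) hk
  have := unique_stabilised hfree hnorm hcent hcomm he he1 hx he' he'1 hy hm hxy
  subst this
  have h1 := hfree _ hm _ hxy
  rw [inv_mul_eq_one] at h1
  subst h1
  rfl

end Orbits

section Central

variable {S : Type u} [Group S] [Fintype S]

/-- an irreducible character is a scalar on a central element -/
theorem irr_central_scalar (χ : Cfsg.IrrCharacter S) (Z : Subgroup S) (hZ : Z ≤ Subgroup.center S) :
    ∃ ω : Z →* ℂˣ, ∀ z : Z, (χ : S → ℂ) z = (χ : S → ℂ) 1 * (ω z : ℂ) := by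
  obtain ⟨c, n, ρ, hρ, rfl⟩ := χ
  haveI := hρ
  haveI := CharScalar.nontrivial_of_irreducible ρ
  have hsc : ∀ z : Z, ∃ c : ℂ, ρ z = c • 1 := fun z => CharScalar.center_scalar ρ (hZ z.2)
  choose c hc using hsc
  have hinj : ∀ a b : ℂ, a • (1 : Module.End ℂ (Fin n → ℂ)) = b • 1 → a = b := fun a b h =>
    smul_left_injective ℂ (one_ne_zero (α := Module.End ℂ (Fin n → ℂ))) h
  have hc1 : c 1 = 1 := hinj _ _ (by rw [← hc, OneMemClass.coe_one, map_one, one_smul])
  have hmul : ∀ x y, c (x * y) = c x * c y := fun x y => hinj _ _ (by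
    rw [← hc, Subgroup.coe_mul, map_mul, hc, hc, smul_mul_smul_comm, one_mul])
  let f : Z →* ℂ := { toFun := c, map_one' := hc1, map_mul' := hmul }
  refine ⟨f.toHomUnits, fun z => ?_⟩
  show ρ.character z = ρ.character 1 * c z
  show LinearMap.trace ℂ _ (ρ z) = LinearMap.trace ℂ _ (ρ 1) * c z
  rw [hc, map_smul, map_one ρ, smul_eq_mul, mul_comm]

/-- `m² ≤ [S : Z]` for a central subgroup `Z` -/
theorem degree_sq_le_index (χ : Cfsg.IrrCharacter S) (Z : Subgroup S) (hZ : Z ≤ Subgroup.center S)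
    {m : ℕ} (hm : (χ : S → ℂ) 1 = m) : m ^ 2 ≤ Z.index := by
  classical
  obtain ⟨ω, hω⟩ := irr_central_scalar χ Z hZ
  have h1 := classInner_irr_self χ.2
  unfold Cfsg.classInner at h1
  rw [inv_mul_eq_iff_eq_mul₀ (Nat.cast_ne_zero.2 Nat.card_pos.ne'), mul_one] at h1
  have hnorm : ∀ z : Z, (ω z : ℂ) * conj (ω z : ℂ) = 1 := fun z => by
    rw [← irr_apply_inv ⟨_, isIrrCharacter_of_hom ω⟩ z]
    simp
  have h2 : ∑ z : Z, (χ : S → ℂ) z * conj ((χ : S → ℂ) z) = (Nat.card Z * m ^ 2 : ℕ) := by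
    have hterm : ∀ z : Z, (χ : S → ℂ) z * conj ((χ : S → ℂ) z) = (m : ℂ) ^ 2 := fun z => by
      rw [hω, hm, map_mul, map_natCast]
      linear_combination ((m : ℂ) ^ 2) * hnorm z
    rw [Finset.sum_congr rfl fun z _ => hterm z, Finset.sum_const, Finset.card_univ, nsmul_eq_mul,
      Nat.card_eq_fintype_card]
    push_cast
    rfl
  have h3 : (∑ z : Z, Complex.normSq ((χ : S → ℂ) z) : ℝ) ≤ ∑ x : S, Complex.normSq ((χ : S → ℂ) x) := by
    rw [← Finset.sum_subtype (Finset.univ.filter (· ∈ Z)) (by simp) fun x => Complex.normSq ((χ : S → ℂ) x)]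
    exact Finset.sum_le_sum_of_subset_of_nonneg (Finset.subset_univ _) fun x _ _ => Complex.normSq_nonneg _
  have h4 : ((∑ z : Z, Complex.normSq ((χ : S → ℂ) z) : ℝ) : ℂ) = (Nat.card Z * m ^ 2 : ℕ) := by
    rw [← h2]; push_cast; simp [Complex.mul_conj]
  have h5 : ((∑ x : S, Complex.normSq ((χ : S → ℂ) x) : ℝ) : ℂ) = (Nat.card S : ℂ) := by
    rw [← h1]; push_cast; simp [Complex.mul_conj]
  have h6 : (∑ z : Z, Complex.normSq ((χ : S → ℂ) z) : ℝ) = ((Nat.card Z * m ^ 2 : ℕ) : ℝ) := by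
    exact_mod_cast h4
  have h7 : (∑ x : S, Complex.normSq ((χ : S → ℂ) x) : ℝ) = (Nat.card S : ℝ) := by exact_mod_cast h5
  rw [h6, h7] at h3
  have h8 : Nat.card Z * m ^ 2 ≤ Nat.card S := by exact_mod_cast h3
  rw [← Subgroup.card_mul_index Z] at h8
  exact Nat.le_of_mul_le_mul_left h8 Nat.card_pos

/-- the squares of the degrees over a fixed linear character of a central subgroup -/
theorem sum_sq_over (Z : Subgroup S) [Fintype Z] (hZ : Z ≤ Subgroup.center S) (ω₀ : Z →* ℂˣ) :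
    ∀ [DecidablePred fun χ : Cfsg.IrrCharacter S =>
        ∀ z : Z, (χ : S → ℂ) z = (χ : S → ℂ) 1 * (ω₀ z : ℂ)],
    ∑ χ ∈ Finset.univ.filter (fun χ : Cfsg.IrrCharacter S =>
        ∀ z : Z, (χ : S → ℂ) z = (χ : S → ℂ) 1 * (ω₀ z : ℂ)), (χ : S → ℂ) 1 ^ 2 = (Z.index : ℂ) := by
  intro _
  classical
  have hω₀ := isIrrCharacter_of_hom ω₀
  have key : ∀ χ : Cfsg.IrrCharacter S, ∑ z : Z, (χ : S → ℂ) 1 * (χ : S → ℂ) z * conj (ω₀ z : ℂ) =
      if ∀ z : Z, (χ : S → ℂ) z = (χ : S → ℂ) 1 * (ω₀ z : ℂ) then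
        (Nat.card Z : ℂ) * (χ : S → ℂ) 1 ^ 2 else 0 := by
    intro χ
    obtain ⟨ω, hω⟩ := irr_central_scalar χ Z hZ
    have h := classInner_irr (G := Z) ⟨_, isIrrCharacter_of_hom ω⟩ ⟨_, hω₀⟩
    unfold Cfsg.classInner at h
    rw [inv_mul_eq_iff_eq_mul₀ (Nat.cast_ne_zero.2 Nat.card_pos.ne')] at h
    have e : ∑ z : Z, (χ : S → ℂ) 1 * (χ : S → ℂ) z * conj (ω₀ z : ℂ) =
        (χ : S → ℂ) 1 ^ 2 * ∑ z : Z, (ω z : ℂ) * conj (ω₀ z : ℂ) := by
      rw [Finset.mul_sum]
      exact Finset.sum_congr rfl fun z _ => by rw [hω]; ring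
    rw [e, h]
    by_cases hc : ∀ z : Z, (χ : S → ℂ) z = (χ : S → ℂ) 1 * (ω₀ z : ℂ)
    · rw [if_pos hc, if_pos]
      · ring
      · refine Subtype.ext (funext fun z => ?_)
        exact mul_left_cancel₀ (irr_one_ne_zero χ) ((hω z).symm.trans (hc z))
    · rw [if_neg hc, if_neg]
      · ring
      · exact fun he => hc fun z => by rw [hω z, show (ω z : ℂ) = ω₀ z from congrFun (congrArg Subtype.val he) z]
  have h1 : ∑ χ : Cfsg.IrrCharacter S, ∑ z : Z, (χ : S → ℂ) 1 * (χ : S → ℂ) z * conj (ω₀ z : ℂ) =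
      (Nat.card S : ℂ) := by
    rw [Finset.sum_comm, Finset.sum_eq_single (1 : Z)]
    · rw [map_one, Units.val_one, map_one]
      simp only [OneMemClass.coe_one, mul_one]
      rw [sum_degree_mul_irr, if_pos rfl]
    · intro z _ hz
      rw [← Finset.sum_mul, sum_degree_mul_irr, if_neg, zero_mul]
      exact fun e => hz (Subtype.ext e)
    · simp
  rw [Finset.sum_congr rfl fun χ _ => key χ, ← Finset.sum_filter, ← Finset.mul_sum,
    ← Subgroup.card_mul_index Z, Nat.cast_mul] at h1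
  exact mul_left_cancel₀ (Nat.cast_ne_zero.2 Nat.card_pos.ne') h1

end Central

end CfsgLib.RankOneTwo
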