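import Cfsg.Agent.Lib.RankOneTwo.SWeights
import Cfsg.Agent.Lib.Characters.LinearTwist

/-!
Families of pairs of equal degree and equal kind, and the value of `L` on their exceptional
characters when a partner family is large enough.
-/

set_option autoImplicit false

noncomputable section

namespace CfsgLib.RankOneTwo

open CfsgLib.RankOneInvol CfsgLib.Characters
open MulAction (stabilizer mem_stabilizer_iff)

universe u v

variable {G : Type u} {Ω : Type v} [Group G] [MulAction G Ω] {a : Ω} {t : G} {Q : Subgroup G}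
  [Finite G] (hS : Cfsg.IsRankOneSetup G Ω a t Q)
  (h2 : ∃ x y : G, x ≠ 1 ∧ y ≠ 1 ∧ x ≠ y ∧ x * x = 1 ∧ y * y = 1 ∧ x * y = y * x)

/-- free pairs of degree `D0` of kind `k` (`true`: `Z` in the kernel) -/
def FamP (D0 : ℕ) (k : Bool) (x : Pair Q) : Prop :=
  x.1 ≠ principalIrr _ ∧ FreeP hS x ∧ dg x = D0 ∧ (Triv a x.2 ↔ k = true)

theorem FamP.map {D0 : ℕ} {k : Bool} {x : Pair Q} (h : FamP hS D0 k x)
    (h2 : ∃ x y : G, x ≠ 1 ∧ y ≠ 1 ∧ x ≠ y ∧ x * x = 1 ∧ y * y = 1 ∧ x * y = y * x)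
    (d : twoPt G a t) : FamP hS D0 k (pact hS d x) :=
  ⟨fun e => h.1 ((pact_fst_principal_iff hS d x).1 e), h.2.1.map hS d, (dg_pact hS d x).trans h.2.2.1,
    (triv_pact_iff hS h2 d x).trans h.2.2.2⟩

theorem FamP.conj {D0 : ℕ} {k : Bool} {x : Pair Q} (h : FamP hS D0 k x) :
    FamP hS D0 k (conjPair x) := by
  refine ⟨fun e => h.1 ?_, h.2.1.conj hS, (dg_conjPair x).trans h.2.2.1,
    (triv_conjPair_iff x).trans h.2.2.2⟩
  refine Subtype.ext (funext fun k => ?_)
  have := congrArg (starRingEnd ℂ) (congrFun (congrArg Subtype.val e) k)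
  simpa [conjPair, principalIrr] using this

/-- the `D`-orbits on a family -/
def famSetoid (D0 : ℕ) (k : Bool) : Setoid {x : Pair Q // FamP hS D0 k x} where
  r x y := ∃ d, pact hS d x.1 = y.1
  iseqv :=
    ⟨fun x => ⟨1, pact_one hS x.1⟩,
      fun {x y} ⟨d, hd⟩ => ⟨d⁻¹, by rw [← hd, pact_inv_pact]⟩,
      fun {x y z} ⟨d, hd⟩ ⟨e, he⟩ => ⟨e * d, by rw [pact_mul, hd, he]⟩⟩

/-- the index type of a family -/
abbrev FamI (D0 : ℕ) (k : Bool) : Type u := Quotient (famSetoid hS D0 k)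

/-- the representative pair of a member of a family -/
def famRep {D0 : ℕ} {k : Bool} (i : FamI hS D0 k) : Pair Q := (Quotient.out i).1

theorem famP_famRep {D0 : ℕ} {k : Bool} (i : FamI hS D0 k) : FamP hS D0 k (famRep hS i) :=
  (Quotient.out i).2

/-- the member of a pair -/
def famClass {D0 : ℕ} {k : Bool} {x : Pair Q} (h : FamP hS D0 k x) : FamI hS D0 k :=
  Quotient.mk (famSetoid hS D0 k) ⟨x, h⟩

theorem exists_pact_famRep {D0 : ℕ} {k : Bool} {x : Pair Q} (h : FamP hS D0 k x) :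
    ∃ d, pact hS d x = famRep hS (famClass hS h) :=
  Quotient.exact (Quotient.out_eq (famClass hS h)).symm

theorem famClass_eq_iff {D0 : ℕ} {k : Bool} {x y : Pair Q} (hx : FamP hS D0 k x) (hy : FamP hS D0 k y) :
    famClass hS hx = famClass hS hy ↔ ∃ d, pact hS d x = y :=
  ⟨fun h => Quotient.exact h, fun h => Quotient.sound h⟩

theorem famRep_eq {D0 : ℕ} {k : Bool} {i j : FamI hS D0 k} {d : twoPt G a t}
    (h : pact hS d (famRep hS i) = famRep hS j) : i = j := by
  rw [← Quotient.out_eq i, ← Quotient.out_eq j]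
  exact Quotient.sound ⟨d, h⟩

include h2 in
theorem card_fam (D0 : ℕ) (k : Bool) :
    Nat.card (FamI hS D0 k) * Nat.card (twoPt G a t) = Nat.card {x : Pair Q // FamP hS D0 k x} := by
  rw [← Nat.card_prod]
  refine Nat.card_eq_of_bijective
    (fun p => ⟨pact hS p.2 (famRep hS p.1), (famP_famRep hS p.1).map hS h2 p.2⟩) ⟨?_, ?_⟩
  · rintro ⟨i, d⟩ ⟨j, e⟩ h
    have h' : pact hS d (famRep hS i) = pact hS e (famRep hS j) := congrArg Subtype.val h
    have hij : i = j := famRep_eq hS (d := e⁻¹ * d) (by rw [pact_mul, h', pact_inv_pact])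
    subst hij
    exact Prod.ext rfl ((famP_famRep hS i).2.1.pact_eq hS h')
  · rintro ⟨x, hx⟩
    obtain ⟨d, hd⟩ := exists_pact_famRep hS hx
    exact ⟨(famClass hS hx, d⁻¹), Subtype.ext (by simp only; rw [← hd, pact_inv_pact])⟩

include h2 in
theorem two_le_fam {D0 : ℕ} {k : Bool} (i : FamI hS D0 k) : 2 ≤ Nat.card (FamI hS D0 k) := by
  have h := (famP_famRep hS i).conj hS
  refine Finite.one_lt_card_iff_nontrivial.2 ⟨⟨i, famClass hS h, fun e => ?_⟩⟩
  obtain ⟨d, hd⟩ := exists_pact_famRep hS h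
  rw [← e] at hd
  refine conjPair_ne_pact hS (famP_famRep hS i).1 (isNilpotent_Q hS h2) d⁻¹ ?_
  conv_rhs => rw [← hd]
  rw [pact_inv_pact]

include h2 in
theorem conjIrr_ne_smul {ξ : Cfsg.IrrCharacter (Pp Q)} (hξ : ξ ≠ principalIrr _) (d : twoPt G a t) :
    BrauerPerm.conjIrr ξ ≠ (irrAction (hPn hS)).smul d ξ := by
  intro e
  refine conjPair_ne_pact hS (x := ((ξ, principalIrr (Sp Q)) : Pair Q)) hξ (isNilpotent_Q hS h2) d
    (Prod.ext e (Subtype.ext (funext fun k => ?_)))
  rw [pact_snd]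
  simp [conjPair, principalIrr]

variable [Fintype G] [Fintype (stabilizer G a)]

/-- the characters of a family -/
def famTheta (D0 : ℕ) (k : Bool) (i : FamI hS D0 k) : stabilizer G a → ℂ :=
  theta hS h2 (famRep hS i)

theorem theta_one_famP {D0 : ℕ} {k : Bool} {x : Pair Q} (h : FamP hS D0 k x) :
    theta hS h2 x 1 = (Nat.card (twoPt G a t) * D0 : ℕ) := by
  rw [theta_one, h.2.2.1]

theorem theta_supp (x : Pair Q) (h : stabilizer G a) (hh : theta hS h2 x h ≠ 0) : (h : G) ∈ Q := by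
  by_contra e
  exact hh (theta_eq_zero hS h2 x e)

open scoped Classical in
theorem isOrthLocal_fam (D0 : ℕ) (k : Bool) : IsOrthLocal a (famTheta hS h2 D0 k) := by
  refine ⟨fun i => isCharacter_theta hS h2 _, fun i j => ?_, fun i j => ?_⟩
  · split_ifs with h
    · subst h
      exact classInner_theta_free hS h2 (famP_famRep hS i).2.1
    · exact classInner_theta_eq_zero hS h2 fun d hd => h (famRep_eq hS hd).symm
  · exact isLocal_theta_sub hS (isCharacter_theta hS h2 _) (isCharacter_theta hS h2 _)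
      ((theta_one_famP hS h2 (famP_famRep hS i)).trans (theta_one_famP hS h2 (famP_famRep hS j)).symm)
      (theta_supp hS h2 _) (theta_supp hS h2 _)

theorem classInner_fam_ne {D0 D1 : ℕ} {k l : Bool} (h : D0 ≠ D1 ∨ k ≠ l) (i : FamI hS D0 k)
    (j : FamI hS D1 l) :
    Cfsg.classInner (famTheta hS h2 D0 k i) (famTheta hS h2 D1 l j) = 0 := by
  refine classInner_theta_eq_zero hS h2 fun d hd => ?_
  have h1 := famP_famRep hS i
  have h3 := (famP_famRep hS j).map hS h2 d
  rw [hd] at h3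
  rcases h with h | h
  · exact h (h1.2.2.1.symm.trans h3.2.2.1)
  · exact h (Bool.eq_iff_iff.2 (h1.2.2.2.symm.trans h3.2.2.2))

omit [Fintype G] [Fintype (stabilizer G a)] in
include hS h2 in
theorem one_lt_q : (1 : ℝ) < Nat.card (Zsub G a) := by
  have h := card_Zsub hS h2
  have : 0 < Nat.card (Ksub G a t) := Nat.card_pos
  exact_mod_cast (show 1 < Nat.card (Zsub G a) by omega)

/-- the value at an involution of `G_a` of the members of a family -/
def tval (G : Type u) [Group G] {Ω : Type v} [MulAction G Ω] (a : Ω) (t : G) (D0 : ℕ) (k : Bool) : ℝ :=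
  (Nat.card (twoPt G a t) : ℝ) * D0 * (bif k then 1 else -1 / ((Nat.card (Zsub G a) : ℝ) - 1))

theorem theta_apply_famP {D0 : ℕ} {k : Bool} {x : Pair Q} (h : FamP hS D0 k x) {z : stabilizer G a}
    (hz : (z : G) ∈ Zs G a) : theta hS h2 x z = (tval G a t D0 k : ℂ) := by
  classical
  have h1 := one_lt_q hS h2
  have hne : (Nat.card (Zsub G a) : ℂ) - 1 ≠ 0 := by
    intro e
    have : ((Nat.card (Zsub G a) : ℝ) - 1 : ℝ) = 0 := Complex.ofReal_injective (by push_cast; exact e)
    linarith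
  refine mul_left_cancel₀ hne ?_
  rw [theta_apply_Z hS h2 x hz, h.2.2.1, tval]
  cases k
  · rw [if_neg fun e => Bool.false_ne_true (h.2.2.2.1 e)]
    simp only [cond_false]
    push_cast
    field_simp
  · rw [if_pos (h.2.2.2.2 rfl)]
    simp only [cond_true]
    push_cast
    ring

/-- the expected size of `L` -/
def LamIs (a : Ω) (t : G) (Q : Subgroup G) (D0 : ℕ) (χ : Cfsg.IrrCharacter G) : Prop :=
  |lam a t Q χ| * (2 * ((Nat.card (Zsub G a) : ℝ) - 1)) =
    (D0 : ℝ) * Nat.card (Zsub G a) * Nat.card (twoPt G a t)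

/-- `L` has the expected size on the exceptional characters of a family -/
def FamLamIs (D0 : ℕ) (k : Bool) : Prop :=
  ∀ (ε : ℤ) (ν : FamI hS D0 k → Cfsg.IrrCharacter G), IsExc a (famTheta hS h2 D0 k) ε ν →
    ∀ j, LamIs a t Q D0 (ν j)

/-- the case where enough free pairs with `Z` in the kernel exist -/
theorem lam_of_free_count [FaithfulSMul G Ω] (ih : IndHyp.{v} (Nat.card G))
    {ξ : Cfsg.IrrCharacter (Pp Q)} (hξ : ξ ≠ principalIrr _) {μ : Cfsg.IrrCharacter (Sp Q)}
    (hμ : ¬ Triv a μ) (hfree : FreeP hS (ξ, μ)) (hgood : stabP hS ξ = ⊥ ∨ (Zin a Q).index ≠ 1) :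
    FamLamIs hS h2 (dg ((ξ, μ) : Pair Q)) false ∧ FamLamIs hS h2 (cdeg ξ) true := by
  classical
  have hB : FamP hS (dg ((ξ, μ) : Pair Q)) false ((ξ, μ) : Pair Q) :=
    ⟨hξ, hfree, rfl, iff_of_false hμ Bool.false_ne_true⟩
  have hm := cdeg_pos μ
  have hcount := free_count hS h2 ih hξ μ hgood
  have hF : 0 < Nat.card {η : Cfsg.IrrCharacter (Sp Q) // Triv a η ∧ FreeP hS (ξ, η)} :=
    lt_of_lt_of_le (Nat.mul_pos Nat.card_pos hm) hcount
  obtain ⟨η₀, hη₀, hη₀f⟩ := (Nat.card_pos_iff.1 hF).1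
  have hA : FamP hS (cdeg ξ) true ((ξ, η₀) : Pair Q) :=
    ⟨hξ, hη₀f, by simp [dg, cdeg_eq_one_of_triv hS h2 hη₀], iff_of_true hη₀ rfl⟩
  have hl : 2 * cdeg μ ≤ Nat.card (FamI hS (cdeg ξ) true) := by
    let T := {η : Cfsg.IrrCharacter (Sp Q) // Triv a η ∧ FreeP hS (ξ, η)}
    have hT : ∀ η : T, FamP hS (cdeg ξ) true ((ξ, η.1) : Pair Q) := fun η =>
      ⟨hξ, η.2.2, by simp [dg, cdeg_eq_one_of_triv hS h2 η.2.1], iff_of_true η.2.1 rfl⟩
    let φ : Bool × twoPt G a t × T → {x : Pair Q // FamP hS (cdeg ξ) true x} := fun p =>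
      ⟨pact hS p.2.1 (bif p.1 then conjPair ((ξ, p.2.2.1) : Pair Q) else (ξ, p.2.2.1)), by
        cases p.1
        · exact (hT p.2.2).map hS h2 _
        · exact ((hT p.2.2).conj hS).map hS h2 _⟩
    have hfib : ∀ y, Nat.card {p // φ p = y} ≤ Nat.card (stabP hS ξ) := by
      intro y
      by_cases hy : ∃ p, φ p = y
      swap
      · haveI : IsEmpty {p // φ p = y} := ⟨fun p => hy ⟨p.1, p.2⟩⟩
        simp
      obtain ⟨⟨b₀, d₀, η₀'⟩, hp₀⟩ := hy
      have key : ∀ (b : Bool) (d : twoPt G a t) (η : T), φ (b, d, η) = y →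
          b = b₀ ∧ d₀⁻¹ * d ∈ stabP hS ξ ∧
            pact hS (d₀⁻¹ * d) (ξ, η.1) = ((ξ, η₀'.1) : Pair Q) := by
        intro b d η h
        have h' := congrArg Subtype.val (h.trans hp₀.symm)
        simp only [φ] at h'
        have hbb : b = b₀ := by
          cases b <;> cases b₀ <;> simp only [cond_true, cond_false] at h' ⊢
          · exfalso
            have h'' := congrArg (fun x : Pair Q => (pact hS d₀⁻¹ x).1) h'
            simp only [← pact_mul, inv_mul_cancel, pact_one] at h''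
            exact conjIrr_ne_smul hS h2 hξ (d₀⁻¹ * d) h''.symm
          · exfalso
            have h'' := congrArg (fun x : Pair Q => (pact hS d⁻¹ x).1) h'
            simp only [← pact_mul, inv_mul_cancel, pact_one] at h''
            exact conjIrr_ne_smul hS h2 hξ (d⁻¹ * d₀) h''
        subst hbb
        have h5 : pact hS (d₀⁻¹ * d) ((ξ, η.1) : Pair Q) = (ξ, η₀'.1) := by
          rw [pact_mul]
          cases b <;> simp only [cond_true, cond_false] at h'
          · rw [h', pact_inv_pact]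
          · rw [pact_conjPair, pact_conjPair] at h'
            have h4 := congrArg conjPair h'
            rw [conjPair_conjPair, conjPair_conjPair] at h4
            rw [h4, pact_inv_pact]
        exact ⟨rfl, congrArg Prod.fst h5, h5⟩
      refine Nat.card_le_card_of_injective
        (fun p => (⟨d₀⁻¹ * p.1.2.1, (key p.1.1 p.1.2.1 p.1.2.2 p.2).2.1⟩ : stabP hS ξ)) ?_
      rintro ⟨⟨b, d, η⟩, hp⟩ ⟨⟨b', d', η'⟩, hp'⟩ h
      have hd : d = d' := mul_left_cancel (congrArg Subtype.val h)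
      subst hd
      obtain ⟨rfl, -, e1⟩ := key b d η hp
      obtain ⟨rfl, -, e2⟩ := key b' d η' hp'
      have := congrArg Prod.snd (pact_injective hS _ (e1.trans e2.symm))
      exact Subtype.ext (Prod.ext rfl (Prod.ext rfl (Subtype.ext this)))
    have h1 := LinearTwist.card_le_mul_of_fibres φ _ hfib
    rw [Nat.card_prod, Nat.card_prod, Nat.card_eq_fintype_card (α := Bool), Fintype.card_bool,
      ← card_fam hS h2] at h1
    have h3 : 2 * cdeg μ * (Nat.card (twoPt G a t) * Nat.card (stabP hS ξ)) ≤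
        Nat.card (FamI hS (cdeg ξ) true) * (Nat.card (twoPt G a t) * Nat.card (stabP hS ξ)) :=
      calc 2 * cdeg μ * (Nat.card (twoPt G a t) * Nat.card (stabP hS ξ))
          = 2 * (Nat.card (twoPt G a t) * (Nat.card (stabP hS ξ) * cdeg μ)) := by ring
        _ ≤ 2 * (Nat.card (twoPt G a t) * Nat.card T) :=
          Nat.mul_le_mul_left _ (Nat.mul_le_mul_left _ hcount)
        _ ≤ Nat.card (stabP hS ξ) *
              (Nat.card (FamI hS (cdeg ξ) true) * Nat.card (twoPt G a t)) := h1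
        _ = _ := by ring
    exact Nat.le_of_mul_le_mul_right h3 (Nat.mul_pos Nat.card_pos Nat.card_pos)
  haveI := Fintype.ofFinite (FamI hS (cdeg ξ) true)
  haveI := Fintype.ofFinite (FamI hS (dg ((ξ, μ) : Pair Q)) false)
  haveI : Nonempty (FamI hS (cdeg ξ) true) := ⟨famClass hS hA⟩
  haveI : Nonempty (FamI hS (dg ((ξ, μ) : Pair Q)) false) := ⟨famClass hS hB⟩
  obtain ⟨z, hz⟩ := Zs_nonempty hS
  set zH : stabilizer G a := ⟨z, (mem_Zs.1 hz).1⟩ with hzH
  have hθA : ∀ i, famTheta hS h2 (cdeg ξ) true i zH = (tval G a t (cdeg ξ) true : ℂ) := fun i =>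
    theta_apply_famP hS h2 (famP_famRep hS i) hz
  have hθB : ∀ i, famTheta hS h2 (dg ((ξ, μ) : Pair Q)) false i zH =
      (tval G a t (dg ((ξ, μ) : Pair Q)) false : ℂ) := fun i =>
    theta_apply_famP hS h2 (famP_famRep hS i) hz
  have hloc : IsLocal a ((cdeg μ : ℂ) • famTheta hS h2 (cdeg ξ) true (famClass hS hA) -
      famTheta hS h2 (dg ((ξ, μ) : Pair Q)) false (famClass hS hB)) := by
    refine isLocal_of_support hS (fun g h => ?_) ?_ fun g hg => ?_
    · simp only [Pi.sub_apply, Pi.smul_apply, smul_eq_mul, famTheta]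
      rw [isClassFunction_of_isCharacter (isCharacter_theta hS h2 _) g h,
        isClassFunction_of_isCharacter (isCharacter_theta hS h2 _) g h]
    · simp only [Pi.sub_apply, Pi.smul_apply, smul_eq_mul, famTheta]
      rw [theta_one_famP hS h2 (famP_famRep hS _), theta_one_famP hS h2 (famP_famRep hS _), dg]
      push_cast
      ring
    · by_contra hgQ
      refine hg ?_
      simp only [Pi.sub_apply, Pi.smul_apply, smul_eq_mul, famTheta]
      rw [theta_eq_zero hS h2 _ hgQ, theta_eq_zero hS h2 _ hgQ]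
      ring
  have hq := one_lt_q hS h2
  have hne : ((Nat.card (Zsub G a) : ℝ) - 1) ≠ 0 := by linarith
  set D : ℝ := (Nat.card (twoPt G a t) : ℝ) with hD
  set q : ℝ := (Nat.card (Zsub G a) : ℝ) with hqdef
  have hD0 : 0 < D := Nat.cast_pos.2 Nat.card_pos
  have hd0 : (0 : ℝ) < cdeg ξ := Nat.cast_pos.2 (cdeg_pos ξ)
  have hm0 : (0 : ℝ) < cdeg μ := Nat.cast_pos.2 hm
  set val : ℝ := D * cdeg ξ * cdeg μ * (q / (q - 1)) with hvaldef
  have hval : ((cdeg μ : ℂ) • famTheta hS h2 (cdeg ξ) true (famClass hS hA) -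
      famTheta hS h2 (dg ((ξ, μ) : Pair Q)) false (famClass hS hB)) zH = (val : ℂ) := by
    have e : val = (cdeg μ : ℝ) * tval G a t (cdeg ξ) true -
        tval G a t (dg ((ξ, μ) : Pair Q)) false := by
      rw [hvaldef, tval, tval, dg, ← hD, ← hqdef]
      simp only [cond_true, cond_false]
      push_cast
      field_simp
      ring
    simp only [Pi.sub_apply, Pi.smul_apply, smul_eq_mul, hθA, hθB, e]
    push_cast
    rfl
  have hvpos : 0 < val := by
    rw [hvaldef]
    have : 0 < q / (q - 1) := div_pos (by linarith) (by linarith)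
    positivity
  obtain ⟨εA, νA, hνA⟩ := exists_exc (isOrthLocal_fam hS h2 (cdeg ξ) true)
  obtain ⟨εB, νB, hνB⟩ := exists_exc (isOrthLocal_fam hS h2 (dg ((ξ, μ) : Pair Q)) false)
  have main : ∀ (ε : ℤ) (μ' : FamI hS (cdeg ξ) true → Cfsg.IrrCharacter G) (ε' : ℤ)
      (ν' : FamI hS (dg ((ξ, μ) : Pair Q)) false → Cfsg.IrrCharacter G),
      IsExc a (famTheta hS h2 (cdeg ξ) true) ε μ' →
      IsExc a (famTheta hS h2 (dg ((ξ, μ) : Pair Q)) false) ε' ν' →
      (∀ i, |lam a t Q (μ' i)| * (2 * cdeg μ) = |val|) ∧ ∀ j, |lam a t Q (ν' j)| * 2 = |val| := by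
    intro ε μ' ε' ν' h1 h3
    exact lam_of_relation hS h2 (isOrthLocal_fam hS h2 _ true) (isOrthLocal_fam hS h2 _ false)
      (fun i j => classInner_fam_ne hS h2 (Or.inr (by simp)) i j) h1 h3 hm
      (by rw [← Nat.card_eq_fintype_card]; exact hl)
      (by rw [← Nat.card_eq_fintype_card]; exact two_le_fam hS h2 (famClass hS hB))
      hloc hz (fun i j => (hθA i).trans (hθA j).symm) (fun i j => (hθB i).trans (hθB j).symm)
      hval hvpos.ne'
  refine ⟨fun ε ν hν j => ?_, fun ε ν hν i => ?_⟩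
  · have := (main εA νA ε ν hνA hν).2 j
    rw [abs_of_pos hvpos, hvaldef] at this
    rw [LamIs, ← hqdef, ← hD, dg]
    push_cast
    field_simp at this
    linear_combination this
  · have := (main ε ν εB νB hν hνB).1 i
    rw [abs_of_pos hvpos, hvaldef] at this
    rw [LamIs, ← hqdef, ← hD]
    field_simp at this
    linear_combination this

end CfsgLib.RankOneTwo
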