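import Mathlib

/-!
The numerical lemmas of the proof that `Q` is a 2-group.
-/

set_option autoImplicit false

namespace CfsgLib.RankOneTwo

theorem sq_add_four_le {f : ℕ} (hf : 6 ≤ f) : f ^ 2 + 4 ≤ 2 ^ f := by
  induction f, hf using Nat.le_induction with
  | base => norm_num
  | succ n hn ih =>
    rw [pow_succ 2 n]
    nlinarith

/-- enough free orbits: `e m ≤ j (2^f - 2)` -/
theorem free_enough {f e m j : ℕ} (hf : 2 ≤ f) (he : e ≤ f) (hodd : Odd e) (hj : 1 ≤ j)
    (hm : m ^ 2 ≤ 1 + j * (2 ^ f - 1)) : e * m ≤ j * (2 ^ f - 2) := by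
  have h4 : 4 ≤ 2 ^ f := by
    calc 4 = 2 ^ 2 := by norm_num
      _ ≤ 2 ^ f := Nat.pow_le_pow_right (by norm_num) hf
  obtain ⟨q1, hq1⟩ : ∃ q1, 2 ^ f = q1 + 2 := ⟨2 ^ f - 2, by omega⟩
  rw [hq1] at hm ⊢
  rw [show q1 + 2 - 1 = q1 + 1 by omega] at hm
  rw [show q1 + 2 - 2 = q1 by omega]
  by_contra hlt
  push Not at hlt
  have hsq : (j * q1) ^ 2 < e ^ 2 * (1 + j * (q1 + 1)) :=
    lt_of_lt_of_le (Nat.pow_lt_pow_left hlt two_ne_zero)
      (by rw [mul_pow]; exact Nat.mul_le_mul_left _ hm)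
  rcases Nat.lt_or_ge f 6 with hf6 | hf6
  · have he5 : e ≤ 5 := le_trans he (by omega)
    interval_cases f
    · have hq : q1 = 2 := by norm_num at hq1; omega
      subst hq
      obtain ⟨r, rfl⟩ := hodd
      have hr : r = 0 := by omega
      subst hr
      nlinarith
    · have hq : q1 = 6 := by norm_num at hq1; omega
      subst hq
      rcases Nat.lt_or_ge j 2 with hj2 | hj2
      · have hj1 : j = 1 := by omega
        subst hj1
        have hm2 : m ≤ 2 := by nlinarith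
        nlinarith
      · have : e ^ 2 ≤ 9 := by nlinarith
        nlinarith
    · have hq : q1 = 14 := by norm_num at hq1; omega
      subst hq
      have he3 : e ≤ 3 := by
        obtain ⟨r, rfl⟩ := hodd
        omega
      rcases Nat.lt_or_ge j 2 with hj2 | hj2
      · have hj1 : j = 1 := by omega
        subst hj1
        have hm4 : m ≤ 4 := by nlinarith
        nlinarith
      · have : e ^ 2 ≤ 9 := by nlinarith
        nlinarith
    · have hq : q1 = 30 := by norm_num at hq1; omega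
      subst hq
      rcases Nat.lt_or_ge j 2 with hj2 | hj2
      · have hj1 : j = 1 := by omega
        subst hj1
        have hm5 : m ≤ 5 := by nlinarith
        nlinarith
      · have : e ^ 2 ≤ 25 := by nlinarith
        nlinarith
  · have h1 := sq_add_four_le hf6
    rw [hq1] at h1
    have he2 : e ^ 2 ≤ f ^ 2 := Nat.pow_le_pow_left he 2
    have h2 : e ^ 2 * (q1 + 2) ≤ q1 * q1 := by nlinarith
    nlinarith [Nat.mul_le_mul_left j h2, Nat.mul_le_mul_right (q1 * q1) (Nat.mul_le_mul_left j hj)]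

/-- the final inequality cannot hold -/
theorem false_of_weight {f P S W : ℕ} (hf : 2 ≤ f) (hS : 2 ^ f ≤ S) (hP : 2 * 2 ^ f - 1 ≤ P)
    (hW2 : f = 2 → W = S * (P - 1)) (hW : 3 ≤ f → S * (P - 1) * (2 ^ f - 2) ≤ W * 2 ^ f)
    (h : W * (2 ^ f) ^ 2 * (S * P + 1) ≤
      S * P * (4 * (S * P + 1) * (2 ^ f - 1) + (2 ^ f - 2) ^ 2)) : False := by
  have h4 : 4 ≤ 2 ^ f := by
    calc 4 = 2 ^ 2 := by norm_num
      _ ≤ 2 ^ f := Nat.pow_le_pow_right (by norm_num) hf
  obtain ⟨q1, hq1⟩ : ∃ q1, 2 ^ f = q1 + 2 := ⟨2 ^ f - 2, by omega⟩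
  obtain ⟨p, rfl⟩ : ∃ p, P = p + 1 := ⟨P - 1, by omega⟩
  rw [Nat.add_sub_cancel] at hW2 hW
  rw [hq1, show q1 + 2 - 1 = q1 + 1 by omega, show q1 + 2 - 2 = q1 by omega] at h
  rw [hq1] at hS hP
  have hp : 2 * q1 + 2 ≤ p := by omega
  have hS0 : 0 < S := by omega
  set n := S * (p + 1) + 1 with hn
  have hn' : q1 + 2 ≤ n := by nlinarith
  rcases Nat.lt_or_ge f 3 with hf3 | hf3
  · have hf2 : f = 2 := by omega
    have hq : q1 = 2 := by subst hf2; norm_num at hq1; omega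
    subst hq
    rw [hW2 hf2] at h
    have h' : p * 16 * n ≤ (p + 1) * (12 * n + 4) := by
      refine Nat.le_of_mul_le_mul_left ?_ hS0
      nlinarith
    nlinarith
  · have hq6 : 6 ≤ q1 := by
      have : 2 ^ 3 ≤ 2 ^ f := Nat.pow_le_pow_right (by norm_num) hf3
      omega
    have hW' := hW hf3
    rw [hq1, show q1 + 2 - 2 = q1 by omega] at hW'
    have h1 : S * p * q1 * ((q1 + 2) * n) ≤ W * (q1 + 2) * ((q1 + 2) * n) := Nat.mul_le_mul_right _ hW'
    have h' : p * q1 * (q1 + 2) * n ≤ (p + 1) * (4 * n * (q1 + 1) + q1 ^ 2) := by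
      refine Nat.le_of_mul_le_mul_left ?_ hS0
      nlinarith
    have h2 : (p + 1) * (4 * n * (q1 + 1) + q1 ^ 2) ≤ (p + 1) * (5 * (q1 + 1) * n) := by
      refine Nat.mul_le_mul_left _ ?_
      nlinarith
    have h3 : p * q1 * (q1 + 2) ≤ (p + 1) * (5 * (q1 + 1)) := by
      refine Nat.le_of_mul_le_mul_right ?_ (show 0 < n by omega)
      calc _ ≤ _ := h'.trans h2
        _ = _ := by ring
    have hp14 : 14 * (p + 1) ≤ 15 * p := by omega
    have h4' : 14 * (p * q1 * (q1 + 2)) ≤ 15 * p * (5 * (q1 + 1)) :=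
      calc _ ≤ 14 * ((p + 1) * (5 * (q1 + 1))) := Nat.mul_le_mul_left _ h3
        _ = 14 * (p + 1) * (5 * (q1 + 1)) := by ring
        _ ≤ _ := Nat.mul_le_mul_right _ hp14
    have h5 : 14 * (q1 * (q1 + 2)) ≤ 75 * (q1 + 1) := by
      refine Nat.le_of_mul_le_mul_left ?_ (show 0 < p by omega)
      linarith [h4']
    nlinarith

end CfsgLib.RankOneTwo
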