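import Cfsg.Agent.Lib.RankOneInvol.Involutions
import Cfsg.Agent.Lib.Blocks.ClassCount
import Cfsg.Agent.Lib.Characters.Induction
import Cfsg.Agent.Lib.RankOne.Basic

/-!
Counting involution pairs in a rank one set-up, and the two linear identities satisfied by the
multiplicities of a function induced from functions supported on elements fixing only `a`.
-/

set_option autoImplicit false

noncomputable section

namespace CfsgLib.RankOneTwo

open CfsgLib.RankOneInvol CfsgLib.ClassCount CfsgLib.Characters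
open MulAction (stabilizer mem_stabilizer_iff)
open scoped ComplexConjugate

universe u v

variable {G : Type u} {Ω : Type v} [Group G] [MulAction G Ω] {a : Ω} {t : G} {Q : Subgroup G}

/-- `g` fixes no point other than `a` -/
def OnlyFix (a : Ω) (g : G) : Prop := ∀ c : Ω, g • c = c → c = a

/-- a class function on `G_a`, zero at `1`, supported on elements fixing only `a` -/
structure IsLocal (a : Ω) (f : stabilizer G a → ℂ) : Prop where
  cls : Cfsg.IsClassFunction (stabilizer G a) f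
  one : f 1 = 0
  supp : ∀ h : stabilizer G a, f h ≠ 0 → OnlyFix a (h : G)

theorem OnlyFix.conj_iff {g h : G} (hg : g • a = a) :
    OnlyFix a (g * h * g⁻¹) ↔ OnlyFix a h := by
  constructor
  · intro hh c hc
    have h1 := hh (g • c) (by rw [mul_smul, mul_smul, inv_smul_smul, hc])
    rw [← inv_smul_smul g c, h1, inv_smul_eq_iff, hg]
  · intro hh c hc
    rw [mul_smul, mul_smul, ← eq_inv_smul_iff] at hc
    have h1 := hh _ hc
    rw [← smul_inv_smul g c, h1, hg]

theorem IsLocal.sub {f f' : stabilizer G a → ℂ} (hf : IsLocal a f) (hf' : IsLocal a f') :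
    IsLocal a (f - f') := by
  refine ⟨fun g h => ?_, ?_, fun h hh => ?_⟩
  · simp only [Pi.sub_apply, hf.cls g h, hf'.cls g h]
  · simp [hf.one, hf'.one]
  · by_cases h1 : f h = 0
    · refine hf'.supp h fun h2 => hh ?_
      simp [h1, h2]
    · exact hf.supp h h1

variable [Fintype G]

open scoped Classical in
/-- the involutions fixing `a` -/
def Zs (G : Type u) [Group G] [Fintype G] {Ω : Type v} [MulAction G Ω] (a : Ω) : Finset G :=
  Finset.univ.filter fun z => z • a = a ∧ z ≠ 1 ∧ z * z = 1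

theorem mem_Zs {z : G} : z ∈ Zs G a ↔ z • a = a ∧ z ≠ 1 ∧ z * z = 1 := by
  classical
  simp [Zs]

theorem mem_Zs_iff {z : G} :
    z ∈ Zs G a ↔ z ∈ Cfsg.involutionsIn (stabilizer G a : Set G) := mem_Zs

variable (hS : Cfsg.IsRankOneSetup G Ω a t Q)
include hS

theorem mem_cls_t {x : G} : x ∈ cls t ↔ x ≠ 1 ∧ x * x = 1 := by
  rw [mem_cls]
  constructor
  · intro h
    obtain ⟨g, rfl⟩ := isConj_iff.1 h
    refine ⟨conj_ne_one hS.ne_one g, ?_⟩
    calc g * t * g⁻¹ * (g * t * g⁻¹) = g * (t * t) * g⁻¹ := by group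
      _ = 1 := by rw [hS.mul_self]; group
  · rintro ⟨h1, h2⟩
    obtain ⟨g, hg⟩ := invol_conj hS hS.ne_one hS.mul_self h1 h2
    exact isConj_iff.2 ⟨g, hg⟩

theorem onlyFix_invol {z : G} (hz : z ∈ Zs G a) : OnlyFix a z := fun _ hc =>
  invol_eq_of_fixed hS (mem_Zs.1 hz).2.1 (mem_Zs.1 hz).2.2 hc (mem_Zs.1 hz).1

theorem card_cls_t : (cls t).card = (Nat.card Q + 1) * (Zs G a).card := by
  classical
  haveI := finite_omega hS
  haveI : Fintype Ω := Fintype.ofFinite Ω
  have hQ : Nat.card Ω = Nat.card Q + 1 := by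
    have hb : Function.Bijective (fun q : Q =>
        (⟨(q : G) • t • a, fun h => ta_ne hS (by
          rw [← inv_smul_smul (q : G) (t • a), h]
          exact Q_smul hS (Q.inv_mem q.2))⟩ : {c : Ω // c ≠ a})) := by
      constructor
      · intro x y h
        exact Subtype.ext (Q_inj hS x.2 y.2 (congrArg Subtype.val h))
      · rintro ⟨c, hc⟩
        obtain ⟨q, hq, hqc⟩ := Q_trans hS hc
        exact ⟨⟨q, hq⟩, Subtype.ext hqc⟩
    rw [Nat.card_eq_of_bijective _ hb, ← Finite.card_option]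
    exact (Nat.card_congr (Equiv.optionSubtypeNe a)).symm
  rw [← hQ, Nat.card_eq_fintype_card]
  have hfib : ∀ c : Ω, ((cls t).filter fun x => x • c = c).card = (Zs G a).card := by
    intro c
    obtain ⟨g, rfl⟩ := exists_smul hS c
    refine Finset.card_bij (fun x _ => g⁻¹ * x * g) (fun x hx => ?_)
      (fun x _ y _ h => mul_left_cancel (mul_right_cancel h)) (fun z hz => ?_)
    · obtain ⟨hx1, hx2⟩ := Finset.mem_filter.1 hx
      rw [mem_cls_t hS] at hx1
      refine mem_Zs.2 ⟨by rw [mul_smul, mul_smul, hx2, inv_smul_smul], conj_ne_one' hx1.1 g, ?_⟩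
      calc g⁻¹ * x * g * (g⁻¹ * x * g) = g⁻¹ * (x * x) * g := by group
        _ = 1 := by rw [hx1.2]; group
    · obtain ⟨hza, hz1, hz2⟩ := mem_Zs.1 hz
      refine ⟨g * z * g⁻¹, Finset.mem_filter.2 ⟨(mem_cls_t hS).2 ⟨conj_ne_one hz1 g, ?_⟩, ?_⟩, by group⟩
      · calc g * z * g⁻¹ * (g * z * g⁻¹) = g * (z * z) * g⁻¹ := by group
          _ = 1 := by rw [hz2]; group
      · rw [mul_smul, mul_smul, inv_smul_smul, hza]
  have hone : ∀ x ∈ cls t, (Finset.univ.filter fun c : Ω => x • c = c).card = 1 := by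
    intro x hx
    obtain ⟨h1, h2⟩ := (mem_cls_t hS).1 hx
    obtain ⟨c, hc⟩ := exists_fixed hS h2
    refine Finset.card_eq_one.2 ⟨c, ?_⟩
    ext d
    simp only [Finset.mem_filter, Finset.mem_univ, true_and, Finset.mem_singleton]
    exact ⟨fun hd => invol_eq_of_fixed hS h1 h2 hd hc, fun hd => hd ▸ hc⟩
  calc (cls t).card = ∑ x ∈ cls t, (Finset.univ.filter fun c : Ω => x • c = c).card := by
        rw [Finset.sum_congr rfl hone, Finset.sum_const, smul_eq_mul, mul_one]
    _ = ∑ c : Ω, ((cls t).filter fun x => x • c = c).card := by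
        simp only [Finset.card_filter]
        rw [Finset.sum_comm]
    _ = _ := by
        rw [Finset.sum_congr rfl fun c _ => hfib c, Finset.sum_const, Finset.card_univ, smul_eq_mul]

theorem Zs_nonempty : (Zs G a).Nonempty := by
  obtain ⟨s, r, h⟩ := exists_paired_right hS (isSwap_t hS)
  exact ⟨s, mem_Zs_iff.2 h.1⟩

theorem IsLocal.eq_on_Zs {f : stabilizer G a → ℂ} (hf : Cfsg.IsClassFunction (stabilizer G a) f)
    {z z' : stabilizer G a} (hz : (z : G) ∈ Zs G a) (hz' : (z' : G) ∈ Zs G a) : f z' = f z := by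
  obtain ⟨e, he⟩ := conj_invol_bijective hS (mem_Zs_iff.1 hz)
  obtain ⟨k, hk⟩ := e.surjective ⟨(z' : G), mem_Zs_iff.1 hz'⟩
  have hke : (z' : G) = (k : G)⁻¹ * (z : G) * k := by rw [← he k, hk]
  have hkH : (k : G) ∈ stabilizer G a := ((mem_invSet hS).1 k.2).1.1
  have : z' = (⟨(k : G), hkH⟩⁻¹ : stabilizer G a) * z * (⟨(k : G), hkH⟩⁻¹ : stabilizer G a)⁻¹ :=
    Subtype.ext (by
      show (z' : G) = (k : G)⁻¹ * (z : G) * ((k : G)⁻¹)⁻¹
      rw [inv_inv, hke])
  rw [this, hf]

variable [Fintype (stabilizer G a)]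

open scoped Classical in
theorem sum_Zs {f : stabilizer G a → ℂ} (hf : Cfsg.IsClassFunction (stabilizer G a) f)
    {z : stabilizer G a} (hz : (z : G) ∈ Zs G a) :
    ∑ x : stabilizer G a, (if (x : G) ∈ Zs G a then f x else 0) = (Zs G a).card * f z := by
  rw [← Finset.sum_filter, Finset.sum_congr rfl fun x hx =>
    IsLocal.eq_on_Zs hS hf hz (Finset.mem_filter.1 hx).2, Finset.sum_const, nsmul_eq_mul]
  congr 2
  refine Finset.card_bij (fun x _ => (x : G)) (fun x hx => (Finset.mem_filter.1 hx).2)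
    (fun x _ y _ h => Subtype.ext h) fun g hg =>
      ⟨⟨g, (mem_Zs.1 hg).1⟩, Finset.mem_filter.2 ⟨Finset.mem_univ _, hg⟩, rfl⟩

variable (h2 : ∃ x y : G, x ≠ 1 ∧ y ≠ 1 ∧ x ≠ y ∧ x * x = 1 ∧ y * y = 1 ∧ x * y = y * x)
include h2

omit [Fintype (stabilizer G a)] in
/-- the number of pairs of involutions with product a given element fixing only `a` -/
theorem card_pairs_onlyFix {y : G} (hy : y • a = a) (hy1 : y ≠ 1) (hf : OnlyFix a y) :
    (y ∈ Zs G a → (pairs t t {y}).card = (Zs G a).card - 1) ∧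
      (y ∉ Zs G a → (pairs t t {y}).card = 0) := by
  classical
  have key : ∀ p ∈ pairs t t {y}, p.1 ∈ Zs G a ∧ p.2 ∈ Zs G a := by
    intro p hp
    obtain ⟨hp, hprod⟩ := Finset.mem_filter.1 hp
    obtain ⟨hu, hw⟩ := Finset.mem_product.1 hp
    rw [mem_cls_t hS] at hu hw
    rw [Finset.mem_singleton] at hprod
    have hua : p.1 • a = a := by
      apply hf
      have : y * p.1 = p.1 * y⁻¹ := by
        rw [← hprod, mul_inv_rev, inv_eq_of_mul_eq_one_right hu.2, inv_eq_of_mul_eq_one_right hw.2,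
          mul_assoc]
      rw [smul_smul, this, mul_smul, inv_smul_eq_iff.2 hy.symm]
    have hwy : p.2 = p.1 * y := by rw [← hprod, ← mul_assoc, hu.2, one_mul]
    exact ⟨mem_Zs.2 ⟨hua, hu⟩, mem_Zs.2 ⟨by rw [hwy, mul_smul, hy, hua], hw⟩⟩
  constructor
  · intro hyZ
    have : pairs t t {y} = ((Zs G a).erase y).image fun u => (u, u * y) := by
      ext p
      constructor
      · intro hp
        obtain ⟨hu, hw⟩ := key p hp
        have hprod := Finset.mem_singleton.1 (Finset.mem_filter.1 hp).2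
        have hwy : p.2 = p.1 * y := by rw [← hprod, ← mul_assoc, (mem_Zs.1 hu).2.2, one_mul]
        refine Finset.mem_image.2 ⟨p.1, Finset.mem_erase.2 ⟨fun e => (mem_Zs.1 hw).2.1 ?_, hu⟩, ?_⟩
        · rw [hwy, e, (mem_Zs.1 hyZ).2.2]
        · rw [← hwy]
      · intro hp
        obtain ⟨u, hu, rfl⟩ := Finset.mem_image.1 hp
        obtain ⟨hne, hu⟩ := Finset.mem_erase.1 hu
        obtain ⟨hua, hu1, hu2⟩ := mem_Zs.1 hu
        have huy : u * y ≠ 1 := fun e => hne (by
          rw [← inv_eq_of_mul_eq_one_right hu2, inv_eq_of_mul_eq_one_right e])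
        have hmem : u * y ∈ Cfsg.involutionsIn (stabilizer G a : Set G) :=
          (invol_mul hS h2 (mem_Zs_iff.1 hu) (mem_Zs_iff.1 hyZ)).resolve_left huy
        refine Finset.mem_filter.2 ⟨Finset.mem_product.2 ⟨(mem_cls_t hS).2 ⟨hu1, hu2⟩,
          (mem_cls_t hS).2 ⟨(mem_invols.1 hmem).2.1, (mem_invols.1 hmem).2.2⟩⟩, ?_⟩
        rw [Finset.mem_singleton, ← mul_assoc, hu2, one_mul]
    rw [this, Finset.card_image_of_injective _ (fun x y h => (Prod.ext_iff.1 h).1),
      Finset.card_erase_of_mem hyZ]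
  · intro hyZ
    rw [Finset.card_eq_zero, Finset.eq_empty_iff_forall_notMem]
    intro p hp
    obtain ⟨hu, hw⟩ := key p hp
    have hprod := Finset.mem_singleton.1 (Finset.mem_filter.1 hp).2
    rcases invol_mul hS h2 (mem_Zs_iff.1 hu) (mem_Zs_iff.1 hw) with h | h
    · exact hy1 (hprod ▸ h)
    · exact hyZ (mem_Zs_iff.2 (hprod ▸ h))

/-- `Σ <Ind f, χ> χ(t)² / χ(1)` for local `f` -/
theorem sum_sq_identity {f : stabilizer G a → ℂ} (hf : IsLocal a f) {z : stabilizer G a}
    (hz : (z : G) ∈ Zs G a) :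
    ∑ χ : Cfsg.IrrCharacter G, Cfsg.classInner (Cfsg.indFun (stabilizer G a) f) (χ : G → ℂ) *
        ((χ : G → ℂ) t ^ 2 / (χ : G → ℂ) 1) =
      (((Zs G a).card : ℂ) - 1) / (((Nat.card Q : ℂ) + 1) * (Zs G a).card) * f z := by
  classical
  set C : ℂ := ((cls t).card : ℂ) with hC
  have hC0 : C ≠ 0 := Nat.cast_ne_zero.2 (Finset.card_ne_zero.2 ⟨t, mem_cls_self t⟩)
  have hN : ∀ y : G, ((pairs t t {y}).card : ℂ) * Nat.card G =
      C ^ 2 * ∑ χ : Cfsg.IrrCharacter G, (χ : G → ℂ) t ^ 2 / (χ : G → ℂ) 1 * conj ((χ : G → ℂ) y) := by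
    intro y
    rw [card_pairs_mul, Finset.mul_sum]
    refine Finset.sum_congr rfl fun χ _ => ?_
    have h1 : (χ : G → ℂ) 1 ≠ 0 := irr_one_ne_zero χ
    rw [Finset.sum_singleton, irr_apply_inv, Cfsg.centralChar, hC, card_cls]
    field_simp
  set N : G → ℂ := fun y => ((pairs t t {y}).card : ℂ) with hNdef
  have hNcls : Cfsg.IsClassFunction G N := by
    intro g h
    have hG : (Nat.card G : ℂ) ≠ 0 := Nat.cast_ne_zero.2 Nat.card_pos.ne'
    apply mul_right_cancel₀ hG
    rw [hNdef]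
    simp only
    rw [hN, hN]
    simp only [irr_isClassFunction _ g h]
  have h1 : ∑ χ : Cfsg.IrrCharacter G,
      Cfsg.classInner (Cfsg.indFun (stabilizer G a) f) (χ : G → ℂ) * ((χ : G → ℂ) t ^ 2 / (χ : G → ℂ) 1)
      = (C ^ 2)⁻¹ * ∑ y : G, Cfsg.indFun (stabilizer G a) f y * N y := by
    have hG : (Nat.card G : ℂ) ≠ 0 := Nat.cast_ne_zero.2 Nat.card_pos.ne'
    have h3 : ∀ y, N y = (Nat.card G : ℂ)⁻¹ * (C ^ 2 * ∑ χ : Cfsg.IrrCharacter G,
        (χ : G → ℂ) t ^ 2 / (χ : G → ℂ) 1 * conj ((χ : G → ℂ) y)) := fun y => by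
      rw [← hN y, hNdef]
      field_simp
    simp only [h3, Cfsg.classInner, Finset.mul_sum, Finset.sum_mul]
    rw [Finset.sum_comm]
    refine Finset.sum_congr rfl fun y _ => Finset.sum_congr rfl fun χ _ => ?_
    field_simp
  have h4 : ∑ y : G, Cfsg.indFun (stabilizer G a) f y * N y =
      (Nat.card G : ℂ) / (Nat.card (stabilizer G a) : ℂ) * ∑ h : stabilizer G a, f h * N h := by
    have h5 := Induction.sum_indFun_mul (stabilizer G a) f hNcls
    rw [div_eq_mul_inv, mul_assoc, ← h5, ← mul_assoc, mul_inv_cancel₀ (Nat.cast_ne_zero.2 Nat.card_pos.ne'),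
      one_mul]
  have h6 : ∀ h : stabilizer G a, f h * N h =
      if (h : G) ∈ Zs G a then (((Zs G a).card : ℂ) - 1) * f h else 0 := by
    intro h
    by_cases h0 : f h = 0
    · simp [h0]
    have hne : (h : G) ≠ 1 := fun e => h0 (by rw [show h = 1 from Subtype.ext e, hf.one])
    obtain ⟨e1, e2⟩ := card_pairs_onlyFix hS h2 h.2 hne (hf.supp h h0)
    by_cases hh : (h : G) ∈ Zs G a
    · rw [if_pos hh, hNdef]
      simp only
      rw [e1 hh, Nat.cast_sub (Finset.card_pos.2 ⟨_, hh⟩), Nat.cast_one, mul_comm]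
    · rw [if_neg hh, hNdef]
      simp only
      rw [e2 hh, Nat.cast_zero, mul_zero]
  have h7 : ∑ h : stabilizer G a, f h * N h = (((Zs G a).card : ℂ) - 1) * ((Zs G a).card * f z) := by
    rw [Finset.sum_congr rfl fun h _ => h6 h, ← sum_Zs hS hf.cls hz, Finset.mul_sum]
    exact Finset.sum_congr rfl fun h _ => by split_ifs <;> simp
  have hidx : (Nat.card G : ℂ) = (Nat.card (stabilizer G a) : ℂ) * ((Nat.card Q : ℂ) + 1) := by
    have hidx' : Nat.card G = Nat.card (stabilizer G a) * (Nat.card Q + 1) := by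
      haveI := finite_omega hS
      have hp : MulAction.IsPretransitive G Ω := ⟨fun x y => by
        obtain ⟨g, rfl⟩ := exists_smul hS x
        obtain ⟨g', rfl⟩ := exists_smul hS y
        exact ⟨g' * g⁻¹, by rw [mul_smul, inv_smul_smul]⟩⟩
      have hi := MulAction.index_stabilizer_of_transitive G a
      rw [← Subgroup.card_mul_index (stabilizer G a), hi]
      congr 1
      exact CfsgLib.RankOne.card_omega hS
    exact_mod_cast hidx'
  rw [h1, h4, h7, hidx]
  have hC' : C = ((Nat.card Q : ℂ) + 1) * (Zs G a).card := by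
    rw [hC, card_cls_t hS]; push_cast; ring
  have hH : (Nat.card (stabilizer G a) : ℂ) ≠ 0 := Nat.cast_ne_zero.2 Nat.card_pos.ne'
  rw [hC'] at hC0 ⊢
  obtain ⟨hn0, hz0⟩ := mul_ne_zero_iff.1 hC0
  field_simp

omit h2 in
/-- the value of an induced local function at `t` -/
theorem indFun_t {f : stabilizer G a → ℂ} (hf : Cfsg.IsClassFunction (stabilizer G a) f)
    {z : stabilizer G a} (hz : (z : G) ∈ Zs G a) :
    Cfsg.indFun (stabilizer G a) f t = f z := by
  classical
  let δ : G → ℂ := fun x => if x ∈ cls t then 1 else 0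
  have hδ : Cfsg.IsClassFunction G δ := fun g h => by
    have h0 : IsConj g (h * g * h⁻¹) := isConj_iff.2 ⟨h, rfl⟩
    have : h * g * h⁻¹ ∈ cls t ↔ g ∈ cls t := by
      rw [mem_cls, mem_cls]
      exact ⟨fun e => e.trans h0.symm, fun e => e.trans h0⟩
    simp [δ, this]
  have h5 := Induction.sum_indFun_mul (stabilizer G a) f hδ
  have hl : ∑ g : G, Cfsg.indFun (stabilizer G a) f g * δ g =
      (cls t).card * Cfsg.indFun (stabilizer G a) f t := by
    simp only [δ, mul_ite, mul_one, mul_zero]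
    rw [Finset.sum_ite_mem, Finset.univ_inter, Finset.sum_congr rfl fun x hx =>
      (classFunction_eq_of_isConj (Induction.isClassFunction_indFun _ f) (mem_cls.1 hx)).symm,
      Finset.sum_const, nsmul_eq_mul]
  have hr : ∑ h : stabilizer G a, f h * δ h = (Zs G a).card * f z := by
    rw [← sum_Zs hS hf hz]
    refine Finset.sum_congr rfl fun h _ => ?_
    have : (h : G) ∈ cls t ↔ (h : G) ∈ Zs G a := by
      rw [mem_cls_t hS, mem_Zs]
      exact ⟨fun e => ⟨h.2, e⟩, fun e => e.2⟩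
    simp [δ, this]
  rw [hl, hr, card_cls_t hS] at h5
  have hidx : (Nat.card G : ℂ) = (Nat.card (stabilizer G a) : ℂ) * ((Nat.card Q : ℂ) + 1) := by
    rw [CfsgLib.RankOne.card_group hS, CfsgLib.RankOne.card_stabilizer hS]
    push_cast
    ring
  have hH : (Nat.card (stabilizer G a) : ℂ) ≠ 0 := Nat.cast_ne_zero.2 Nat.card_pos.ne'
  have hn : ((Nat.card Q : ℂ) + 1) ≠ 0 := by exact_mod_cast Nat.succ_ne_zero (Nat.card Q)
  have hzs : ((Zs G a).card : ℂ) ≠ 0 := Nat.cast_ne_zero.2 (Finset.card_ne_zero.2 ⟨_, hz⟩)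
  rw [hidx] at h5
  push_cast at h5
  field_simp at h5
  linear_combination h5

end CfsgLib.RankOneTwo
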