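import Cfsg.Agent.Lib.RankOneTwo.Fam
import Cfsg.Agent.Lib.Characters.Extension

/-!
The value of `L` when the 2-part of `Q` is `Z` and the character of the odd part is stabilised:
pairs of constituents of two induced characters against the free family.
-/

set_option autoImplicit false

noncomputable section

namespace CfsgLib.RankOneTwo

open CfsgLib.RankOneInvol CfsgLib.Characters
open MulAction (stabilizer mem_stabilizer_iff)

universe u v

section Sums

variable {X : Type u} [Group X] [Fintype X] {ι : Type*} [Fintype ι]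

theorem classInner_self_ne_zero {θ : X → ℂ} (h : θ 1 ≠ 0) : Cfsg.classInner θ θ ≠ 0 := by
  intro e
  unfold Cfsg.classInner at e
  rw [mul_eq_zero, inv_eq_zero, or_iff_right (Nat.cast_ne_zero.2 Nat.card_pos.ne'),
    Finset.sum_congr rfl fun g _ => Complex.mul_conj (θ g)] at e
  have e' : ∑ g : X, Complex.normSq (θ g) = 0 := by exact_mod_cast e
  rw [Finset.sum_eq_zero_iff_of_nonneg fun g _ => Complex.normSq_nonneg _] at e'
  exact h (Complex.normSq_eq_zero.1 (e' 1 (Finset.mem_univ _)))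

/-- characters whose sum is orthogonal to a character are orthogonal to it -/
theorem zero_of_sum {θ : ι → X → ℂ} (hθ : ∀ i, Cfsg.IsCharacter X (θ i)) {ψ : X → ℂ}
    (hψ : Cfsg.IsCharacter X ψ) (h : Cfsg.classInner (∑ i, θ i) ψ = 0) (i : ι) :
    Cfsg.classInner (θ i) ψ = 0 := by
  have hn : ∀ i, ∃ n : ℕ, Cfsg.classInner (θ i) ψ = n := fun i => classInner_char_nat (hθ i) hψ
  choose n hn using hn
  rw [classInner_sum_left] at h
  simp only [hn] at h
  rw [← Nat.cast_sum, Nat.cast_eq_zero, Finset.sum_eq_zero_iff] at h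
  rw [hn, h i (Finset.mem_univ i), Nat.cast_zero]

/-- `n` nonzero characters whose sum has norm `n` are orthonormal -/
theorem orth_of_sum [DecidableEq ι] {θ : ι → X → ℂ} (hθ : ∀ i, Cfsg.IsCharacter X (θ i))
    (h1 : ∀ i, θ i 1 ≠ 0) (h : Cfsg.classInner (∑ i, θ i) (∑ i, θ i) = (Fintype.card ι : ℂ))
    (i j : ι) : Cfsg.classInner (θ i) (θ j) = if i = j then 1 else 0 := by
  have hn : ∀ i j, ∃ n : ℕ, Cfsg.classInner (θ i) (θ j) = n := fun i j =>
    classInner_char_nat (hθ i) (hθ j)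
  choose n hn using hn
  have hpos : ∀ i, 1 ≤ n i i := fun i => Nat.one_le_iff_ne_zero.2 fun e =>
    classInner_self_ne_zero (h1 i) (by rw [hn, e, Nat.cast_zero])
  rw [classInner_sum_left, Finset.sum_congr rfl fun i _ => classInner_sum_right _ (θ i) θ] at h
  simp only [hn] at h
  have h' : ∑ i : ι, ∑ j : ι, n i j = Fintype.card ι := by exact_mod_cast h
  rw [Fintype.card, Finset.card_eq_sum_ones] at h'
  have hrow : ∀ i : ι, ∑ j : ι, n i j = 1 := fun i =>
    ((Finset.sum_eq_sum_iff_of_le fun i _ => (hpos i).trans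
      (Finset.single_le_sum (fun j _ => Nat.zero_le (n i j)) (Finset.mem_univ i))).1 h'.symm i
        (Finset.mem_univ i)).symm
  rw [hn]
  have hi : n i i = 1 :=
    le_antisymm ((Finset.single_le_sum (fun j _ => Nat.zero_le (n i j)) (Finset.mem_univ i)).trans
      (le_of_eq (hrow i))) (hpos i)
  rcases eq_or_ne i j with rfl | hij
  · rw [if_pos rfl, hi, Nat.cast_one]
  · rw [if_neg hij]
    have h0 : n i j = 0 := by
      have h2 := Finset.sum_le_sum_of_subset (f := fun k => n i k) (Finset.subset_univ {i, j})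
      rw [Finset.sum_pair hij, hrow, hi] at h2
      omega
    rw [h0, Nat.cast_zero]

end Sums

section Cyclic

variable {E : Type u} [Group E] [Finite E]

open scoped Classical in
theorem sum_hom_apply [IsCyclic E] [Fintype (E →* ℂˣ)] (x : E) :
    ∑ l : E →* ℂˣ, (l x : ℂ) = if x = 1 then (Nat.card E : ℂ) else 0 := by
  letI : CommGroup E :=
    { (inferInstance : Group E) with mul_comm := IsCyclic.commutative.is_comm.comm }
  haveI : NeZero (Monoid.exponent E : ℂ) :=
    ⟨Nat.cast_ne_zero.mpr Monoid.exponent_ne_zero_of_finite⟩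
  split_ifs with h
  · subst h
    have hc : Nat.card (E →* ℂˣ) = Nat.card E :=
      CommGroup.card_monoidHom_of_hasEnoughRootsOfUnity E ℂ
    simp only [map_one, Units.val_one, Finset.sum_const, Finset.card_univ, nsmul_eq_mul, mul_one]
    rw [← Nat.card_eq_fintype_card, hc]
  · obtain ⟨l₀, hl₀⟩ := CommGroup.exists_apply_ne_one_of_hasEnoughRootsOfUnity E ℂ h
    have hne : (l₀ x : ℂ) ≠ 1 := fun e => hl₀ (Units.ext e)
    have e : ∑ l : E →* ℂˣ, (l x : ℂ) = (l₀ x : ℂ) * ∑ l : E →* ℂˣ, (l x : ℂ) := by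
      conv_lhs => rw [← Equiv.sum_comp (Equiv.mulLeft l₀) fun l : E →* ℂˣ => (l x : ℂ)]
      simp [Finset.mul_sum]
    have : ((l₀ x : ℂ) - 1) * ∑ l : E →* ℂˣ, (l x : ℂ) = 0 := by linear_combination -e
    exact (mul_eq_zero.1 this).resolve_left (sub_ne_zero.2 hne)

end Cyclic

variable {G : Type u} {Ω : Type v} [Group G] [MulAction G Ω] {a : Ω} {t : G} {Q : Subgroup G}
  [Finite G] (hS : Cfsg.IsRankOneSetup G Ω a t Q)
  (h2 : ∃ x y : G, x ≠ 1 ∧ y ≠ 1 ∧ x ≠ y ∧ x * x = 1 ∧ y * y = 1 ∧ x * y = y * x)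

/-- the `Q`-component of an element of `G_a` -/
def qPart (h : stabilizer G a) : QH G a Q :=
  ⟨⟨(h : G) * (projD hS h : G)⁻¹, hS.le (projD_mem hS h)⟩, projD_mem hS h⟩

/-- the `S`-component of an element of `G_a` -/
def sPart (h : stabilizer G a) : Sp Q := (eQH hS h2 (qPart hS h)).2

theorem sPart_mul (x y : stabilizer G a) :
    sPart hS h2 (x * y) = sPart hS h2 x * (dAut (hSn hS) (projD hS x) (sPart hS h2 y)) := by
  obtain ⟨p, hp⟩ : ∃ p : Pp Q, (p : G) = (projD hS x : G) * ((eQH hS h2 (qPart hS y)).1 : G) *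
      (projD hS x : G)⁻¹ := ⟨dAut (hPn hS) (projD hS x) (eQH hS h2 (qPart hS y)).1, rfl⟩
  have key : eQH hS h2 (qPart hS (x * y)) =
      (eQH hS h2 (qPart hS x) * ((p, dAut (hSn hS) (projD hS x) (sPart hS h2 y)) : Pp Q × Sp Q)) := by
    obtain ⟨m, hm⟩ := (eQH hS h2).surjective
      ((p, dAut (hSn hS) (projD hS x) (sPart hS h2 y)) : Pp Q × Sp Q)
    rw [← hm, ← map_mul]
    congr 1
    refine Subtype.ext (Subtype.ext ?_)
    show (x : G) * y * ((projD hS (x * y) : twoPt G a t) : G)⁻¹ =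
      (x : G) * (projD hS x : G)⁻¹ * ((m : stabilizer G a) : G)
    rw [eQH_spec hS h2 m, hm]
    simp only [dAut, conjAut_apply, sPart, hp, map_mul, Subgroup.coe_mul, mul_inv_rev]
    have e := eQH_spec hS h2 (qPart hS y)
    have e' : (y : G) * (projD hS y : G)⁻¹ =
        ((eQH hS h2 (qPart hS y)).1 : G) * (eQH hS h2 (qPart hS y)).2 := e
    calc (x : G) * y * ((projD hS y : G)⁻¹ * (projD hS x : G)⁻¹)
        = (x : G) * ((y : G) * (projD hS y : G)⁻¹) * (projD hS x : G)⁻¹ := by group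
      _ = _ := by rw [e']; group
  simp only [sPart, key, Prod.snd_mul]

theorem sPart_of_mem {h : stabilizer G a} (hh : (h : G) ∈ Q) :
    sPart hS h2 h = (eQH hS h2 ⟨h, hh⟩).2 := by
  unfold sPart
  congr 2
  refine Subtype.ext (Subtype.ext ?_)
  show (h : G) * (projD hS h : G)⁻¹ = h
  rw [(projD_eq_one_iff hS h).2 hh]
  simp

variable [Fintype G] [Fintype (stabilizer G a)]

theorem indFun_eq_of_ext {R : Subgroup (stabilizer G a)} {F : R → ℂ}
    {ψ : QH G a Q → ℂ} {c : ℂ} (hc : c * Nat.card (QH G a Q) = Nat.card R)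
    (h : ∀ y, Cfsg.extendByZero R F y = c * Cfsg.extendByZero (QH G a Q) ψ y) :
    Cfsg.indFun R F = Cfsg.indFun (QH G a Q) ψ := by
  funext g
  have hc0 : c ≠ 0 := fun e => by
    rw [e, zero_mul] at hc
    exact (Nat.cast_ne_zero.2 (Nat.card_pos (α := R)).ne') hc.symm
  rw [Induction.indFun_apply, Induction.indFun_apply]
  simp only [h, ← Finset.mul_sum, ← hc]
  field_simp

set_option maxHeartbeats 1000000 in
/-- the case `S = Z`, `ξ` stabilised -/
theorem lam_of_extension [FaithfulSMul G Ω] (ih : IndHyp.{v} (Nat.card G))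
    (hσ : (Zin a Q).index = 1) {ξ : Cfsg.IrrCharacter (Pp Q)} (hξ : ξ ≠ principalIrr _)
    (hE : stabP hS ξ ≠ ⊥) {μ : Cfsg.IrrCharacter (Sp Q)} (hμ : ¬ Triv a μ)
    (hfree : FreeP hS (ξ, μ)) : FamLamIs hS h2 (dg ((ξ, μ) : Pair Q)) false := by
  classical
  obtain ⟨f, -, -, hfE⟩ := exists_exponent hS h2
  haveI hcyc := (stabP_cyclic hS h2 ih hξ hfE).1
  have hB : FamP hS (dg ((ξ, μ) : Pair Q)) false ((ξ, μ) : Pair Q) :=
    ⟨hξ, hfree, rfl, iff_of_false hμ Bool.false_ne_true⟩
  have hμ1 : cdeg μ = 1 := by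
    have h := cdeg_sq_le_index hS h2 μ
    rw [hσ] at h
    have := cdeg_pos μ
    nlinarith
  have hdg : dg ((ξ, μ) : Pair Q) = cdeg ξ := by simp [dg, hμ1]
  have hScomm : ∀ x y : Sp Q, x * y = y * x := fun x y => by
    have : x ∈ Subgroup.center (Sp Q) :=
      Zin_le_center hS h2 (by rw [Subgroup.index_eq_one.1 hσ]; exact Subgroup.mem_top x)
    exact (Subgroup.mem_center_iff.1 this y).symm
  letI : CommGroup (Sp Q) := { (inferInstance : Group (Sp Q)) with mul_comm := hScomm }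
  haveI : NeZero (Monoid.exponent (Sp Q) : ℂ) :=
    ⟨Nat.cast_ne_zero.mpr Monoid.exponent_ne_zero_of_finite⟩
  obtain ⟨s₀, hs₀, hs₀1, hs₀c⟩ := exists_fixed_invol hS h2 ih hξ hE
  set s : Sp Q := ⟨s₀, Zsub_le_Sp hS h2 hs₀⟩ with hsdef
  obtain ⟨l₀, hl₀⟩ := CommGroup.exists_apply_ne_one_of_hasEnoughRootsOfUnity (Sp Q) ℂ
    (a := s) fun e => hs₀1 (congrArg Subtype.val e)
  haveI := Fintype.ofFinite (stabP hS ξ)
  -- the invariant character
  let ω : Sp Q →* ℂˣ := ∏ e : stabP hS ξ, l₀.comp (dAut (hSn hS) (e : twoPt G a t)).toMonoidHom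
  have hωapp : ∀ y, ω y = ∏ e : stabP hS ξ, l₀ (dAut (hSn hS) (e : twoPt G a t) y) := fun y => by
    simp [ω, MonoidHom.finsetProd_apply]
  have hωinv : ∀ d : twoPt G a t, d ∈ stabP hS ξ → ∀ y, ω (dAut (hSn hS) d y) = ω y := by
    intro d hd y
    rw [hωapp, hωapp, ← Equiv.prod_comp (Equiv.mulRight (⟨d, hd⟩ : stabP hS ξ))
      fun e : stabP hS ξ => l₀ (dAut (hSn hS) (e : twoPt G a t) y)]
    refine Finset.prod_congr rfl fun e _ => congrArg l₀ (Subtype.ext ?_)
    simp only [Equiv.coe_mulRight, dAut, conjAut_apply, Subgroup.coe_mul]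
    group
  have hωs : (ω s : ℂ) = -1 := by
    have hfix : ∀ e : stabP hS ξ, dAut (hSn hS) (e : twoPt G a t) s = s := fun e => Subtype.ext (by
      simp only [dAut, conjAut_apply, hsdef]
      rw [hs₀c e e.2, mul_inv_cancel_right])
    rw [hωapp, Finset.prod_congr rfl fun e _ => by rw [hfix e], Finset.prod_const, Finset.card_univ,
      Units.val_pow_eq_pow_val, ← Nat.card_eq_fintype_card]
    have hsq : (l₀ s : ℂ) * (l₀ s : ℂ) = 1 := by
      rw [← Units.val_mul, ← map_mul, show s * s = 1 from Subtype.ext (Zsub_sq hS h2 hs₀), map_one,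
        Units.val_one]
    have hm1 : (l₀ s : ℂ) = -1 :=
      (mul_self_eq_one_iff.1 hsq).resolve_left fun e => hl₀ (Units.ext e)
    rw [hm1, (odd_card_stabP hS ξ).neg_one_pow]
  let μ' : Cfsg.IrrCharacter (Sp Q) := linearIrr ω
  have hμ'nt : ¬ Triv a μ' := fun h => by
    have h1 := h ⟨s, Subgroup.mem_subgroupOf.2 hs₀⟩
    simp only [μ', linearIrr, map_one, Units.val_one, hωs] at h1
    norm_num at h1
  -- stabilisers
  have hfix1 : ∀ d, pact hS d ((ξ, principalIrr _) : Pair Q) = (ξ, principalIrr _) ↔ d ∈ stabP hS ξ :=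
    fun d => ⟨fun h => congrArg Prod.fst h,
      fun h => Prod.ext h (Subtype.ext (funext fun k => rfl))⟩
  have hfix2 : ∀ d, pact hS d ((ξ, μ') : Pair Q) = (ξ, μ') ↔ d ∈ stabP hS ξ :=
    fun d => ⟨fun h => congrArg Prod.fst h, fun h => Prod.ext h (Subtype.ext (funext fun k => by
      rw [pact_snd]
      show (ω _ : ℂ) = (ω k : ℂ)
      conv_rhs => rw [← MulEquiv.apply_symm_apply (dAut (hSn hS) d) k, hωinv d h]))⟩
  haveI := Fintype.ofFinite (twoPt G a t)
  have hnorm : ∀ x : Pair Q, (∀ d, pact hS d x = x ↔ d ∈ stabP hS ξ) →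
      Cfsg.classInner (theta hS h2 x) (theta hS h2 x) = (Nat.card (stabP hS ξ) : ℂ) := by
    intro x hx
    rw [classInner_theta, Nat.card_eq_fintype_card, Fintype.card_subtype,
      Finset.filter_congr fun d _ => hx d]
  -- `R = Q E`
  set R : Subgroup (stabilizer G a) := (stabP hS ξ).comap (projD hS) with hR
  have hQR : QH G a Q ≤ R := fun h hh => by
    show projD hS h ∈ stabP hS ξ
    rw [(projD_eq_one_iff hS h).2 (Subgroup.mem_subgroupOf.1 hh)]
    exact one_mem _
  haveI := Fintype.ofFinite R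
  haveI := QH_normal hS
  set N : Subgroup R := (QH G a Q).subgroupOf R with hN
  let ρ : R →* stabP hS ξ := ((projD hS).comp R.subtype).codRestrict (stabP hS ξ) fun r => r.2
  have hρ : ∀ r : R, ρ r = 1 ↔ (r : stabilizer G a) ∈ QH G a Q := fun r => by
    rw [← Subtype.coe_inj]
    exact projD_eq_one_iff hS (r : stabilizer G a)
  haveI : IsCyclic (R ⧸ N) := by
    refine isCyclic_of_injective (QuotientGroup.lift N ρ fun r hr => (hρ r).2 hr) ?_
    rw [injective_iff_map_eq_one]
    intro y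
    refine QuotientGroup.induction_on y fun r hr => ?_
    exact (QuotientGroup.eq_one_iff r).2 ((hρ r).1 hr)
  have hρsurj : Function.Surjective ρ := fun d =>
    ⟨⟨⟨(d : twoPt G a t), (d : twoPt G a t).2.1⟩, by
        show projD hS _ ∈ stabP hS ξ
        rw [projD_eq hS Q.one_mem (d := (d : twoPt G a t)) (one_mul _).symm]; exact d.2⟩,
      Subtype.ext (projD_eq hS Q.one_mem (one_mul _).symm)⟩
  have hcardR : (Nat.card (stabP hS ξ) : ℂ) * Nat.card (QH G a Q) = Nat.card R := by
    have hker : ρ.ker = N := by ext r; rw [MonoidHom.mem_ker, hρ]; rfl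
    have h1 := Subgroup.card_mul_index ρ.ker
    rw [Subgroup.index_ker, MonoidHom.range_eq_top.2 hρsurj, Subgroup.card_top, hker,
      Nat.card_congr (Subgroup.subgroupOfEquivOfLe hQR).toEquiv] at h1
    rw [← h1, mul_comm]
    push_cast
    ring
  -- the extension
  obtain ⟨χ, hχirr, hχn⟩ : ∃ χ : R → ℂ, Cfsg.IsIrrCharacter R χ ∧
      ∀ n : N, χ n = psi hS h2 ((ξ, principalIrr _) : Pair Q) (Subgroup.subgroupOfEquivOfLe hQR n) := by
    refine CharExtension.extends_of_isCyclic N (Clifford.isIrrCharacter_pullback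
      (isIrr_psi hS h2 _) (Subgroup.subgroupOfEquivOfLe hQR).toMonoidHom
      (Subgroup.subgroupOfEquivOfLe hQR).surjective) ?_
    intro g n
    have h1 := psi_conj hS h2 (g : stabilizer G a) (Subgroup.subgroupOfEquivOfLe hQR n)
      ((ξ, principalIrr _) : Pair Q)
    rw [(hfix1 _).2 (inv_mem g.2)] at h1
    exact h1
  have hνmul : ∀ x y : R, sPart hS h2 ((x : stabilizer G a) * y) =
      sPart hS h2 (x : stabilizer G a) *
        dAut (hSn hS) (projD hS (x : stabilizer G a)) (sPart hS h2 (y : stabilizer G a)) :=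
    fun x y => sPart_mul hS h2 _ _
  let ν : R →* ℂˣ := MonoidHom.mk' (fun r => ω (sPart hS h2 (r : stabilizer G a))) fun x y => by
    rw [Subgroup.coe_mul, hνmul, map_mul, hωinv _ x.2]
  haveI : Finite (stabP hS ξ →* ℂˣ) := LinearTwist.finite_unitsHom
  haveI := Fintype.ofFinite (stabP hS ξ →* ℂˣ)
  let F₁ : (stabP hS ξ →* ℂˣ) → R → ℂ := fun l r => χ r * (l.comp ρ r : ℂ)
  let F₂ : (stabP hS ξ →* ℂˣ) → R → ℂ := fun l r => χ r * ((l.comp ρ * ν) r : ℂ)
  have hF₁ : ∀ l, Cfsg.IsCharacter R (F₁ l) := fun l =>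
    isCharacter_mul (isCharacter_of_irr hχirr) (isCharacter_of_irr (isIrrCharacter_of_hom (l.comp ρ)))
  have hF₂ : ∀ l, Cfsg.IsCharacter R (F₂ l) := fun l =>
    isCharacter_mul (isCharacter_of_irr hχirr)
      (isCharacter_of_irr (isIrrCharacter_of_hom (l.comp ρ * ν)))
  let θ₁ := fun l => Cfsg.indFun R (F₁ l)
  let θ₂ := fun l => Cfsg.indFun R (F₂ l)
  have hsum_l := fun r : R => sum_hom_apply (ρ r)
  have hs1 : ∑ l, θ₁ l = theta hS h2 ((ξ, principalIrr _) : Pair Q) := by
    simp only [θ₁]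
    rw [← Induction.indFun_sum]
    refine indFun_eq_of_ext hcardR fun y => ?_
    by_cases hy : y ∈ QH G a Q
    · rw [Induction.extendByZero_mem R _ (hQR hy), Induction.extendByZero_mem _ _ hy]
      simp only [Finset.sum_apply, F₁, MonoidHom.comp_apply, ← Finset.mul_sum]
      rw [hsum_l, if_pos ((hρ _).2 hy), hχn ⟨⟨y, hQR hy⟩, hy⟩]
      rw [mul_comm]
      rfl
    · rw [Induction.extendByZero_notMem _ _ hy, mul_zero]
      by_cases hyR : y ∈ R
      · rw [Induction.extendByZero_mem R _ hyR]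
        simp only [Finset.sum_apply, F₁, MonoidHom.comp_apply, ← Finset.mul_sum]
        rw [hsum_l, if_neg fun e => hy ((hρ ⟨y, hyR⟩).1 e), mul_zero]
      · exact Induction.extendByZero_notMem _ _ hyR
  have hs2 : ∑ l, θ₂ l = theta hS h2 ((ξ, μ') : Pair Q) := by
    simp only [θ₂]
    rw [← Induction.indFun_sum]
    refine indFun_eq_of_ext hcardR fun y => ?_
    by_cases hy : y ∈ QH G a Q
    · rw [Induction.extendByZero_mem R _ (hQR hy), Induction.extendByZero_mem _ _ hy]
      simp only [Finset.sum_apply, F₂, MonoidHom.mul_apply, MonoidHom.comp_apply, Units.val_mul,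
        ← mul_assoc, ← Finset.sum_mul, ← Finset.mul_sum]
      rw [hsum_l, if_pos ((hρ _).2 hy), hχn ⟨⟨y, hQR hy⟩, hy⟩]
      have e : sPart hS h2 y = (eQH hS h2 ⟨y, hy⟩).2 := sPart_of_mem hS h2 (Subgroup.mem_subgroupOf.1 hy)
      show psi hS h2 ((ξ, principalIrr _) : Pair Q) ⟨y, hy⟩ * _ * (ω (sPart hS h2 y) : ℂ) = _
      rw [e]
      simp only [psi, prodFun, μ', linearIrr, principalIrr]
      ring
    · rw [Induction.extendByZero_notMem _ _ hy, mul_zero]
      by_cases hyR : y ∈ R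
      · rw [Induction.extendByZero_mem R _ hyR]
        simp only [Finset.sum_apply, F₂, MonoidHom.mul_apply, MonoidHom.comp_apply, Units.val_mul,
          ← mul_assoc, ← Finset.sum_mul, ← Finset.mul_sum]
        rw [hsum_l, if_neg fun e => hy ((hρ ⟨y, hyR⟩).1 e), mul_zero, zero_mul]
      · exact Induction.extendByZero_notMem _ _ hyR
  have hcardL : Fintype.card (stabP hS ξ →* ℂˣ) = Nat.card (stabP hS ξ) := by
    have h := sum_hom_apply (1 : stabP hS ξ)
    rw [if_pos rfl] at h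
    simp only [map_one, Units.val_one, Finset.sum_const, Finset.card_univ, nsmul_eq_mul, mul_one] at h
    exact_mod_cast h
  obtain ⟨z, hz⟩ := Zs_nonempty hS
  set zH : stabilizer G a := ⟨z, (mem_Zs.1 hz).1⟩ with hzH
  have hval : ∀ l, ∀ g : stabilizer G a, (g = 1 ∨ g = zH) →
      θ₁ l g = θ₁ 1 g ∧ θ₂ l g = θ₂ 1 g := by
    intro l g hg
    have hmem : ∀ x : stabilizer G a, x⁻¹ * g * x ∈ QH G a Q := by
      intro x
      refine (QH_normal hS).conj_mem' g ?_ x
      rcases hg with rfl | rfl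
      · exact one_mem _
      · exact Subgroup.mem_subgroupOf.2 (Zsub_le hS h2 (Subgroup.subset_closure (mem_Zs_iff.1 hz)))
    simp only [θ₁, θ₂, Induction.indFun_apply]
    constructor <;> congr 1 <;> refine Finset.sum_congr rfl fun x _ => ?_ <;>
      rw [Induction.extendByZero_mem R _ (hQR (hmem x)), Induction.extendByZero_mem R _ (hQR (hmem x))]
    · simp only [F₁, MonoidHom.comp_apply, MonoidHom.one_apply]
      rw [(hρ _).2 (hmem x), map_one]
    · simp only [F₂, MonoidHom.comp_apply, MonoidHom.mul_apply, MonoidHom.one_apply]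
      rw [(hρ _).2 (hmem x), map_one]
  set D : ℝ := (Nat.card (twoPt G a t) : ℝ) with hD
  set q : ℝ := (Nat.card (Zsub G a) : ℝ) with hqdef
  set d : ℝ := (cdeg ξ : ℝ) with hd
  set e : ℝ := (Nat.card (stabP hS ξ) : ℝ) with he
  have hq := one_lt_q hS h2
  have hne : q - 1 ≠ 0 := by linarith
  have hD0 : 0 < D := Nat.cast_pos.2 Nat.card_pos
  have hd0 : 0 < d := Nat.cast_pos.2 (cdeg_pos ξ)
  have he0 : 0 < e := Nat.cast_pos.2 Nat.card_pos
  have heC : ((Nat.card (stabP hS ξ) : ℕ) : ℂ) ≠ 0 := Nat.cast_ne_zero.2 Nat.card_pos.ne'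
  have hmult : ∀ g : stabilizer G a, (g = 1 ∨ g = zH) →
      (Nat.card (stabP hS ξ) : ℂ) * θ₁ 1 g = theta hS h2 ((ξ, principalIrr _) : Pair Q) g ∧
      (Nat.card (stabP hS ξ) : ℂ) * θ₂ 1 g = theta hS h2 ((ξ, μ') : Pair Q) g := by
    intro g hg
    rw [← hs1, ← hs2, Finset.sum_apply, Finset.sum_apply,
      Finset.sum_congr rfl fun l _ => (hval l g hg).1, Finset.sum_congr rfl fun l _ => (hval l g hg).2,
      Finset.sum_const, Finset.sum_const, Finset.card_univ, hcardL, nsmul_eq_mul, nsmul_eq_mul]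
    exact ⟨rfl, rfl⟩
  have hdg1 : dg ((ξ, principalIrr _) : Pair Q) = cdeg ξ := by
    have := cdeg_spec (principalIrr (Sp Q))
    simp only [principalIrr] at this
    have h1 : cdeg (principalIrr (Sp Q)) = 1 := by exact_mod_cast this.symm
    simp [dg, h1]
  have hdg2 : dg ((ξ, μ') : Pair Q) = cdeg ξ := by
    have := cdeg_spec μ'
    simp only [μ', linearIrr, map_one, Units.val_one] at this
    have h1 : cdeg μ' = 1 := by exact_mod_cast this.symm
    simp [dg, h1]
  have hone : ∀ l, θ₁ l 1 ≠ 0 ∧ θ₂ l 1 ≠ 0 := by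
    intro l
    rw [(hval l 1 (Or.inl rfl)).1, (hval l 1 (Or.inl rfl)).2]
    have h1 := hmult 1 (Or.inl rfl)
    rw [theta_one, theta_one, hdg1, hdg2] at h1
    have hnz : ((Nat.card (twoPt G a t) * cdeg ξ : ℕ) : ℂ) ≠ 0 :=
      Nat.cast_ne_zero.2 (Nat.mul_pos Nat.card_pos (cdeg_pos ξ)).ne'
    exact ⟨fun e => hnz (by rw [← h1.1, e, mul_zero]), fun e => hnz (by rw [← h1.2, e, mul_zero])⟩
  have h1c : ∀ l, Cfsg.IsCharacter (stabilizer G a) (θ₁ l) := fun l =>
    Induction.isCharacter_indFun R (hF₁ l)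
  have h2c : ∀ l, Cfsg.IsCharacter (stabilizer G a) (θ₂ l) := fun l =>
    Induction.isCharacter_indFun R (hF₂ l)
  have hsumc2 : Cfsg.IsCharacter (stabilizer G a) (∑ l, θ₂ l) := isCharacter_sum _ fun l _ => h2c l
  have ho12 : ∀ i j, Cfsg.classInner (θ₁ i) (θ₂ j) = 0 := by
    intro i j
    have h0 : Cfsg.classInner (∑ l, θ₁ l) (∑ l, θ₂ l) = 0 := by
      rw [hs1, hs2]
      refine classInner_theta_eq_zero hS h2 fun d hd => hμ'nt ?_
      rw [← triv_pact_iff hS h2 d ((ξ, μ') : Pair Q), hd]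
      exact triv_principal hS
    have h1 := zero_of_sum h1c hsumc2 h0 i
    rw [classInner_conj_symm, map_eq_zero] at h1
    have h3 := zero_of_sum h2c (h1c i) h1 j
    rw [classInner_conj_symm, h3, map_zero]
  have hl12 : ∀ l, IsLocal a (θ₁ l - θ₂ l) := by
    intro l
    refine ⟨fun g h => ?_, ?_, fun g hg => ?_⟩
    · simp only [Pi.sub_apply, θ₁, θ₂, Induction.isClassFunction_indFun R _ g h]
    · simp only [Pi.sub_apply]
      rw [(hval l 1 (Or.inl rfl)).1, (hval l 1 (Or.inl rfl)).2, sub_eq_zero]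
      have h1 := hmult 1 (Or.inl rfl)
      rw [theta_one, theta_one, hdg1, hdg2] at h1
      exact mul_left_cancel₀ heC (h1.1.trans h1.2.symm)
    · simp only [Pi.sub_apply, θ₁, θ₂, Induction.indFun_apply, ← mul_sub, ← Finset.sum_sub_distrib] at hg
      obtain ⟨x, -, hx⟩ := Finset.exists_ne_zero_of_sum_ne_zero (right_ne_zero_of_mul hg)
      have hy : x⁻¹ * g * x ∈ R := by
        by_contra hy
        exact hx (by rw [Induction.extendByZero_notMem R _ hy, Induction.extendByZero_notMem R _ hy,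
          sub_zero])
      rw [Induction.extendByZero_mem R _ hy, Induction.extendByZero_mem R _ hy] at hx
      have hν1 : ν ⟨_, hy⟩ ≠ 1 := fun e => hx (by
        simp only [F₁, F₂, MonoidHom.mul_apply, e, mul_one, sub_self])
      have hfixy : OnlyFix a ((x⁻¹ * g * x : stabilizer G a) : G) := by
        intro c hc
        by_contra hca
        obtain ⟨w, hw, rfl⟩ := Q_trans hS hca
        let wH : stabilizer G a := ⟨w, hS.le hw⟩
        have hwR : wH ∈ R := hQR (Subgroup.mem_subgroupOf.2 hw)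
        let wR : R := ⟨wH, hwR⟩
        let yR : R := ⟨x⁻¹ * g * x, hy⟩
        have hdmem : ((wR⁻¹ * yR * wR : R) : stabilizer G a).1 ∈ twoPt G a t := by
          refine mem_twoPt.2 ⟨mem_stabilizer_iff.1 (wR⁻¹ * yR * wR : R).1.2, ?_⟩
          show ((w⁻¹ * ((x⁻¹ * g * x : stabilizer G a) : G)) * w) • t • a = t • a
          rw [mul_smul, mul_smul, hc, inv_smul_smul]
        apply hν1
        have h1 : ν (wR⁻¹ * yR * wR) = 1 := by
          show ω (sPart hS h2 ((wR⁻¹ * yR * wR : R) : stabilizer G a)) = 1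
          rw [show sPart hS h2 ((wR⁻¹ * yR * wR : R) : stabilizer G a) = 1 from ?_, map_one]
          unfold sPart
          rw [show qPart hS ((wR⁻¹ * yR * wR : R) : stabilizer G a) = 1 from ?_, map_one,
            Prod.snd_one]
          refine Subtype.ext (Subtype.ext ?_)
          show ((wR⁻¹ * yR * wR : R) : stabilizer G a).1 *
            (projD hS ((wR⁻¹ * yR * wR : R) : stabilizer G a) : G)⁻¹ = 1
          rw [projD_eq hS Q.one_mem (d := ⟨_, hdmem⟩) (one_mul _).symm, mul_inv_cancel]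
        rwa [map_mul, map_mul, map_inv, mul_assoc, mul_comm (ν yR), inv_mul_cancel_left] at h1
      simp only [Subgroup.coe_mul, InvMemClass.coe_inv] at hfixy
      exact (OnlyFix.conj_iff (g := (x : G)⁻¹) (h := (g : G))
        (by rw [inv_smul_eq_iff]; exact x.2.symm)).1 (by rw [inv_inv]; exact hfixy)
  haveI := Fintype.ofFinite (FamI hS (dg ((ξ, μ) : Pair Q)) false)
  set D0 := dg ((ξ, μ) : Pair Q) with hD0'
  have hnotfree : ∀ x : Pair Q, (∀ d, pact hS d x = x ↔ d ∈ stabP hS ξ) →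
      ∀ j : FamI hS D0 false, Cfsg.classInner (theta hS h2 x) (famTheta hS h2 D0 false j) = 0 := by
    intro x hx j
    refine classInner_theta_eq_zero hS h2 fun d hd => hE ?_
    rw [eq_bot_iff]
    intro e he
    have := ((famP_famRep hS j).map hS h2 d).2.1
    rw [hd] at this
    exact Subgroup.mem_bot.2 (this e ((hx e).2 he))
  have hfamc : ∀ j, Cfsg.IsCharacter (stabilizer G a) (famTheta hS h2 D0 false j) := fun j =>
    isCharacter_theta hS h2 _
  have hαv : ∀ l, (θ₁ l - θ₂ l) zH = (((2 : ℝ) * (q * d * D / (2 * e * (q - 1))) : ℝ) : ℂ) := by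
    intro l
    simp only [Pi.sub_apply]
    rw [(hval l zH (Or.inr rfl)).1, (hval l zH (Or.inr rfl)).2]
    have h1 := hmult zH (Or.inr rfl)
    have e1 : theta hS h2 ((ξ, principalIrr _) : Pair Q) zH = ((D * d : ℝ) : ℂ) := by
      have := theta_apply_Z hS h2 ((ξ, principalIrr _) : Pair Q) (z := zH) hz
      rw [if_pos (triv_principal hS), hdg1, mul_comm] at this
      have h3 : (Nat.card (Zsub G a) : ℂ) - 1 ≠ 0 := fun e => hne (Complex.ofReal_injective (by
        push_cast [hqdef]; exact e))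
      rw [mul_right_cancel₀ h3 this, hD, hd]
      push_cast
      rfl
    have e2 : theta hS h2 ((ξ, μ') : Pair Q) zH = ((-(D * d) / (q - 1) : ℝ) : ℂ) := by
      have := theta_apply_Z hS h2 ((ξ, μ') : Pair Q) (z := zH) hz
      rw [if_neg hμ'nt, hdg2] at this
      have h3 : (Nat.card (Zsub G a) : ℂ) - 1 ≠ 0 := fun e => hne (Complex.ofReal_injective (by
        push_cast [hqdef]; exact e))
      refine mul_left_cancel₀ h3 (this.trans ?_)
      rw [hD, hd, hqdef]
      push_cast
      field_simp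
    rw [e1, e2] at h1
    refine mul_left_cancel₀ heC ?_
    rw [mul_sub, h1.1, h1.2, he]
    have heR : (Nat.card (stabP hS ξ) : ℝ) ≠ 0 := by rw [← he]; exact he0.ne'
    rw [← Complex.ofReal_sub, show (Nat.card (stabP hS ξ) : ℂ) = ((Nat.card (stabP hS ξ) : ℝ) : ℂ) by
      push_cast; rfl, ← Complex.ofReal_mul, Complex.ofReal_inj]
    field_simp
    ring
  have hθz : ∀ j, famTheta hS h2 D0 false j zH = (tval G a t D0 false : ℂ) := fun j =>
    theta_apply_famP hS h2 (famP_famRep hS j) hz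
  intro ε ν' hν' j
  have hlocB : IsLocal a ((∑ l, θ₁ l) - famTheta hS h2 D0 false (famClass hS hB)) := by
    rw [hs1]
    refine isLocal_theta_sub hS (isCharacter_theta hS h2 _) (hfamc _) ?_
      (theta_supp hS h2 _) (theta_supp hS h2 _)
    rw [theta_one, hdg1, famTheta, theta_one_famP hS h2 (famP_famRep hS _), hdg]
  have hvalB : ((∑ l, θ₁ l) - famTheta hS h2 D0 false (famClass hS hB)) zH =
      (((D * d * (q / (q - 1))) : ℝ) : ℂ) := by
    have e1 := theta_apply_Z hS h2 ((ξ, principalIrr _) : Pair Q) (z := zH) hz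
    rw [if_pos (triv_principal hS), hdg1, mul_comm] at e1
    have h3 : (Nat.card (Zsub G a) : ℂ) - 1 ≠ 0 := fun e => hne (Complex.ofReal_injective (by
      push_cast [hqdef]; exact e))
    rw [hs1, Pi.sub_apply, hθz, mul_right_cancel₀ h3 e1, tval, hdg, ← hD, ← hqdef, hd]
    have : D * (cdeg ξ : ℝ) * (q / (q - 1)) =
        D * cdeg ξ - D * cdeg ξ * (-1 / (q - 1)) := by field_simp; ring
    rw [this, cond_false, hD]
    push_cast
    rfl
  have key := lam_of_pairs hS h2 h1c h2c
    (orth_of_sum h1c (fun l => (hone l).1) (by rw [hs1, hnorm _ hfix1, hcardL]))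
    (orth_of_sum h2c (fun l => (hone l).2) (by rw [hs2, hnorm _ hfix2, hcardL]))
    ho12 hl12 (isOrthLocal_fam hS h2 D0 false)
    (fun i j => zero_of_sum h1c (hfamc j) (by rw [hs1]; exact hnotfree _ hfix1 j) i)
    (fun i j => zero_of_sum h2c (hfamc j) (by rw [hs2]; exact hnotfree _ hfix2 j) i)
    hν' (B := famClass hS hB)
    (by rw [← Nat.card_eq_fintype_card]; exact two_le_fam hS h2 (famClass hS hB))
    hlocB (z := zH) hz (fun i j => (hθz i).trans (hθz j).symm)
    (α := q * d * D / (2 * e * (q - 1))) hαv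
    (by
      refine div_ne_zero ?_ ?_
      · have : 0 < q := by linarith
        positivity
      · exact mul_ne_zero (by positivity) hne)
    hvalB j
  rw [LamIs, key, hcardL, ← he, ← hD, ← hqdef, hdg, ← hd]
  have hpos : D * d * (q / (q - 1)) - e * (q * d * D / (2 * e * (q - 1))) =
      d * q * D / (2 * (q - 1)) := by field_simp; ring
  rw [hpos, abs_of_pos (by
    have : 0 < q := by linarith
    have : 0 < q - 1 := by linarith
    positivity)]
  field_simp

end CfsgLib.RankOneTwo
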