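import Mathlib

/-!
Integer coefficient vectors on a finite set carrying weights `x > 0` and values `L`, subject to
`Σ c x = 0`, `Σ c L = val`, `Σ c L²/x = 0`: the two configurations needed for families of
exceptional characters.
-/

set_option autoImplicit false

namespace CfsgLib.RankOneTwo

variable {ι : Type*} [Fintype ι]

/-- the three relations of an induced local function -/
structure Rel (x L : ι → ℝ) (c : ι → ℤ) (val : ℝ) : Prop where
  deg : ∑ i, (c i : ℝ) * x i = 0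
  lin : ∑ i, (c i : ℝ) * L i = val
  quad : ∑ i, (c i : ℝ) * (L i ^ 2 / x i) = 0

variable {x L : ι → ℝ} {c : ι → ℤ} {val : ℝ}

/-- the part of a sum outside a finite set -/
theorem eq_zero_outside (S : Finset ι) (h : ∑ i, c i ^ 2 ≤ ∑ i ∈ S, c i ^ 2) :
    ∀ i ∉ S, c i = 0 := by
  classical
  intro i hi
  have h1 : ∑ j ∈ Sᶜ, c j ^ 2 = 0 := by
    have := Finset.sum_add_sum_compl S fun j => c j ^ 2
    have := Finset.sum_nonneg (s := Sᶜ) fun j _ => sq_nonneg (c j)
    omega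
  have := (Finset.sum_eq_zero_iff_of_nonneg fun j _ => sq_nonneg (c j)).1 h1 i (Finset.mem_compl.2 hi)
  exact pow_eq_zero_iff two_ne_zero |>.1 this

theorem sum_restrict (S : Finset ι) (hz : ∀ i ∉ S, c i = 0) (F : ι → ℝ) :
    ∑ i, (c i : ℝ) * F i = ∑ i ∈ S, (c i : ℝ) * F i :=
  (Finset.sum_subset (Finset.subset_univ S) fun i _ hi => by rw [hz i hi]; simp).symm

/-- `k (k l + 2 s) ≥ 0` when `2 |s| ≤ l` -/
theorem extra_nonneg {l k s : ℤ} (hl : 2 * |s| ≤ l) : 0 ≤ k * (l * k + 2 * s) := by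
  have h1 : -|s| ≤ s := neg_abs_le s
  have h2 : s ≤ |s| := le_abs_self s
  rcases lt_trichotomy k 0 with hk | hk | hk
  · nlinarith [mul_le_mul_of_nonneg_left (show k ≤ -1 by omega) (show 0 ≤ l by omega)]
  · simp [hk]
  · nlinarith [mul_le_mul_of_nonneg_left (show 1 ≤ k by omega) (show 0 ≤ l by omega)]

theorem quad_zero {l k s : ℤ} (h : k * (l * k + 2 * s) = 0) :
    (l * k + s) * (l * k + s) = s * s := by
  rcases mul_eq_zero.1 h with hk | hk
  · subst hk; ring
  · linear_combination l * k * hk - l * k * hk + (l * k) * hk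

theorem sum_delta {I : Type*} [Fintype I] [DecidableEq I] (A : I) (s k : ℤ) :
    ∑ i : I, (if i = A then s + k else k) = s + (Fintype.card I : ℤ) * k := by
  rw [Finset.sum_congr rfl fun i _ => show (if i = A then s + k else k) = (if i = A then s else 0) + k by
    split_ifs <;> ring, Finset.sum_add_distrib, Finset.sum_ite_eq', Finset.sum_const, Finset.card_univ]
  simp

theorem sum_delta_sq {I : Type*} [Fintype I] [DecidableEq I] (A : I) (s k : ℤ) :
    ∑ i : I, (if i = A then s + k else k) ^ 2 = s ^ 2 + k * ((Fintype.card I : ℤ) * k + 2 * s) := by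
  rw [Finset.sum_congr rfl fun i _ => show (if i = A then s + k else k) ^ 2 =
      (if i = A then s ^ 2 + 2 * s * k else 0) + k ^ 2 by
    split_ifs <;> ring, Finset.sum_add_distrib, Finset.sum_ite_eq', Finset.sum_const, Finset.card_univ]
  simp
  ring

/-- two disjoint families carrying `s` times a member minus one member -/
theorem two_family [DecidableEq ι] {I J : Type*} [Fintype I] [Fintype J] [DecidableEq I] [DecidableEq J]
    (μ : I → ι) (ν : J → ι) (hμ : Function.Injective μ) (hν : Function.Injective ν)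
    (hd : ∀ i j, μ i ≠ ν j) (hx : ∀ i, 0 < x i) {A : I} {B : J} {s k s' k' : ℤ} (hs' : |s'| = 1)
    (hI : 2 * |s| ≤ Fintype.card I) (hJ : 2 ≤ Fintype.card J)
    (hcI : ∀ i, c (μ i) = if i = A then s + k else k)
    (hcJ : ∀ j, c (ν j) = if j = B then s' + k' else k')
    (hnorm : ∑ i, c i ^ 2 = s ^ 2 + 1)
    {LA LB xA xB : ℝ} (hLA : ∀ i, L (μ i) = LA) (hLB : ∀ j, L (ν j) = LB)
    (hxA : ∀ i, x (μ i) = xA) (hxB : ∀ j, x (ν j) = xB)
    (h : Rel x L c val) (hval0 : val ≠ 0) :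
    |LA| * (2 * |(s : ℝ)|) = |val| ∧ |LB| * 2 = |val| := by
  classical
  set S : Finset ι := Finset.univ.image μ ∪ Finset.univ.image ν with hS
  have hdisj : Disjoint (Finset.univ.image μ) (Finset.univ.image ν) := by
    rw [Finset.disjoint_left]
    intro p h1 h2
    obtain ⟨i, -, rfl⟩ := Finset.mem_image.1 h1
    obtain ⟨j, -, e⟩ := Finset.mem_image.1 h2
    exact hd i j e.symm
  have hsS : ∀ {M : Type} [AddCommMonoid M] (F : ι → M), ∑ p ∈ S, F p = ∑ i, F (μ i) + ∑ j, F (ν j) := by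
    intro M _ F
    rw [hS, Finset.sum_union hdisj, Finset.sum_image hμ.injOn, Finset.sum_image hν.injOn]
  have hsq : s' ^ 2 = 1 := by rw [← sq_abs, hs', one_pow]
  have hA := extra_nonneg (k := k) hI
  have hB := extra_nonneg (k := k') (s := s') (l := Fintype.card J) (by rw [hs']; omega)
  have hSsq : ∑ p ∈ S, c p ^ 2 = s ^ 2 + k * ((Fintype.card I : ℤ) * k + 2 * s) +
      (s' ^ 2 + k' * ((Fintype.card J : ℤ) * k' + 2 * s')) := by
    rw [hsS]
    simp only [hcI, hcJ]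
    rw [sum_delta_sq, sum_delta_sq]
  have hle : ∑ p ∈ S, c p ^ 2 ≤ ∑ p, c p ^ 2 :=
    Finset.sum_le_sum_of_subset_of_nonneg (Finset.subset_univ S) fun p _ _ => sq_nonneg (c p)
  have hz := eq_zero_outside S (c := c) (by omega)
  have hqA : k * ((Fintype.card I : ℤ) * k + 2 * s) = 0 := by omega
  have hqB : k' * ((Fintype.card J : ℤ) * k' + 2 * s') = 0 := by omega
  set Φ : ℤ := s + (Fintype.card I : ℤ) * k with hΦ
  set Ψ : ℤ := s' + (Fintype.card J : ℤ) * k' with hΨ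
  have hΦ2 : Φ * Φ = s * s := by rw [hΦ, add_comm]; exact quad_zero hqA
  have hΨ2 : Ψ * Ψ = s' * s' := by rw [hΨ, add_comm]; exact quad_zero hqB
  have hlin : ∀ (F : ι → ℝ) (a b : ℝ), (∀ i, F (μ i) = a) → (∀ j, F (ν j) = b) →
      ∑ p, (c p : ℝ) * F p = (Φ : ℝ) * a + (Ψ : ℝ) * b := by
    intro F a b ha hb
    rw [sum_restrict S hz, hsS]
    simp only [ha, hb, ← Finset.sum_mul]
    rw [hΦ, hΨ, ← sum_delta A s k, ← sum_delta B s' k']
    simp only [hcI, hcJ, Int.cast_sum]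
  have e1 := h.deg
  have e2 := h.lin
  have e3 := h.quad
  rw [hlin x xA xB hxA hxB] at e1
  rw [hlin L LA LB hLA hLB] at e2
  rw [hlin _ (LA ^ 2 / xA) (LB ^ 2 / xB) (fun i => by rw [hLA, hxA]) (fun j => by rw [hLB, hxB])] at e3
  have hxA0 : 0 < xA := hxA A ▸ hx _
  have hxB0 : 0 < xB := hxB B ▸ hx _
  have hΨ0 : (Ψ : ℝ) * Ψ = 1 := by
    have : Ψ * Ψ = 1 := by rw [hΨ2, ← sq, hsq]
    exact_mod_cast this
  have hΦs : (Φ : ℝ) * Φ = (s : ℝ) * s := by exact_mod_cast hΦ2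
  -- `(Φ LA)² = (Ψ LB)²`
  have hkey : ((Φ : ℝ) * LA) ^ 2 = ((Ψ : ℝ) * LB) ^ 2 := by
    have e3' : (Φ : ℝ) * LA ^ 2 * xB + (Ψ : ℝ) * LB ^ 2 * xA = 0 := by
      field_simp at e3
      linear_combination e3
    have h1 : (Ψ : ℝ) * xB = -((Φ : ℝ) * xA) := by linear_combination e1
    have h4 : xA * (((Φ : ℝ) * LA) ^ 2 - ((Ψ : ℝ) * LB) ^ 2) = 0 := by
      linear_combination (-(Ψ : ℝ)) * e3' + (Φ : ℝ) * LA ^ 2 * h1 + 0 * e1
    rcases mul_eq_zero.1 h4 with h5 | h5
    · exact absurd h5 hxA0.ne'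
    · linarith
  have hval : |(Φ : ℝ) * LA| * 2 = |val| ∨ val = 0 := by
    rcases sq_eq_sq_iff_eq_or_eq_neg.1 hkey with h5 | h5
    · left
      rw [← e2, ← h5, ← two_mul, abs_mul 2, abs_two, mul_comm]
    · right
      rw [← e2, h5]
      ring
  rcases hval with hval | hval
  · have h6 : |(Φ : ℝ)| = |(s : ℝ)| := abs_eq_abs.2 (mul_self_eq_mul_self_iff.1 hΦs)
    have h7 : |(Ψ : ℝ)| = 1 := by
      rw [← abs_one]
      exact abs_eq_abs.2 (mul_self_eq_mul_self_iff.1 (by rw [hΨ0, one_mul]))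
    have h8 : |(Φ : ℝ) * LA| = |(Ψ : ℝ) * LB| := sq_eq_sq_iff_abs_eq_abs _ _ |>.1 hkey
    refine ⟨?_, ?_⟩
    · rw [← hval, abs_mul, h6]; ring
    · rw [← hval, h8, abs_mul, h7, one_mul]
  · exact absurd hval hval0

/-- a difference of two points -/
theorem rel_diff [DecidableEq ι] {p q : ι} (hpq : p ≠ q) {s : ℤ} (hs : |s| = 1) (hx : ∀ i, 0 < x i)
    (hc : ∀ i, c i = s * ((if i = p then 1 else 0) - (if i = q then 1 else 0))) (h : Rel x L c val) :
    x p = x q ∧ (s : ℝ) * (L p - L q) = val ∧ L p ^ 2 = L q ^ 2 := by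
  have hsum : ∀ F : ι → ℝ, ∑ i, (c i : ℝ) * F i = (s : ℝ) * (F p - F q) := by
    intro F
    rw [sum_restrict {p, q} (fun i hi => by
      rw [Finset.mem_insert, Finset.mem_singleton, not_or] at hi
      rw [hc, if_neg hi.1, if_neg hi.2]; ring), Finset.sum_pair hpq, hc, hc, if_pos rfl, if_neg hpq,
      if_neg hpq.symm, if_pos rfl]
    push_cast
    ring
  have hs0 : (s : ℝ) ≠ 0 := by
    have : s ≠ 0 := fun e => by rw [e] at hs; exact absurd hs (by norm_num)
    exact_mod_cast this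
  have e1 := h.deg
  have e2 := h.lin
  have e3 := h.quad
  rw [hsum] at e1 e2 e3
  have e1' : x p = x q := sub_eq_zero.1 ((mul_eq_zero.1 e1).resolve_left hs0)
  refine ⟨e1', e2, ?_⟩
  have h5 := sub_eq_zero.1 ((mul_eq_zero.1 e3).resolve_left hs0)
  rw [e1'] at h5
  exact (div_left_inj' (hx q).ne').1 h5

/-- a family and a set of pairs: one member of each pair and a member of the family -/
theorem pairs_family [DecidableEq ι] {P J : Type*} [Fintype P] [Fintype J] [DecidableEq J]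
    (p₁ p₂ : P → ι) (ν : J → ι) (h1 : Function.Injective p₁) (h2 : Function.Injective p₂)
    (hν : Function.Injective ν) (h12 : ∀ i j, p₁ i ≠ p₂ j) (hd1 : ∀ i j, p₁ i ≠ ν j)
    (hd2 : ∀ i j, p₂ i ≠ ν j) {B : J} {s' k' : ℤ} (hs' : |s'| = 1) (hJ : 2 ≤ Fintype.card J)
    (hcP : ∀ i, c (p₁ i) - c (p₂ i) = 1) (hcJ : ∀ j, c (ν j) = if j = B then s' + k' else k')
    (hnorm : ∑ i, c i ^ 2 = (Fintype.card P : ℤ) + 1)
    {LB α : ℝ} (hLB : ∀ j, L (ν j) = LB) (hL1 : ∀ i, L (p₁ i) = α) (hL2 : ∀ i, L (p₂ i) = -α)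
    (h : Rel x L c val) :
    |LB| = |val - (Fintype.card P : ℝ) * α| := by
  classical
  set S₁ : Finset ι := Finset.univ.image p₁ ∪ Finset.univ.image p₂ with hS₁
  set S : Finset ι := S₁ ∪ Finset.univ.image ν with hS
  have hd : Disjoint (Finset.univ.image p₁) (Finset.univ.image p₂) := by
    rw [Finset.disjoint_left]
    intro p e1 e2
    obtain ⟨i, -, rfl⟩ := Finset.mem_image.1 e1
    obtain ⟨j, -, e⟩ := Finset.mem_image.1 e2
    exact h12 i j e.symm
  have hd' : Disjoint S₁ (Finset.univ.image ν) := by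
    rw [Finset.disjoint_left]
    intro p e1 e2
    obtain ⟨j, -, rfl⟩ := Finset.mem_image.1 e2
    rcases Finset.mem_union.1 e1 with e | e <;> obtain ⟨i, -, e⟩ := Finset.mem_image.1 e
    · exact hd1 i j e
    · exact hd2 i j e
  have hsS : ∀ {M : Type} [AddCommMonoid M] (F : ι → M),
      ∑ p ∈ S, F p = (∑ i, (F (p₁ i) + F (p₂ i))) + ∑ j, F (ν j) := by
    intro M _ F
    rw [hS, Finset.sum_union hd', hS₁, Finset.sum_union hd, Finset.sum_image h1.injOn,
      Finset.sum_image h2.injOn, Finset.sum_image hν.injOn, Finset.sum_add_distrib]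
  have hB := extra_nonneg (k := k') (s := s') (l := Fintype.card J) (by rw [hs']; omega)
  have hsq : s' ^ 2 = 1 := by rw [← sq_abs, hs', one_pow]
  have hpair : ∀ i, 1 ≤ c (p₁ i) ^ 2 + c (p₂ i) ^ 2 := by
    intro i
    by_contra hh
    push Not at hh
    have e1 : c (p₁ i) ^ 2 = 0 := by have := sq_nonneg (c (p₁ i)); have := sq_nonneg (c (p₂ i)); omega
    have e2 : c (p₂ i) ^ 2 = 0 := by have := sq_nonneg (c (p₁ i)); have := sq_nonneg (c (p₂ i)); omega
    have := hcP i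
    rw [pow_eq_zero_iff two_ne_zero] at e1 e2
    omega
  have hP : (Fintype.card P : ℤ) ≤ ∑ i : P, (c (p₁ i) ^ 2 + c (p₂ i) ^ 2) := by
    have := Finset.sum_le_sum (s := (Finset.univ : Finset P)) fun i _ => hpair i
    simpa using this
  have hSsq : ∑ p ∈ S, c p ^ 2 = (∑ i : P, (c (p₁ i) ^ 2 + c (p₂ i) ^ 2)) +
      (s' ^ 2 + k' * ((Fintype.card J : ℤ) * k' + 2 * s')) := by
    rw [hsS]
    simp only [hcJ]
    rw [sum_delta_sq]
  have hle : ∑ p ∈ S, c p ^ 2 ≤ ∑ p, c p ^ 2 :=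
    Finset.sum_le_sum_of_subset_of_nonneg (Finset.subset_univ S) fun p _ _ => sq_nonneg (c p)
  have hz := eq_zero_outside S (c := c) (by omega)
  have hone : ∀ i, c (p₁ i) ^ 2 + c (p₂ i) ^ 2 = 1 := by
    have e : ∑ i : P, (c (p₁ i) ^ 2 + c (p₂ i) ^ 2 - 1) = 0 := by
      rw [Finset.sum_sub_distrib]
      simp
      omega
    intro i
    have := (Finset.sum_eq_zero_iff_of_nonneg fun j _ => by have := hpair j; omega).1 e i
      (Finset.mem_univ _)
    omega
  have hqB : k' * ((Fintype.card J : ℤ) * k' + 2 * s') = 0 := by omega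
  set Ψ : ℤ := s' + (Fintype.card J : ℤ) * k' with hΨ
  have hΨ2 : Ψ * Ψ = 1 := by
    rw [hΨ, add_comm, quad_zero hqB, ← sq, hsq]
  have hsel : ∀ i, (c (p₁ i) : ℝ) * α + (c (p₂ i) : ℝ) * -α = α := by
    intro i
    have h' : ((c (p₁ i) : ℝ) - (c (p₂ i) : ℝ)) = 1 := by exact_mod_cast hcP i
    linear_combination α * h'
  have e2 := h.lin
  rw [sum_restrict S hz, hsS] at e2
  simp only [hL1, hL2, hLB, hsel, ← Finset.sum_mul] at e2
  have hJsum : ∑ j, (c (ν j) : ℝ) = (Ψ : ℝ) := by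
    rw [hΨ, ← sum_delta B s' k']
    simp only [hcJ, Int.cast_sum]
  rw [hJsum, Finset.sum_const, Finset.card_univ, nsmul_eq_mul] at e2
  have h7 : |(Ψ : ℝ)| = 1 := by
    rw [← abs_one]
    exact abs_eq_abs.2 (mul_self_eq_mul_self_iff.1 (by rw [one_mul]; exact_mod_cast hΨ2))
  rw [← e2, add_sub_cancel_left, abs_mul, h7, one_mul]

end CfsgLib.RankOneTwo
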