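import Cfsg.Agent.Lib.RankOneTwo.Lambda
import Cfsg.Agent.Lib.RankOneTwo.VecLemma
import Cfsg.Agent.Lib.Characters.Exceptional

/-!
Families of exceptional characters over orthonormal characters of `G_a` with local differences, and
the value of `L` on them.
-/

set_option autoImplicit false

noncomputable section

namespace CfsgLib.RankOneTwo

open CfsgLib.RankOneInvol CfsgLib.Characters
open MulAction (stabilizer mem_stabilizer_iff)
open scoped ComplexConjugate

universe u v w w'

variable {G : Type u} {Ω : Type v} [Group G] [Fintype G] [MulAction G Ω] {a : Ω} {t : G}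
  {Q : Subgroup G} [Fintype (stabilizer G a)]

/-- orthonormal characters of `G_a` with local differences -/
structure IsOrthLocal (a : Ω) [Fintype (stabilizer G a)] {I : Type w} [DecidableEq I]
    (θ : I → stabilizer G a → ℂ) : Prop where
  char : ∀ i, Cfsg.IsCharacter (stabilizer G a) (θ i)
  orth : ∀ i j, Cfsg.classInner (θ i) (θ j) = if i = j then 1 else 0
  loc : ∀ i j, IsLocal a (θ i - θ j)

open scoped Classical in
/-- `μ` is a family of exceptional characters for `θ` with sign `ε` -/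
structure IsExc (a : Ω) [Fintype (stabilizer G a)] {I : Type w} (θ : I → stabilizer G a → ℂ)
    (ε : ℤ) (μ : I → Cfsg.IrrCharacter G) : Prop where
  abs : |ε| = 1
  inj : Function.Injective μ
  ind : ∀ i j, Cfsg.indFun (stabilizer G a) (θ i - θ j) =
    (ε : ℂ) • ((μ i : G → ℂ) - (μ j : G → ℂ))

theorem exists_exc {I : Type w} [DecidableEq I] [Nonempty I] {θ : I → stabilizer G a → ℂ}
    (hθ : IsOrthLocal a θ) : ∃ (ε : ℤ) (μ : I → Cfsg.IrrCharacter G), IsExc a θ ε μ := by
  obtain ⟨i₀⟩ := ‹Nonempty I›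
  let τ : I → G → ℂ := fun i => Cfsg.indFun (stabilizer G a) (θ i - θ i₀)
  have hinner : ∀ i j, Cfsg.classInner (τ i) (τ j) =
      (if i = j then 1 else 0) - (if i₀ = j then 1 else 0) -
        ((if i = i₀ then 1 else 0) - 1) := by
    intro i j
    rw [classInner_indFun_local (hθ.loc _ _) (hθ.loc _ _), classInner_sub_right, classInner_sub_left,
      classInner_sub_left, hθ.orth, hθ.orth, hθ.orth, hθ.orth, if_pos rfl]
  obtain ⟨ε, hε, μ, hμ, hτ⟩ := CharExceptional.exceptional_family i₀ τ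
    (by simp only [τ, sub_self]; rw [← zero_smul ℂ (θ i₀), Induction.indFun_smul, zero_smul])
    (fun i => by
      simp only [τ, Induction.indFun_sub]
      exact isGeneralizedCharacter_sub
        (isGeneralizedCharacter_of_isCharacter (Induction.isCharacter_indFun _ (hθ.char i)))
        (isGeneralizedCharacter_of_isCharacter (Induction.isCharacter_indFun _ (hθ.char i₀))))
    (fun i => indFun_local_one (hθ.loc _ _))
    (fun i hi => by rw [hinner, if_pos rfl, if_neg (Ne.symm hi), if_neg hi]; norm_num)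
    (fun i j hi hj hij => by rw [hinner, if_neg hij, if_neg (Ne.symm hj), if_neg hi]; norm_num)
  obtain ⟨e, he, rfl⟩ : ∃ e : ℤ, |e| = 1 ∧ ε = (e : ℂ) := by
    rcases hε with rfl | rfl
    · exact ⟨1, by norm_num, by norm_num⟩
    · exact ⟨-1, by norm_num, by norm_num⟩
  refine ⟨e, μ, he, hμ, fun i j => ?_⟩
  have : θ i - θ j = (θ i - θ i₀) - (θ j - θ i₀) := by abel
  rw [this, Induction.indFun_sub]
  show τ i - τ j = _
  rw [hτ, hτ, ← smul_sub, sub_sub_sub_cancel_right]

theorem exists_coeff {f : stabilizer G a → ℂ}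
    (hf : Cfsg.IsGeneralizedCharacter (stabilizer G a) f) :
    ∃ c : Cfsg.IrrCharacter G → ℤ, ∀ χ : Cfsg.IrrCharacter G,
      Cfsg.classInner (Cfsg.indFun (stabilizer G a) f) (χ : G → ℂ) = (c χ : ℂ) := by
  obtain ⟨χ₁, χ₂, h1, h2, rfl⟩ := hf
  have := isGeneralizedCharacter_sub
    (isGeneralizedCharacter_of_isCharacter (Induction.isCharacter_indFun (stabilizer G a) h1))
    (isGeneralizedCharacter_of_isCharacter (Induction.isCharacter_indFun (stabilizer G a) h2))
  rw [← Induction.indFun_sub] at this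
  choose c hc using (isGeneralizedCharacter_iff.1 this).2
  exact ⟨c, hc⟩

omit [Fintype (stabilizer G a)] in
theorem coeff_of_diff [DecidableEq (Cfsg.IrrCharacter G)] (ε : ℤ) (χa χb χ : Cfsg.IrrCharacter G) :
    Cfsg.classInner ((ε : ℂ) • ((χa : G → ℂ) - (χb : G → ℂ))) (χ : G → ℂ) =
      ((ε * ((if χ = χa then 1 else 0) - (if χ = χb then 1 else 0)) : ℤ) : ℂ) := by
  rw [classInner_smul_left, classInner_sub_left, classInner_irr, classInner_irr]
  push_cast
  simp only [eq_comm (a := χ)]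

/-- families whose differences are orthogonal are disjoint -/
theorem disjoint_exc {I : Type w} {J : Type w'} [DecidableEq I] [DecidableEq J]
    {θ : I → stabilizer G a → ℂ} {θ' : J → stabilizer G a → ℂ} (hθ : IsOrthLocal a θ)
    (hθ' : IsOrthLocal a θ') (ho : ∀ i j, Cfsg.classInner (θ i) (θ' j) = 0)
    {ε ε' : ℤ} {μ : I → Cfsg.IrrCharacter G} {ν : J → Cfsg.IrrCharacter G}
    (hμ : IsExc a θ ε μ) (hν : IsExc a θ' ε' ν) (hI : ∀ i : I, ∃ i', i' ≠ i)
    (hJ : ∀ j : J, ∃ j', j' ≠ j) : ∀ i j, μ i ≠ ν j := by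
  classical
  intro i j e
  obtain ⟨i', hi⟩ := hI i
  obtain ⟨j', hj⟩ := hJ j
  have h0 : Cfsg.classInner (Cfsg.indFun (stabilizer G a) (θ i - θ i'))
      (Cfsg.indFun (stabilizer G a) (θ' j - θ' j')) = 0 := by
    rw [classInner_indFun_local (hθ.loc _ _) (hθ'.loc _ _), classInner_sub_right, classInner_sub_left,
      classInner_sub_left, ho, ho, ho, ho]
    simp
  rw [hμ.ind, hν.ind, classInner_smul_left, classInner_smul_right, CharExceptional.classInner_diff] at h0
  have hε : (ε : ℂ) ≠ 0 := Int.cast_ne_zero.2 fun h => by simpa [h] using hμ.abs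
  have hε' : conj (ε' : ℂ) ≠ 0 := by
    rw [map_intCast]; exact Int.cast_ne_zero.2 fun h => by simpa [h] using hν.abs
  have h1 := (mul_eq_zero.1 ((mul_eq_zero.1 h0).resolve_left hε)).resolve_left hε'
  have hne1 : μ i' ≠ μ i := fun h => hi (hμ.inj h)
  have hne2 : ν j' ≠ ν j := fun h => hj (hν.inj h)
  have h2 : ((if μ i = ν j then 1 else 0) - (if μ i' = ν j then 1 else 0) -
      ((if μ i = ν j' then 1 else 0) - (if μ i' = ν j' then 1 else 0)) : ℤ) = 0 := by exact_mod_cast h1
  rw [if_pos e, if_neg (by rw [← e]; exact hne1), if_neg (by rw [e]; exact hne2.symm)] at h2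
  split_ifs at h2 <;> omega

omit [Fintype (stabilizer G a)] in
/-- orthogonal differences of irreducible characters involve four different characters -/
theorem diff_orth_distinct {p q r s : Cfsg.IrrCharacter G} (hpq : p ≠ q) (hrs : r ≠ s)
    (h : Cfsg.classInner ((p : G → ℂ) - (q : G → ℂ)) ((r : G → ℂ) - (s : G → ℂ)) = 0) :
    p ≠ r ∧ p ≠ s ∧ q ≠ r ∧ q ≠ s := by
  classical
  rw [CharExceptional.classInner_diff] at h
  have h' : (((if p = r then 1 else 0) - (if q = r then 1 else 0) -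
      ((if p = s then 1 else 0) - (if q = s then 1 else 0))) : ℤ) = 0 := by exact_mod_cast h
  refine ⟨fun e => ?_, fun e => ?_, fun e => ?_, fun e => ?_⟩ <;> subst e
  · rw [if_pos rfl, if_neg hpq.symm, if_neg hrs] at h'
    split_ifs at h' <;> omega
  · rw [if_pos rfl, if_neg hpq.symm, if_neg hrs.symm] at h'
    split_ifs at h' <;> omega
  · rw [if_pos rfl, if_neg hpq, if_neg hrs] at h'
    split_ifs at h' <;> omega
  · rw [if_pos rfl, if_neg hpq, if_neg hrs.symm] at h'
    split_ifs at h' <;> omega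

variable (hS : Cfsg.IsRankOneSetup G Ω a t Q)
  (h2 : ∃ x y : G, x ≠ 1 ∧ y ≠ 1 ∧ x ≠ y ∧ x * x = 1 ∧ y * y = 1 ∧ x * y = y * x)
include hS h2

theorem rel_of_local {f : stabilizer G a → ℂ} (hf : IsLocal a f) {z : stabilizer G a}
    (hz : (z : G) ∈ Zs G a) {c : Cfsg.IrrCharacter G → ℤ}
    (hc : ∀ χ : Cfsg.IrrCharacter G,
      Cfsg.classInner (Cfsg.indFun (stabilizer G a) f) (χ : G → ℂ) = (c χ : ℂ))
    {val : ℝ} (hval : f z = (val : ℂ)) :
    Rel (fun χ : Cfsg.IrrCharacter G => deg χ) (lam a t Q) c val := by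
  obtain ⟨e1, e2, e3⟩ := local_relations hS h2 hf hz hc hval
  exact ⟨e1, e2, e3⟩

/-- within a family whose members agree at `z`, degrees and values of `L` agree -/
theorem exc_const {I : Type w} [DecidableEq I] {θ : I → stabilizer G a → ℂ}
    (hθ : IsOrthLocal a θ) {ε : ℤ} {μ : I → Cfsg.IrrCharacter G} (hμ : IsExc a θ ε μ)
    {z : stabilizer G a} (hz : (z : G) ∈ Zs G a) (hval : ∀ i j, θ i z = θ j z) (i j : I) :
    deg (μ i) = deg (μ j) ∧ lam a t Q (μ i) = lam a t Q (μ j) := by
  classical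
  rcases eq_or_ne i j with rfl | hij
  · exact ⟨rfl, rfl⟩
  have hrel := rel_of_local hS h2 (hθ.loc i j) hz
    (c := fun χ => ε * ((if χ = μ i then 1 else 0) - (if χ = μ j then 1 else 0)))
    (fun χ => by rw [hμ.ind, coeff_of_diff]) (val := 0) (by simp [hval i j])
  obtain ⟨e1, e2, -⟩ := rel_diff (fun h => hij (hμ.inj h)) hμ.abs deg_pos (fun χ => rfl) hrel
  refine ⟨e1, sub_eq_zero.1 ((mul_eq_zero.1 e2).resolve_left ?_)⟩
  exact Int.cast_ne_zero.2 fun h => by simpa [h] using hμ.abs

omit hS h2 in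
/-- coefficients on a family of an induced local function pairing with the differences as `s` times
a member -/
theorem coeff_on_family {I : Type w} [DecidableEq I] {θ : I → stabilizer G a → ℂ}
    (hθ : IsOrthLocal a θ) {ε : ℤ} {μ : I → Cfsg.IrrCharacter G} (hμ : IsExc a θ ε μ)
    {f : stabilizer G a → ℂ} (hf : IsLocal a f) {c : Cfsg.IrrCharacter G → ℤ}
    (hc : ∀ χ : Cfsg.IrrCharacter G,
      Cfsg.classInner (Cfsg.indFun (stabilizer G a) f) (χ : G → ℂ) = (c χ : ℂ))
    {A : I} {s : ℤ} (hA : ∀ i, Cfsg.classInner f (θ i) = if i = A then (s : ℂ) else 0) :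
    ∃ k : ℤ, ∀ i, c (μ i) = if i = A then ε * s + k else k := by
  refine ⟨c (μ A) - ε * s, fun i => ?_⟩
  split_ifs with h
  · rw [h]; ring
  have h0 := classInner_indFun_local hf (hθ.loc A i)
  rw [hμ.ind, classInner_smul_right, classInner_sub_right, hc, hc, map_intCast,
    classInner_sub_right, hA, hA, if_pos rfl, if_neg h, sub_zero] at h0
  have h1 : ε * (c (μ A) - c (μ i)) = s := by exact_mod_cast h0
  have hεε : ε * ε = 1 := by rw [← sq, ← sq_abs, hμ.abs, one_pow]
  linear_combination (-ε) * h1 + (c (μ A) - c (μ i)) * hεε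

/-- the basic relation between two families -/
theorem lam_of_relation {I : Type w} {J : Type w'} [Fintype I] [Fintype J] [DecidableEq I] [DecidableEq J]
    {θ : I → stabilizer G a → ℂ} {θ' : J → stabilizer G a → ℂ} (hθ : IsOrthLocal a θ)
    (hθ' : IsOrthLocal a θ') (ho : ∀ i j, Cfsg.classInner (θ i) (θ' j) = 0)
    {ε ε' : ℤ} {μ : I → Cfsg.IrrCharacter G} {ν : J → Cfsg.IrrCharacter G}
    (hμ : IsExc a θ ε μ) (hν : IsExc a θ' ε' ν) {A : I} {B : J} {m : ℕ} (hm : 0 < m)
    (hI : 2 * m ≤ Fintype.card I) (hJ : 2 ≤ Fintype.card J)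
    (hf : IsLocal a ((m : ℂ) • θ A - θ' B)) {z : stabilizer G a} (hz : (z : G) ∈ Zs G a)
    (hθz : ∀ i j, θ i z = θ j z) (hθ'z : ∀ i j, θ' i z = θ' j z)
    {val : ℝ} (hval : ((m : ℂ) • θ A - θ' B) z = (val : ℂ)) (hval0 : val ≠ 0) :
    (∀ i, |lam a t Q (μ i)| * (2 * m) = |val|) ∧ (∀ j, |lam a t Q (ν j)| * 2 = |val|) := by
  classical
  set f := (m : ℂ) • θ A - θ' B with hfdef
  have hgen : Cfsg.IsGeneralizedCharacter (stabilizer G a) f :=
    isGeneralizedCharacter_sub (isGeneralizedCharacter_natCast_smul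
      (isGeneralizedCharacter_of_isCharacter (hθ.char A)) m)
      (isGeneralizedCharacter_of_isCharacter (hθ'.char B))
  obtain ⟨c, hc⟩ := exists_coeff hgen
  have ho' : ∀ i j, Cfsg.classInner (θ' j) (θ i) = 0 := fun i j => by
    rw [classInner_conj_symm, ho, map_zero]
  obtain ⟨k, hk⟩ := coeff_on_family hθ hμ hf hc (A := A) (s := (m : ℤ)) fun i => by
    rw [hfdef, classInner_sub_left, classInner_smul_left, hθ.orth, ho', sub_zero, Int.cast_natCast]
    simp only [eq_comm (a := A)]
    split_ifs <;> simp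
  obtain ⟨k', hk'⟩ := coeff_on_family hθ' hν hf hc (A := B) (s := -1) fun j => by
    rw [hfdef, classInner_sub_left, classInner_smul_left, hθ'.orth, ho, mul_zero, zero_sub]
    simp only [eq_comm (a := B)]
    split_ifs <;> simp
  have hnorm : ∑ χ, c χ ^ 2 = (ε * (m : ℤ)) ^ 2 + 1 := by
    have h0 := classInner_self_eq_sum_sq (Induction.isClassFunction_indFun _ f) hc
    rw [classInner_indFun_local hf hf, hfdef, classInner_sub_right, classInner_sub_left,
      classInner_sub_left, classInner_smul_right, classInner_smul_left, hθ.orth, hθ'.orth,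
      classInner_smul_right, classInner_smul_left, ho, ho', if_pos rfl, if_pos rfl, map_natCast] at h0
    have h1 : ((m : ℤ) * m + 1 : ℤ) = ∑ χ, c χ ^ 2 := by
      have : (((m : ℤ) * m + 1 : ℤ) : ℂ) = ((∑ χ, c χ ^ 2 : ℤ) : ℂ) := by
        rw [← h0]; push_cast; ring
      exact_mod_cast this
    rw [← h1, mul_pow, ← sq_abs, hμ.abs]
    ring
  haveI : Nonempty I := ⟨A⟩
  have hI' : ∀ i : I, ∃ i', i' ≠ i := fun i => by
    haveI : Nontrivial I := Fintype.one_lt_card_iff_nontrivial.1 (by omega)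
    exact exists_ne i
  have hJ' : ∀ j : J, ∃ j', j' ≠ j := fun j => by
    haveI : Nontrivial J := Fintype.one_lt_card_iff_nontrivial.1 (by omega)
    exact exists_ne j
  have habs : |ε * (m : ℤ)| = (m : ℤ) := by rw [abs_mul, hμ.abs, one_mul, Nat.abs_cast]
  have hrel := rel_of_local hS h2 hf hz hc hval
  obtain ⟨e1, e2⟩ := two_family μ ν hμ.inj hν.inj (disjoint_exc hθ hθ' ho hμ hν hI' hJ') deg_pos
    (A := A) (B := B) (s := ε * m) (k := k) (s' := ε' * -1) (k' := k')
    (by rw [abs_mul, hν.abs]; norm_num) (by rw [habs]; exact_mod_cast hI) hJ hk hk' hnorm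
    (LA := lam a t Q (μ A)) (LB := lam a t Q (ν B))
    (fun i => (exc_const hS h2 hθ hμ hz hθz i A).2) (fun j => (exc_const hS h2 hθ' hν hz hθ'z j B).2)
    (fun i => (exc_const hS h2 hθ hμ hz hθz i A).1) (fun j => (exc_const hS h2 hθ' hν hz hθ'z j B).1)
    hrel hval0
  refine ⟨fun i => ?_, fun j => ?_⟩
  · have : |((ε * (m : ℤ) : ℤ) : ℝ)| = (m : ℝ) := by rw [← Int.cast_abs, habs]; simp
    rw [(exc_const hS h2 hθ hμ hz hθz i A).2, ← this]
    exact e1
  · rw [(exc_const hS h2 hθ' hν hz hθ'z j B).2]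
    exact e2

/-- pairs of characters with local differences against a family -/
theorem lam_of_pairs {P : Type w} {J : Type w'} [Fintype P] [Fintype J] [DecidableEq P] [DecidableEq J]
    {θ₁ θ₂ : P → stabilizer G a → ℂ} {θ' : J → stabilizer G a → ℂ}
    (h1c : ∀ i, Cfsg.IsCharacter (stabilizer G a) (θ₁ i))
    (h2c : ∀ i, Cfsg.IsCharacter (stabilizer G a) (θ₂ i))
    (ho11 : ∀ i j, Cfsg.classInner (θ₁ i) (θ₁ j) = if i = j then 1 else 0)
    (ho22 : ∀ i j, Cfsg.classInner (θ₂ i) (θ₂ j) = if i = j then 1 else 0)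
    (ho12 : ∀ i j, Cfsg.classInner (θ₁ i) (θ₂ j) = 0)
    (hl12 : ∀ i, IsLocal a (θ₁ i - θ₂ i))
    (hθ' : IsOrthLocal a θ') (ho1 : ∀ i j, Cfsg.classInner (θ₁ i) (θ' j) = 0)
    (ho2 : ∀ i j, Cfsg.classInner (θ₂ i) (θ' j) = 0)
    {ε' : ℤ} {ν : J → Cfsg.IrrCharacter G} (hν : IsExc a θ' ε' ν) {B : J}
    (hJ : 2 ≤ Fintype.card J) (hf : IsLocal a ((∑ i, θ₁ i) - θ' B))
    {z : stabilizer G a} (hz : (z : G) ∈ Zs G a) (hθ'z : ∀ i j, θ' i z = θ' j z)
    {α : ℝ} (hα : ∀ i, (θ₁ i - θ₂ i) z = ((2 * α : ℝ) : ℂ)) (hα0 : α ≠ 0)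
    {val : ℝ} (hval : ((∑ i, θ₁ i) - θ' B) z = (val : ℂ)) :
    ∀ j, |lam a t Q (ν j)| = |val - (Fintype.card P : ℝ) * α| := by
  classical
  have ho21 : ∀ i j, Cfsg.classInner (θ₂ i) (θ₁ j) = 0 := fun i j => by
    rw [classInner_conj_symm, ho12, map_zero]
  have hgen : ∀ i, Cfsg.IsGeneralizedCharacter G (Cfsg.indFun (stabilizer G a) (θ₁ i - θ₂ i)) := by
    intro i
    rw [Induction.indFun_sub]
    exact isGeneralizedCharacter_sub
      (isGeneralizedCharacter_of_isCharacter (Induction.isCharacter_indFun _ (h1c i)))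
      (isGeneralizedCharacter_of_isCharacter (Induction.isCharacter_indFun _ (h2c i)))
  have hex : ∀ i, ∃ p q : Cfsg.IrrCharacter G, p ≠ q ∧
      Cfsg.indFun (stabilizer G a) (θ₁ i - θ₂ i) = (p : G → ℂ) - (q : G → ℂ) := fun i =>
    CharExceptional.exists_diff_of_norm_two (hgen i) (indFun_local_one (hl12 i)) (by
      rw [classInner_indFun_local (hl12 i) (hl12 i), classInner_sub_right, classInner_sub_left,
        classInner_sub_left, ho11, ho22, ho12, ho21, if_pos rfl]
      norm_num)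
  choose p q hpq hτ using hex
  have hdist : ∀ i i', i ≠ i' → p i ≠ p i' ∧ p i ≠ q i' ∧ q i ≠ p i' ∧ q i ≠ q i' := fun i i' hne =>
    diff_orth_distinct (hpq i) (hpq i') (by
      rw [← hτ, ← hτ, classInner_indFun_local (hl12 i) (hl12 i'), classInner_sub_right,
        classInner_sub_left, classInner_sub_left, ho11, ho22, ho12, ho21, if_neg hne]
      norm_num)
  haveI : Nontrivial J := Fintype.one_lt_card_iff_nontrivial.1 (by omega)
  have hdJ : ∀ i j, p i ≠ ν j ∧ q i ≠ ν j := by
    intro i j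
    obtain ⟨j', hj⟩ := exists_ne j
    have hne : ν j ≠ ν j' := fun e => hj (hν.inj e).symm
    have h0 := diff_orth_distinct (hpq i) hne (by
      have h1 : Cfsg.classInner (Cfsg.indFun (stabilizer G a) (θ₁ i - θ₂ i))
          (Cfsg.indFun (stabilizer G a) (θ' j - θ' j')) = 0 := by
        rw [classInner_indFun_local (hl12 i) (hθ'.loc _ _), classInner_sub_right,
          classInner_sub_left, classInner_sub_left, ho1, ho1, ho2, ho2]
        simp
      rw [hν.ind, hτ, classInner_smul_right] at h1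
      refine (mul_eq_zero.1 h1).resolve_left ?_
      rw [map_intCast]
      exact Int.cast_ne_zero.2 fun h => by simpa [h] using hν.abs)
    exact ⟨h0.1, h0.2.2.1⟩
  have hpair : ∀ i, lam a t Q (p i) = α ∧ lam a t Q (q i) = -α := by
    intro i
    have hrel := rel_of_local hS h2 (hl12 i) hz
      (c := fun χ => (1 : ℤ) * ((if χ = p i then 1 else 0) - (if χ = q i then 1 else 0)))
      (fun χ => by
        rw [hτ, ← coeff_of_diff (1 : ℤ) (p i) (q i) χ, Int.cast_one, one_smul]) (hα i)
    obtain ⟨-, e2, e3⟩ := rel_diff (hpq i) abs_one deg_pos (fun χ => rfl) hrel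
    rw [Int.cast_one, one_mul] at e2
    rcases sq_eq_sq_iff_eq_or_eq_neg.1 e3 with e | e
    · exfalso; apply hα0; linarith
    · constructor <;> linarith
  set f := (∑ i, θ₁ i) - θ' B with hfdef
  have hfgen : Cfsg.IsGeneralizedCharacter (stabilizer G a) f :=
    isGeneralizedCharacter_sub (isGeneralizedCharacter_sum _ fun i _ =>
      isGeneralizedCharacter_of_isCharacter (h1c i)) (isGeneralizedCharacter_of_isCharacter (hθ'.char B))
  obtain ⟨c, hc⟩ := exists_coeff hfgen
  have ho1' : ∀ i j, Cfsg.classInner (θ' j) (θ₁ i) = 0 := fun i j => by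
    rw [classInner_conj_symm, ho1, map_zero]
  have ho2' : ∀ i j, Cfsg.classInner (θ' j) (θ₂ i) = 0 := fun i j => by
    rw [classInner_conj_symm, ho2, map_zero]
  have hfθ' : ∀ j, Cfsg.classInner f (θ' j) = if j = B then ((-1 : ℤ) : ℂ) else 0 := fun j => by
    rw [hfdef, classInner_sub_left, classInner_sum_left, Finset.sum_eq_zero fun i _ => ho1 i j,
      hθ'.orth, zero_sub]
    simp only [eq_comm (a := B)]
    split_ifs <;> simp
  obtain ⟨k', hk'⟩ := coeff_on_family hθ' hν hf hc hfθ'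
  have hcP : ∀ i, c (p i) - c (q i) = 1 := by
    intro i
    have h0 := classInner_indFun_local hf (hl12 i)
    rw [hτ, classInner_sub_right, hc, hc, classInner_sub_right, hfdef, classInner_sub_left,
      classInner_sub_left, classInner_sum_left, classInner_sum_left, ho1', ho2',
      Finset.sum_eq_zero (f := fun j => Cfsg.classInner (θ₁ j) (θ₂ i)) fun j _ => ho12 j i] at h0
    simp only [ho11, Finset.sum_ite_eq', Finset.mem_univ, if_true, sub_zero] at h0
    exact_mod_cast h0
  have hnorm : ∑ χ, c χ ^ 2 = (Fintype.card P : ℤ) + 1 := by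
    have h0 := classInner_self_eq_sum_sq (Induction.isClassFunction_indFun _ f) hc
    have h5 : ∀ i, Cfsg.classInner (θ₁ i) f = 1 := fun i => by
      rw [hfdef, classInner_sub_right, classInner_sum_right, ho1, sub_zero]
      simp only [ho11, Finset.sum_ite_eq, Finset.mem_univ, if_true]
    have h6 : Cfsg.classInner (θ' B) f = -1 := by
      rw [hfdef, classInner_sub_right, classInner_sum_right, Finset.sum_eq_zero fun i _ => ho1' i B,
        hθ'.orth, if_pos rfl, zero_sub]
    rw [classInner_indFun_local hf hf, show Cfsg.classInner f f =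
      Cfsg.classInner ((∑ i, θ₁ i) - θ' B) f from rfl, classInner_sub_left, classInner_sum_left,
      Finset.sum_congr rfl (fun i _ => h5 i), h6, Finset.sum_const, Finset.card_univ, nsmul_eq_mul,
      mul_one] at h0
    have h7 : ((∑ χ, c χ ^ 2 : ℤ) : ℂ) = (((Fintype.card P : ℤ) + 1 : ℤ) : ℂ) := by
      rw [← h0]; push_cast; ring
    exact_mod_cast h7
  have key := pairs_family p q ν
    (fun i i' e => by by_contra h; exact (hdist i i' h).1 e)
    (fun i i' e => by by_contra h; exact (hdist i i' h).2.2.2 e) hν.inj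
    (fun i i' => by
      rcases eq_or_ne i i' with rfl | h
      · exact hpq i
      · exact (hdist i i' h).2.1)
    (fun i j => (hdJ i j).1) (fun i j => (hdJ i j).2) (B := B) (s' := ε' * -1) (k' := k')
    (by rw [abs_mul, hν.abs]; norm_num) hJ hcP hk' hnorm (LB := lam a t Q (ν B))
    (fun j => (exc_const hS h2 hθ' hν hz hθ'z j B).2) (fun i => (hpair i).1) (fun i => (hpair i).2)
    (rel_of_local hS h2 hf hz hc hval)
  intro j
  rw [(exc_const hS h2 hθ' hν hz hθ'z j B).2]
  exact key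

end CfsgLib.RankOneTwo
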