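import Cfsg.Agent.Lib.RankOneTwo.Count
import Cfsg.Agent.Lib.Characters.Generalized
import Cfsg.Agent.Lib.Characters.Artin

/-!
The functional `L χ = χ(t) - b χ(1)`: its square sum over the irreducible characters, and its two
relations with the multiplicities of an induced local function.
-/

set_option autoImplicit false

noncomputable section

namespace CfsgLib.RankOneTwo

open CfsgLib.RankOneInvol CfsgLib.ClassCount CfsgLib.Characters
open MulAction (stabilizer mem_stabilizer_iff)
open scoped ComplexConjugate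

universe u v

variable {G : Type u} {Ω : Type v} [Group G] [MulAction G Ω] {a : Ω} {t : G} {Q : Subgroup G}

/-- the degree of a character as a real number -/
def deg (χ : Cfsg.IrrCharacter G) : ℝ := ((χ : G → ℂ) 1).re

variable [Fintype G]

theorem deg_cast (χ : Cfsg.IrrCharacter G) : ((deg χ : ℝ) : ℂ) = (χ : G → ℂ) 1 := by
  obtain ⟨d, -, h⟩ := irr_exists_degree χ.2
  simp [deg, h]

theorem deg_pos (χ : Cfsg.IrrCharacter G) : 0 < deg χ := by
  obtain ⟨d, hd, h⟩ := irr_exists_degree χ.2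
  simp only [deg, h, Complex.natCast_re, Nat.cast_pos]
  exact hd

/-- the number `b` -/
def bconst (G : Type u) [Group G] [Fintype G] {Ω : Type v} [MulAction G Ω] (a : Ω) (Q : Subgroup G) :
    ℝ := (((Zs G a).card : ℝ) - 1) / (2 * ((Nat.card Q : ℝ) + 1) * (Zs G a).card)

/-- `L χ = χ(t) - b χ(1)` -/
def lam (a : Ω) (t : G) (Q : Subgroup G) (χ : Cfsg.IrrCharacter G) : ℝ :=
  ((χ : G → ℂ) t).re - bconst G a Q * deg χ

variable (hS : Cfsg.IsRankOneSetup G Ω a t Q)
include hS

theorem t_val_cast (χ : Cfsg.IrrCharacter G) : ((((χ : G → ℂ) t).re : ℝ) : ℂ) = (χ : G → ℂ) t := by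
  have h : conj ((χ : G → ℂ) t) = (χ : G → ℂ) t := by
    rw [← irr_apply_inv χ t, t_inv hS]
  exact Complex.conj_eq_iff_re.1 h

theorem lam_cast (χ : Cfsg.IrrCharacter G) :
    ((lam a t Q χ : ℝ) : ℂ) = (χ : G → ℂ) t - (bconst G a Q : ℂ) * (χ : G → ℂ) 1 := by
  rw [lam, Complex.ofReal_sub, Complex.ofReal_mul, t_val_cast hS, deg_cast]

/-- `Σ L² = |C(t)| + b² |G|` -/
theorem sum_lam_sq :
    ∑ χ : Cfsg.IrrCharacter G, lam a t Q χ ^ 2 =
      Nat.card (Subgroup.centralizer ({t} : Set G)) + bconst G a Q ^ 2 * Nat.card G := by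
  classical
  apply Complex.ofReal_injective
  push_cast
  simp only [lam_cast hS]
  have h1 := column_orth t t
  have h2 := column_orth t (1 : G)
  have h3 := column_orth (1 : G) 1
  rw [if_pos (IsConj.refl t)] at h1
  rw [if_neg (fun h => hS.ne_one (isConj_one_left.1 h))] at h2
  rw [if_pos (IsConj.refl 1)] at h3
  have htop : Nat.card (Subgroup.centralizer ({(1 : G)} : Set G)) = Nat.card G := by
    rw [show Subgroup.centralizer ({(1 : G)} : Set G) = ⊤ from by
      ext g; simp [Subgroup.mem_centralizer_iff], Subgroup.card_top]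
  rw [htop] at h3
  have hreal : ∀ χ : Cfsg.IrrCharacter G, conj ((χ : G → ℂ) t) = (χ : G → ℂ) t := fun χ => by
    rw [← irr_apply_inv χ t, t_inv hS]
  have hreal1 : ∀ χ : Cfsg.IrrCharacter G, conj ((χ : G → ℂ) 1) = (χ : G → ℂ) 1 := fun χ => by
    rw [← deg_cast, Complex.conj_ofReal]
  simp only [hreal, hreal1] at h1 h2 h3
  calc ∑ χ : Cfsg.IrrCharacter G, ((χ : G → ℂ) t - (bconst G a Q : ℂ) * (χ : G → ℂ) 1) ^ 2
      = ∑ χ : Cfsg.IrrCharacter G, (χ : G → ℂ) t * (χ : G → ℂ) t
        - 2 * (bconst G a Q : ℂ) * ∑ χ : Cfsg.IrrCharacter G, (χ : G → ℂ) t * (χ : G → ℂ) 1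
        + (bconst G a Q : ℂ) ^ 2 * ∑ χ : Cfsg.IrrCharacter G, (χ : G → ℂ) 1 * (χ : G → ℂ) 1 := by
        simp only [Finset.mul_sum, ← Finset.sum_sub_distrib, ← Finset.sum_add_distrib]
        exact Finset.sum_congr rfl fun χ _ => by ring
    _ = _ := by rw [h1, h2, h3]; ring

variable [Fintype (stabilizer G a)]

omit hS in
/-- induction from `G_a` is an isometry on local functions -/
theorem indFun_onlyFix {f : stabilizer G a → ℂ} (hf : IsLocal a f) (x : stabilizer G a)
    (hx : OnlyFix a (x : G)) :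
    Cfsg.indFun (stabilizer G a) f x = f x := by
  classical
  have hterm : ∀ g : G, Cfsg.extendByZero (stabilizer G a) f (g⁻¹ * (x : G) * g) =
      if g ∈ stabilizer G a then f x else 0 := by
    intro g
    split_ifs with hg
    · have := Induction.extendByZero_conj (stabilizer G a) hf.cls (⟨g, hg⟩⁻¹ : stabilizer G a) (x : G)
      rw [show ((⟨g, hg⟩⁻¹ : stabilizer G a) : G) = g⁻¹ from rfl, inv_inv] at this
      rw [this, Induction.extendByZero_mem (stabilizer G a) f x.2]
    · by_cases hy : g⁻¹ * (x : G) * g ∈ stabilizer G a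
      · rw [Induction.extendByZero_mem (stabilizer G a) f hy]
        by_contra hne
        apply hg
        have hy' : (g⁻¹ * (x : G) * g) • a = a := hy
        rw [mul_smul, mul_smul, inv_smul_eq_iff] at hy'
        exact hx _ hy'
      · exact Induction.extendByZero_notMem (stabilizer G a) f hy
  rw [Induction.indFun_apply, Finset.sum_congr rfl fun g _ => hterm g, ← Finset.sum_filter,
    Finset.sum_const, nsmul_eq_mul]
  have hc : (Finset.univ.filter fun g => g ∈ stabilizer G a).card = Nat.card (stabilizer G a) := by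
    rw [Nat.card_eq_fintype_card, Fintype.card_subtype]
  rw [hc, inv_mul_cancel_left₀ (Nat.cast_ne_zero.2 Nat.card_pos.ne')]

omit hS in
theorem classInner_indFun_local {f g : stabilizer G a → ℂ} (hf : IsLocal a f) (hg : IsLocal a g) :
    Cfsg.classInner (Cfsg.indFun (stabilizer G a) f) (Cfsg.indFun (stabilizer G a) g) =
      Cfsg.classInner f g := by
  rw [Induction.classInner_indFun _ _ (Induction.isClassFunction_indFun _ g)]
  unfold Cfsg.classInner
  congr 1
  refine Finset.sum_congr rfl fun x _ => ?_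
  by_cases hx : f x = 0
  · simp [hx]
  · simp only
    rw [indFun_onlyFix hg x (hf.supp x hx)]

omit hS in
theorem indFun_local_one {f : stabilizer G a → ℂ} (hf : IsLocal a f) :
    Cfsg.indFun (stabilizer G a) f 1 = 0 := by
  rw [Induction.indFun_one_apply, hf.one, mul_zero]

variable (h2 : ∃ x y : G, x ≠ 1 ∧ y ≠ 1 ∧ x ≠ y ∧ x * x = 1 ∧ y * y = 1 ∧ x * y = y * x)
include h2

/-- the three relations between `L`, the degrees and the multiplicities of an induced local
function -/
theorem local_relations {f : stabilizer G a → ℂ} (hf : IsLocal a f) {z : stabilizer G a}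
    (hz : (z : G) ∈ Zs G a) {m : Cfsg.IrrCharacter G → ℤ}
    (hm : ∀ χ : Cfsg.IrrCharacter G,
      Cfsg.classInner (Cfsg.indFun (stabilizer G a) f) (χ : G → ℂ) = (m χ : ℂ))
    {val : ℝ} (hval : f z = (val : ℂ)) :
    ∑ χ, (m χ : ℝ) * deg χ = 0 ∧ ∑ χ, (m χ : ℝ) * lam a t Q χ = val ∧
      ∑ χ, (m χ : ℝ) * (lam a t Q χ ^ 2 / deg χ) = 0 := by
  classical
  have hind := Induction.isClassFunction_indFun (stabilizer G a) f
  have hexp : ∀ g : G, Cfsg.indFun (stabilizer G a) f g =
      ∑ χ : Cfsg.IrrCharacter G, (m χ : ℂ) * (χ : G → ℂ) g := by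
    intro g
    conv_lhs => rw [classFunction_eq_sum hind]
    simp only [Finset.sum_apply, Pi.smul_apply, smul_eq_mul, hm]
  have e1 : ∑ χ : Cfsg.IrrCharacter G, (m χ : ℂ) * (χ : G → ℂ) 1 = 0 := by
    rw [← hexp, indFun_local_one hf]
  have e2 : ∑ χ : Cfsg.IrrCharacter G, (m χ : ℂ) * (χ : G → ℂ) t = (val : ℂ) := by
    rw [← hexp, indFun_t hS hf.cls hz, hval]
  have e3 := sum_sq_identity hS h2 hf hz
  simp only [hm, hval] at e3
  have hb : (((Zs G a).card : ℂ) - 1) / (((Nat.card Q : ℂ) + 1) * (Zs G a).card) =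
      2 * (bconst G a Q : ℂ) := by
    rw [bconst]
    push_cast
    have : ((Nat.card Q : ℂ) + 1) ≠ 0 := by exact_mod_cast Nat.succ_ne_zero (Nat.card Q)
    have : ((Zs G a).card : ℂ) ≠ 0 := Nat.cast_ne_zero.2 (Finset.card_ne_zero.2 ⟨_, hz⟩)
    field_simp
  rw [hb] at e3
  refine ⟨Complex.ofReal_injective ?_, Complex.ofReal_injective ?_, Complex.ofReal_injective ?_⟩
  · push_cast
    simp only [deg_cast]
    exact e1
  · push_cast
    simp only [lam_cast hS, mul_sub, Finset.sum_sub_distrib, mul_left_comm _ (bconst G a Q : ℂ),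
      ← Finset.mul_sum, e1, e2, mul_zero, sub_zero]
  · push_cast
    simp only [lam_cast hS, deg_cast]
    have hterm : ∀ χ : Cfsg.IrrCharacter G, (m χ : ℂ) *
        (((χ : G → ℂ) t - (bconst G a Q : ℂ) * (χ : G → ℂ) 1) ^ 2 / (χ : G → ℂ) 1) =
        (m χ : ℂ) * ((χ : G → ℂ) t ^ 2 / (χ : G → ℂ) 1)
          - 2 * (bconst G a Q : ℂ) * ((m χ : ℂ) * (χ : G → ℂ) t)
          + (bconst G a Q : ℂ) ^ 2 * ((m χ : ℂ) * (χ : G → ℂ) 1) := by
      intro χ
      have := irr_one_ne_zero χ
      field_simp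
      ring
    rw [Finset.sum_congr rfl fun χ _ => hterm χ, Finset.sum_add_distrib, Finset.sum_sub_distrib,
      ← Finset.mul_sum, ← Finset.mul_sum, e1, e2, e3]
    ring

end CfsgLib.RankOneTwo
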