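import Cfsg.Agent.Lib.RankOneTwo.Parts
import Cfsg.Agent.Lib.RankOneTwo.Family
import Cfsg.Agent.Lib.RankOne.Basic

/-!
Pairs of irreducible characters of the two parts of `Q`, the action of `D` on them, and the
characters of `G_a` induced from them.
-/

set_option autoImplicit false

noncomputable section

namespace CfsgLib.RankOneTwo

open CfsgLib.RankOneInvol CfsgLib.Characters
open MulAction (stabilizer mem_stabilizer_iff)
open scoped ComplexConjugate

universe u v

section Degree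

variable {A : Type u} [Group A]

/-- the degree of an irreducible character as a natural number -/
def cdeg (χ : Cfsg.IrrCharacter A) : ℕ := (irr_exists_degree χ.2).choose

theorem cdeg_pos (χ : Cfsg.IrrCharacter A) : 0 < cdeg χ := (irr_exists_degree χ.2).choose_spec.1

theorem cdeg_spec (χ : Cfsg.IrrCharacter A) : (χ : A → ℂ) 1 = cdeg χ :=
  (irr_exists_degree χ.2).choose_spec.2

theorem cdeg_eq {χ χ' : Cfsg.IrrCharacter A} (h : (χ : A → ℂ) 1 = (χ' : A → ℂ) 1) : cdeg χ = cdeg χ' := by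
  exact_mod_cast ((cdeg_spec χ).symm.trans h).trans (cdeg_spec χ')

theorem sum_cdeg_sq [Fintype A] : ∑ χ : Cfsg.IrrCharacter A, cdeg χ ^ 2 = Nat.card A := by
  classical
  have h := sum_degree_mul_irr (G := A) 1
  rw [if_pos rfl] at h
  simp only [cdeg_spec, ← sq] at h
  exact_mod_cast h

end Degree

variable {G : Type u} {Ω : Type v} [Group G] [MulAction G Ω] {a : Ω} {t : G} {Q : Subgroup G}

/-- pairs of irreducible characters of the two parts of `Q` -/
abbrev Pair (Q : Subgroup G) : Type u := Cfsg.IrrCharacter (Pp Q) × Cfsg.IrrCharacter (Sp Q)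

/-- the degree of a pair -/
def dg (x : Pair Q) : ℕ := cdeg x.1 * cdeg x.2

theorem dg_pos (x : Pair Q) : 0 < dg x := Nat.mul_pos (cdeg_pos _) (cdeg_pos _)

/-- `Z` inside `S` -/
def Zin (a : Ω) (Q : Subgroup G) : Subgroup (Sp Q) := (Zsub G a).subgroupOf (Sp Q)

/-- a character of `S` with `Z` in its kernel -/
def Triv (a : Ω) (μ : Cfsg.IrrCharacter (Sp Q)) : Prop :=
  ∀ z : Zin a Q, (μ : Sp Q → ℂ) z = (μ : Sp Q → ℂ) 1

/-- complex conjugation of a pair -/
def conjPair [Finite G] (x : Pair Q) : Pair Q := (BrauerPerm.conjIrr x.1, BrauerPerm.conjIrr x.2)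

variable [Finite G] (hS : Cfsg.IsRankOneSetup G Ω a t Q)

section Action

theorem hPn (hS : Cfsg.IsRankOneSetup G Ω a t Q) : DNormal (twoPt G a t) (Pp Q) :=
  fun d hd => dNormal_Pp hS d hd.1

theorem hSn (hS : Cfsg.IsRankOneSetup G Ω a t Q) : DNormal (twoPt G a t) (Sp Q) :=
  fun d hd => dNormal_Sp hS d hd.1

/-- the action of `D` on pairs -/
def pact (d : twoPt G a t) (x : Pair Q) : Pair Q :=
  ((irrAction (hPn hS)).smul d x.1, (irrAction (hSn hS)).smul d x.2)

theorem pact_fst (d : twoPt G a t) (x : Pair Q) (k : Pp Q) :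
    ((pact hS d x).1 : Pp Q → ℂ) k = (x.1 : Pp Q → ℂ) ((dAut (hPn hS) d).symm k) := rfl

theorem pact_snd (d : twoPt G a t) (x : Pair Q) (k : Sp Q) :
    ((pact hS d x).2 : Sp Q → ℂ) k = (x.2 : Sp Q → ℂ) ((dAut (hSn hS) d).symm k) := rfl

theorem pact_one (x : Pair Q) : pact hS 1 x = x :=
  Prod.ext ((irrAction (hPn hS)).one_smul x.1) ((irrAction (hSn hS)).one_smul x.2)

theorem pact_mul (d d' : twoPt G a t) (x : Pair Q) : pact hS (d * d') x = pact hS d (pact hS d' x) :=
  Prod.ext ((irrAction (hPn hS)).mul_smul d d' x.1) ((irrAction (hSn hS)).mul_smul d d' x.2)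

theorem pact_inv_pact (d : twoPt G a t) (x : Pair Q) : pact hS d⁻¹ (pact hS d x) = x := by
  rw [← pact_mul, inv_mul_cancel, pact_one]

theorem pact_pact_inv (d : twoPt G a t) (x : Pair Q) : pact hS d (pact hS d⁻¹ x) = x := by
  rw [← pact_mul, mul_inv_cancel, pact_one]

theorem pact_injective (d : twoPt G a t) : Function.Injective (pact hS d) :=
  Function.LeftInverse.injective (pact_inv_pact hS d)

/-- a pair moved by every element of `D` but `1` -/
def FreeP (x : Pair Q) : Prop := ∀ d : twoPt G a t, pact hS d x = x → d = 1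

theorem FreeP.pact_eq {x : Pair Q} (hx : FreeP hS x) {d d' : twoPt G a t}
    (h : pact hS d x = pact hS d' x) : d = d' := by
  have := hx (d'⁻¹ * d) (by rw [pact_mul, h, pact_inv_pact])
  exact (inv_mul_eq_one.1 this).symm

theorem FreeP.map {x : Pair Q} (hx : FreeP hS x) (d : twoPt G a t) : FreeP hS (pact hS d x) := by
  intro e he
  have := hx.pact_eq hS (d := e * d) (d' := d) (by rw [pact_mul]; exact he)
  exact mul_eq_right.1 this

theorem dg_pact (d : twoPt G a t) (x : Pair Q) : dg (pact hS d x) = dg x := by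
  unfold dg
  congr 1
  · exact cdeg_eq (by rw [pact_fst, map_one])
  · exact cdeg_eq (by rw [pact_snd, map_one])

theorem pact_fst_principal_iff (d : twoPt G a t) (x : Pair Q) :
    (pact hS d x).1 = principalIrr _ ↔ x.1 = principalIrr _ := by
  constructor
  · intro h
    refine Subtype.ext (funext fun k => ?_)
    have := congrFun (congrArg Subtype.val h) (dAut (hPn hS) d k)
    rw [pact_fst, MulEquiv.symm_apply_apply] at this
    exact this
  · intro h
    refine Subtype.ext (funext fun k => ?_)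
    rw [pact_fst, h]
    rfl

theorem pact_conjPair (d : twoPt G a t) (x : Pair Q) :
    pact hS d (conjPair x) = conjPair (pact hS d x) := by
  refine Prod.ext (Subtype.ext (funext fun k => ?_)) (Subtype.ext (funext fun k => ?_))
  · rw [pact_fst]; simp [conjPair, pact_fst]
  · rw [pact_snd]; simp [conjPair, pact_snd]

theorem conjPair_conjPair (x : Pair Q) : conjPair (conjPair x) = x := by
  refine Prod.ext (Subtype.ext (funext fun k => ?_)) (Subtype.ext (funext fun k => ?_)) <;>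
    simp [conjPair]

theorem dg_conjPair (x : Pair Q) : dg (conjPair x) = dg x := by
  unfold dg
  congr 1 <;> refine cdeg_eq ?_
  · simp only [conjPair, BrauerPerm.conjIrr_apply]
    rw [cdeg_spec, map_natCast]
  · simp only [conjPair, BrauerPerm.conjIrr_apply]
    rw [cdeg_spec, map_natCast]

theorem FreeP.conj {x : Pair Q} (hx : FreeP hS x) : FreeP hS (conjPair x) := by
  intro d hd
  rw [pact_conjPair] at hd
  refine hx d ?_
  rw [← conjPair_conjPair (pact hS d x), hd, conjPair_conjPair]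

theorem triv_pact_iff (h2 : ∃ x y : G, x ≠ 1 ∧ y ≠ 1 ∧ x ≠ y ∧ x * x = 1 ∧ y * y = 1 ∧ x * y = y * x)
    (d : twoPt G a t) (x : Pair Q) : Triv a (pact hS d x).2 ↔ Triv a x.2 := by
  have key : ∀ (e : twoPt G a t) (z : Zin a Q), (dAut (hSn hS) e).symm (z : Sp Q) ∈ Zin a Q := by
    intro e z
    refine Subgroup.mem_subgroupOf.2 ?_
    have := Zsub_conj hS h2 (g := (e : G)⁻¹) (mem_twoPt.1 (inv_mem e.2)).1 (Subgroup.mem_subgroupOf.1 z.2)
    rwa [inv_inv] at this
  constructor
  · intro h z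
    have h' : (dAut (hSn hS) d) (z : Sp Q) ∈ Zin a Q := by
      refine Subgroup.mem_subgroupOf.2 ?_
      exact Zsub_conj hS h2 (mem_twoPt.1 d.2).1 (Subgroup.mem_subgroupOf.1 z.2)
    have h1 := h ⟨_, h'⟩
    rw [pact_snd, pact_snd, map_one, MulEquiv.symm_apply_apply] at h1
    exact h1
  · intro h z
    rw [pact_snd, pact_snd, map_one]
    exact h ⟨_, key d z⟩

omit [Finite G] in
theorem triv_conjPair_iff [Finite G] (x : Pair Q) : Triv a (conjPair x).2 ↔ Triv a x.2 := by
  simp only [Triv, conjPair, BrauerPerm.conjIrr_apply, (starRingEnd ℂ).injective.eq_iff]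

theorem conjPair_ne_pact {x : Pair Q} (h : x.1 ≠ principalIrr _)
    (hQ : Group.IsNilpotent Q) (d : twoPt G a t) : conjPair x ≠ pact hS d x := by
  intro e
  apply h
  have e2 : pact hS (d * d) x = x := by
    rw [pact_mul, ← e, pact_conjPair, ← e, conjPair_conjPair]
  have ho : Odd (orderOf d) := hS.odd_card.of_dvd_nat (orderOf_dvd_natCard d)
  have hd : pact hS d x = x := by
    letI : MulAction (twoPt G a t) (Pair Q) :=
      { smul := pact hS, one_smul := pact_one hS, mul_smul := pact_mul hS }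
    obtain ⟨k, hk⟩ := ho
    have h1 : d * d ∈ MulAction.stabilizer (twoPt G a t) x := e2
    have h2 : (d * d) ^ (k + 1) ∈ MulAction.stabilizer (twoPt G a t) x := pow_mem h1 _
    have h3 : (d * d) ^ (k + 1) = d := by
      rw [← pow_two, ← pow_mul, show 2 * (k + 1) = orderOf d + 1 by omega, pow_succ, pow_orderOf_eq_one,
        one_mul]
    rw [h3] at h2
    exact h2
  rw [hd] at e
  refine real_irr_eq_one (odd_card_Pp hQ) x.1 fun k => ?_
  have := congrFun (congrArg Subtype.val (congrArg Prod.fst e)) k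
  simp only [conjPair, BrauerPerm.conjIrr_apply] at this
  exact Complex.conj_eq_iff_im.1 this

end Action

section Proj

include hS

theorem exists_proj : ∃ π : stabilizer G a →* twoPt G a t,
    ∀ h : stabilizer G a, (h : G) * (π h : G)⁻¹ ∈ Q := by
  have hex : ∀ h : stabilizer G a, ∃ d : twoPt G a t, (h : G) * (d : G)⁻¹ ∈ Q := by
    intro h
    obtain ⟨q, hq, d, hd, e⟩ := decomp hS (mem_stabilizer_iff.1 h.2)
    exact ⟨⟨d, hd⟩, by rw [e, mul_inv_cancel_right]; exact hq⟩
  choose f hf using hex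
  refine ⟨MonoidHom.mk' f fun x y => Subtype.ext ?_, hf⟩
  have hxy : (x : G) * ((y : G) * (f y : G)⁻¹) * (x : G)⁻¹ ∈ Q := Q_conj hS x.2 (hf y)
  refine (decomp_unique hS (hf (x * y)) (Q.mul_mem hxy (hf x)) (f (x * y)).2 (f x * f y).2 ?_).2
  simp only [Subgroup.coe_mul]
  group

/-- the projection of `G_a` on `D` -/
def projD : stabilizer G a →* twoPt G a t := (exists_proj hS).choose

theorem projD_mem (h : stabilizer G a) : (h : G) * (projD hS h : G)⁻¹ ∈ Q :=
  (exists_proj hS).choose_spec h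

theorem projD_eq {h : stabilizer G a} {q : G} (hq : q ∈ Q) {d : twoPt G a t}
    (e : (h : G) = q * d) : projD hS h = d :=
  Subtype.ext (decomp_unique hS (projD_mem hS h) hq (projD hS h).2 d.2 (by rw [← e]; group)).2

theorem projD_eq_one_iff (h : stabilizer G a) : projD hS h = 1 ↔ (h : G) ∈ Q := by
  constructor
  · intro e
    simpa [e] using projD_mem hS h
  · exact fun hh => projD_eq hS hh (by simp)

theorem card_projD_fiber [Fintype (stabilizer G a)] (d : twoPt G a t)
    [DecidableEq (twoPt G a t)] :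
    (Finset.univ.filter fun h : stabilizer G a => projD hS h = d).card = Nat.card Q := by
  classical
  rw [← Fintype.card_subtype, ← Nat.card_eq_fintype_card]
  refine (Nat.card_eq_of_bijective (fun q : Q => ⟨⟨(q : G) * d, (stabilizer G a).mul_mem (hS.le q.2) d.2.1⟩,
    projD_eq hS q.2 rfl⟩) ⟨fun q q' e => ?_, fun h => ?_⟩).symm
  · exact Subtype.ext (mul_right_cancel (congrArg (fun w => ((w.1 : stabilizer G a) : G)) e))
  · refine ⟨⟨_, projD_mem hS h.1⟩, Subtype.ext (Subtype.ext ?_)⟩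
    simp only [h.2, inv_mul_cancel_right]

theorem sum_projD [Fintype (stabilizer G a)] [Fintype (twoPt G a t)] {M : Type*} [AddCommMonoid M]
    (g : twoPt G a t → M) :
    ∑ h : stabilizer G a, g (projD hS h) = Nat.card Q • ∑ d, g d := by
  classical
  rw [← Finset.sum_fiberwise (Finset.univ : Finset (stabilizer G a)) (projD hS), Finset.smul_sum]
  refine Finset.sum_congr rfl fun d _ => ?_
  rw [Finset.sum_congr rfl fun h hh => by rw [(Finset.mem_filter.1 hh).2], Finset.sum_const,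
    card_projD_fiber]

theorem onlyFix_Q {y : G} (hy : y ∈ Q) (hy1 : y ≠ 1) : OnlyFix a y := by
  intro c hc
  by_contra hca
  obtain ⟨q, hq, rfl⟩ := Q_trans hS hca
  refine hy1 ?_
  have := eq_one_of_mem_Q hS (Q.mul_mem (Q.mul_mem (Q.inv_mem hq) hy) hq)
    (by rw [mul_smul, mul_smul, hc, inv_smul_smul])
  calc y = q * (q⁻¹ * y * q) * q⁻¹ := by group
    _ = 1 := by rw [this]; group

/-- `Q` inside `G_a` -/
def QH (G : Type u) [Group G] {Ω : Type v} [MulAction G Ω] (a : Ω) (Q : Subgroup G) :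
    Subgroup (stabilizer G a) := Q.subgroupOf (stabilizer G a)

theorem QH_normal : (QH G a Q).Normal :=
  ⟨fun n hn g => Subgroup.mem_subgroupOf.2 (Q_conj hS g.2 (Subgroup.mem_subgroupOf.1 hn))⟩

theorem card_QH : Nat.card (QH G a Q) = Nat.card Q :=
  Nat.card_congr (Subgroup.subgroupOfEquivOfLe hS.le).toEquiv

theorem isLocal_of_support [Fintype (stabilizer G a)] {f : stabilizer G a → ℂ}
    (hf : Cfsg.IsClassFunction (stabilizer G a) f) (h1 : f 1 = 0) (hsupp : ∀ h, f h ≠ 0 → (h : G) ∈ Q) :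
    IsLocal a f :=
  ⟨hf, h1, fun h hh => onlyFix_Q hS (hsupp h hh) fun e => hh (by rw [show h = 1 from Subtype.ext e, h1])⟩

end Proj

variable (h2 : ∃ x y : G, x ≠ 1 ∧ y ≠ 1 ∧ x ≠ y ∧ x * x = 1 ∧ y * y = 1 ∧ x * y = y * x)

/-- `Q = P × S` inside `G_a` -/
def eQH : QH G a Q ≃* Pp Q × Sp Q :=
  (Subgroup.subgroupOfEquivOfLe hS.le).trans (exists_split (isNilpotent_Q hS h2)).choose

theorem eQH_spec (n : QH G a Q) : ((n : stabilizer G a) : G) = ((eQH hS h2 n).1 : G) * (eQH hS h2 n).2 := by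
  rw [← (exists_split (isNilpotent_Q hS h2)).choose_spec (eQH hS h2 n)]
  show _ = (((exists_split (isNilpotent_Q hS h2)).choose.symm
    ((exists_split (isNilpotent_Q hS h2)).choose (Subgroup.subgroupOfEquivOfLe hS.le n)) : Q) : G)
  rw [MulEquiv.symm_apply_apply]
  rfl

theorem eQH_eq {n : QH G a Q} {p : Pp Q} {s : Sp Q} (h : ((n : stabilizer G a) : G) = (p : G) * s) :
    eQH hS h2 n = (p, s) := by
  obtain ⟨m, hm⟩ := (eQH hS h2).surjective (p, s)
  have : n = m := Subtype.ext (Subtype.ext (h.trans (by rw [eQH_spec hS h2 m, hm])))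
  rw [this, hm]

/-- the irreducible character `ξ ⊗ μ` of `Q` -/
def psi (x : Pair Q) : QH G a Q → ℂ :=
  prodFun (eQH hS h2) (x.1 : Pp Q → ℂ) (x.2 : Sp Q → ℂ)

include h2 in
theorem isIrr_psi (x : Pair Q) : Cfsg.IsIrrCharacter (QH G a Q) (psi hS h2 x) :=
  isIrr_prodFun _ x.1 x.2

theorem psi_one (x : Pair Q) : psi hS h2 x 1 = dg x := by
  simp only [psi, prodFun, map_one, Prod.fst_one, Prod.snd_one, cdeg_spec, dg, Nat.cast_mul]

theorem psi_injective : Function.Injective (psi hS h2) := by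
  intro x y e
  classical
  haveI := Fintype.ofFinite G
  haveI := Fintype.ofFinite (Pp Q)
  haveI := Fintype.ofFinite (Sp Q)
  haveI := Fintype.ofFinite (QH G a Q)
  have h := classInner_irr_self (isIrr_psi hS h2 x)
  conv_lhs at h => arg 2; rw [e]
  rw [psi, psi, classInner_prodFun, classInner_irr, classInner_irr] at h
  refine Prod.ext ?_ ?_ <;> by_contra hne <;> simp [if_neg hne] at h

theorem psi_conj (h : stabilizer G a) (n : QH G a Q) (x : Pair Q) :
    psi hS h2 x ⟨h * n * h⁻¹, (QH_normal hS).conj_mem n n.2 h⟩ =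
      psi hS h2 (pact hS (projD hS h)⁻¹ x) n := by
  haveI := QH_normal hS
  set d : twoPt G a t := projD hS h with hd
  let q : QH G a Q := ⟨⟨(h : G) * (d : G)⁻¹, hS.le (projD_mem hS h)⟩, projD_mem hS h⟩
  let m : QH G a Q := (eQH hS h2).symm ((dAut (hPn hS) d) (eQH hS h2 n).1, (dAut (hSn hS) d) (eQH hS h2 n).2)
  have hm : ((m : stabilizer G a) : G) = (d : G) * ((n : stabilizer G a) : G) * (d : G)⁻¹ := by
    rw [eQH_spec hS h2 m, eQH_spec hS h2 n]
    simp only [m, MulEquiv.apply_symm_apply, dAut, conjAut_apply]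
    group
  have he : (⟨h * n * h⁻¹, (QH_normal hS).conj_mem n n.2 h⟩ : QH G a Q) = q * m * q⁻¹ := by
    refine Subtype.ext (Subtype.ext ?_)
    show (h : G) * ((n : stabilizer G a) : G) * (h : G)⁻¹ =
      (h : G) * (d : G)⁻¹ * ((m : stabilizer G a) : G) * ((h : G) * (d : G)⁻¹)⁻¹
    rw [hm]
    group
  rw [he, isClassFunction_of_isCharacter (isCharacter_of_irr (isIrr_psi hS h2 x)) m q]
  simp only [psi, prodFun, m, MulEquiv.apply_symm_apply, pact_fst, pact_snd]
  congr 1 <;> refine congrArg _ (Subtype.ext ?_) <;> simp [dAut, conjAut]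

variable [Fintype G] [Fintype (stabilizer G a)]

/-- the character of `G_a` induced from `ξ ⊗ μ` -/
def theta (x : Pair Q) : stabilizer G a → ℂ := Cfsg.indFun (QH G a Q) (psi hS h2 x)

theorem isCharacter_theta (x : Pair Q) : Cfsg.IsCharacter (stabilizer G a) (theta hS h2 x) :=
  Induction.isCharacter_indFun _ (isCharacter_of_irr (isIrr_psi hS h2 x))

theorem theta_eq_zero (x : Pair Q) {h : stabilizer G a} (hh : (h : G) ∉ Q) : theta hS h2 x h = 0 := by
  haveI := QH_normal hS
  exact Induction.indFun_normal_eq_zero _ fun e => hh (Subgroup.mem_subgroupOf.1 e)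

theorem theta_apply_Q [Fintype (twoPt G a t)] (x : Pair Q) (n : QH G a Q) :
    theta hS h2 x n = ∑ d : twoPt G a t, psi hS h2 (pact hS d x) n := by
  haveI := QH_normal hS
  rw [theta, Induction.indFun_normal_apply]
  simp only [psi_conj hS h2]
  rw [sum_projD hS (fun d => psi hS h2 (pact hS d⁻¹ x) n), nsmul_eq_mul, card_QH hS,
    inv_mul_cancel_left₀ (Nat.cast_ne_zero.2 Nat.card_pos.ne')]
  exact Equiv.sum_comp (Equiv.inv (twoPt G a t)) fun d => psi hS h2 (pact hS d x) n

theorem theta_one (x : Pair Q) : theta hS h2 x 1 = (Nat.card (twoPt G a t) * dg x : ℕ) := by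
  classical
  haveI := Fintype.ofFinite (twoPt G a t)
  have := theta_apply_Q hS h2 x 1
  rw [OneMemClass.coe_one] at this
  rw [this, Finset.sum_congr rfl fun d _ => by rw [psi_one, dg_pact], Finset.sum_const,
    Finset.card_univ, nsmul_eq_mul, Nat.card_eq_fintype_card, Nat.cast_mul]

theorem classInner_theta [Fintype (twoPt G a t)] [DecidableEq (Pair Q)] (x y : Pair Q) :
    Cfsg.classInner (theta hS h2 x) (theta hS h2 y) =
      ((Finset.univ.filter fun d : twoPt G a t => pact hS d y = x).card : ℂ) := by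
  classical
  haveI := QH_normal hS
  haveI := Fintype.ofFinite (QH G a Q)
  rw [theta, theta, Clifford.classInner_indFun_indFun (QH_normal hS)
    (irr_isClassFunction ⟨_, isIrr_psi hS h2 x⟩)]
  have key : ∀ h : stabilizer G a, Cfsg.classInner (psi hS h2 x)
      (Clifford.conjChar (QH_normal hS) (psi hS h2 y) h) =
      if pact hS (projD hS h)⁻¹ y = x then 1 else 0 := by
    intro h
    have e : Clifford.conjChar (QH_normal hS) (psi hS h2 y) h =
        psi hS h2 (pact hS (projD hS h)⁻¹ y) := funext fun n => psi_conj hS h2 h n y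
    rw [e]
    split_ifs with hc
    · rw [hc]; exact classInner_irr_self (isIrr_psi hS h2 x)
    · exact classInner_irr_ne (isIrr_psi hS h2 _) (isIrr_psi hS h2 _)
        fun e => hc (psi_injective hS h2 e).symm
  rw [Finset.sum_congr rfl fun h _ => key h, sum_projD hS (fun d => if pact hS d⁻¹ y = x then (1 : ℂ) else 0),
    nsmul_eq_mul, card_QH hS, inv_mul_cancel_left₀ (Nat.cast_ne_zero.2 Nat.card_pos.ne'),
    ← Equiv.sum_comp (Equiv.inv (twoPt G a t)) (fun d => if pact hS d⁻¹ y = x then (1 : ℂ) else 0)]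
  simp only [Equiv.inv_apply, inv_inv, Finset.sum_boole]

theorem classInner_theta_eq_zero {x y : Pair Q} (h : ∀ d, pact hS d y ≠ x) :
    Cfsg.classInner (theta hS h2 x) (theta hS h2 y) = 0 := by
  classical
  haveI := Fintype.ofFinite (twoPt G a t)
  rw [classInner_theta, Finset.filter_false_of_mem fun d _ => h d]
  simp

theorem classInner_theta_free {x : Pair Q} (h : FreeP hS x) :
    Cfsg.classInner (theta hS h2 x) (theta hS h2 x) = 1 := by
  classical
  haveI := Fintype.ofFinite (twoPt G a t)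
  rw [classInner_theta, show (Finset.univ.filter fun d : twoPt G a t => pact hS d x = x) = {1} from ?_]
  · simp
  ext d
  simp only [Finset.mem_filter, Finset.mem_univ, true_and, Finset.mem_singleton]
  exact ⟨h d, fun e => e ▸ pact_one hS x⟩

include hS in
theorem isLocal_theta_sub {f g : stabilizer G a → ℂ} (hf : Cfsg.IsCharacter (stabilizer G a) f)
    (hg : Cfsg.IsCharacter (stabilizer G a) g) (h1 : f 1 = g 1)
    (hfs : ∀ h, f h ≠ 0 → (h : G) ∈ Q) (hgs : ∀ h, g h ≠ 0 → (h : G) ∈ Q) : IsLocal a (f - g) := by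
  refine isLocal_of_support hS (fun x y => ?_) (by simp [h1]) fun h hh => ?_
  · simp only [Pi.sub_apply, isClassFunction_of_isCharacter hf x y, isClassFunction_of_isCharacter hg x y]
  · by_contra hQ
    refine hh ?_
    have e1 : f h = 0 := by by_contra e; exact hQ (hfs h e)
    have e2 : g h = 0 := by by_contra e; exact hQ (hgs h e)
    simp [e1, e2]

omit [Finite G] in
/-- the sum of a linear character of `Z` -/
theorem sum_Zin [Finite G] [Fintype (Zin a Q)] [Fintype (Sp Q)] (hc : Zin a Q ≤ Subgroup.center (Sp Q))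
    (μ : Cfsg.IrrCharacter (Sp Q)) [Decidable (Triv a μ)] :
    ∑ z : Zin a Q, (μ : Sp Q → ℂ) z =
      if Triv a μ then (Nat.card (Zin a Q) : ℂ) * cdeg μ else 0 := by
  classical
  obtain ⟨ω, hω⟩ := irr_central_scalar μ (Zin a Q) hc
  split_ifs with h
  · rw [Finset.sum_congr rfl fun z _ => h z, Finset.sum_const, Finset.card_univ, nsmul_eq_mul,
      cdeg_spec, Nat.card_eq_fintype_card]
  · obtain ⟨z₀, hz₀⟩ := not_forall.1 h
    have hne : (ω z₀ : ℂ) ≠ 1 := fun e => hz₀ (by rw [hω, e, mul_one])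
    have hs : ∑ z : Zin a Q, (ω z : ℂ) = 0 := by
      have e : ∑ z : Zin a Q, (ω z : ℂ) = (ω z₀ : ℂ) * ∑ z : Zin a Q, (ω z : ℂ) := by
        conv_lhs => rw [← Equiv.sum_comp (Equiv.mulLeft z₀) fun z => (ω z : ℂ)]
        simp [Finset.mul_sum]
      have : ((ω z₀ : ℂ) - 1) * ∑ z : Zin a Q, (ω z : ℂ) = 0 := by linear_combination -e
      exact (mul_eq_zero.1 this).resolve_left (sub_ne_zero.2 hne)
    rw [Finset.sum_congr rfl fun z _ => hω z, ← Finset.mul_sum, hs, mul_zero]

include hS h2 in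
omit [Fintype G] [Fintype (stabilizer G a)] in
theorem Zin_le_center : Zin a Q ≤ Subgroup.center (Sp Q) := fun z hz =>
  Subgroup.mem_center_iff.2 fun w => Subtype.ext
    (Zsub_comm hS h2 (Subgroup.mem_subgroupOf.1 hz) (Sp_le w.2)).symm

include hS h2 in
omit [Fintype G] [Fintype (stabilizer G a)] in
theorem card_Zin : Nat.card (Zin a Q) = Nat.card (Zsub G a) :=
  Nat.card_congr (Subgroup.subgroupOfEquivOfLe (Zsub_le_Sp hS h2)).toEquiv

open scoped Classical in
/-- the value of `theta` at an involution of `G_a` -/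
theorem theta_apply_Z (x : Pair Q) {z : stabilizer G a} (hz : (z : G) ∈ Zs G a) :
    ((Nat.card (Zsub G a) : ℂ) - 1) * theta hS h2 x z =
      (Nat.card (twoPt G a t) : ℂ) * dg x *
        (if Triv a x.2 then (Nat.card (Zsub G a) : ℂ) - 1 else -1) := by
  haveI := Fintype.ofFinite (twoPt G a t)
  haveI := Fintype.ofFinite (Ksub G a t)
  haveI := Fintype.ofFinite (Zin a Q)
  haveI := Fintype.ofFinite (Sp Q)
  obtain ⟨hza, hz1, hz2⟩ := mem_Zs.1 hz
  have hzZ : (z : G) ∈ Zsub G a := Subgroup.subset_closure (mem_Zs_iff.1 hz)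
  have hzS : (z : G) ∈ Sp Q := Zsub_le_Sp hS h2 hzZ
  let n : QH G a Q := ⟨z, Subgroup.mem_subgroupOf.2 (Zsub_le hS h2 hzZ)⟩
  let F : twoPt G a t → ℂ := fun d => (x.2 : Sp Q → ℂ) ((dAut (hSn hS) d).symm ⟨z, hzS⟩)
  have hpsi : ∀ d : twoPt G a t, psi hS h2 (pact hS d x) n = (cdeg x.1 : ℂ) * F d := by
    intro d
    rw [psi, prodFun, eQH_eq hS h2 (p := 1) (s := ⟨z, hzS⟩) (by simp [n])]
    simp only [pact_fst, pact_snd, map_one, cdeg_spec, F]
  have hθ : theta hS h2 x z = (cdeg x.1 : ℂ) * ∑ d : twoPt G a t, F d := by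
    rw [Finset.mul_sum, ← Finset.sum_congr rfl fun d _ => hpsi d, ← theta_apply_Q hS h2 x n]
  -- `(q - 1) Σ_d F = Σ_d Σ_{z ≠ 1}`
  let kd : Ksub G a t → twoPt G a t := fun k => ⟨k, Ksub_le hS h2 k.2⟩
  have h1 : ∀ k : Ksub G a t, ∑ d : twoPt G a t, F (kd k * d) = ∑ d, F d := fun k =>
    Equiv.sum_comp (Equiv.mulLeft (kd k)) F
  have h3 : ∀ d : twoPt G a t, ∑ k : Ksub G a t, F (kd k * d) =
      (∑ w : Zin a Q, (x.2 : Sp Q → ℂ) w) - (x.2 : Sp Q → ℂ) 1 := by
    intro d
    rw [show (x.2 : Sp Q → ℂ) 1 = (x.2 : Sp Q → ℂ) ((1 : Zin a Q) : Sp Q) from rfl,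
      ← Finset.sum_erase_eq_sub (Finset.mem_univ (1 : Zin a Q))]
    have hmem : ∀ k : Ksub G a t, (dAut (hSn hS) (kd k * d)).symm ⟨z, hzS⟩ ∈ Zin a Q := by
      intro k
      refine Subgroup.mem_subgroupOf.2 ?_
      have := Zsub_conj hS h2 (g := ((kd k * d : twoPt G a t) : G)⁻¹)
        (mem_twoPt.1 (inv_mem (kd k * d).2)).1 hzZ
      rwa [inv_inv] at this
    refine Finset.sum_bij (fun k _ => ⟨_, hmem k⟩) (fun k _ => ?_) (fun k _ k' _ e => ?_)
      (fun w hw => ?_) fun k _ => rfl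
    · refine Finset.mem_erase.2 ⟨fun e => hz1 ?_, Finset.mem_univ _⟩
      have e' : (dAut (hSn hS) (kd k * d)).symm ⟨z, hzS⟩ = 1 := congrArg Subtype.val e
      rw [MulEquiv.map_eq_one_iff] at e'
      exact congrArg Subtype.val e'
    · have e' : ((k : G) * d)⁻¹ * z * ((k : G) * d) = ((k' : G) * d)⁻¹ * z * ((k' : G) * d) :=
        congrArg (fun w : Zin a Q => ((w : Sp Q) : G)) e
      have e'' : (k : G)⁻¹ * z * k = (k' : G)⁻¹ * z * k' := by
        have := congrArg (fun g => (d : G) * g * (d : G)⁻¹) e'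
        simpa [mul_assoc] using this
      obtain ⟨k₀, -, hu⟩ := Ksub_regular hS h2 hzZ hz1
        (Zsub_conj hS h2 (g := (k : G)⁻¹) (mem_twoPt.1 (inv_mem (Ksub_le hS h2 k.2))).1 hzZ)
        (conj_ne_one hz1 _)
      have a1 := hu k⁻¹ (by simp)
      have a2 := hu k'⁻¹ (by simp [e''])
      exact inv_injective (a1.trans a2.symm)
    · have hw1 : ((w : Sp Q) : G) ≠ 1 := fun e =>
        (Finset.mem_erase.1 hw).1 (Subtype.ext (Subtype.ext e))
      obtain ⟨k₀, hk₀, -⟩ := Ksub_regular hS h2 hzZ hz1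
        (Zsub_conj hS h2 (mem_twoPt.1 d.2).1 (Subgroup.mem_subgroupOf.1 w.2)) (conj_ne_one hw1 _)
      refine ⟨k₀⁻¹, Finset.mem_univ _, Subtype.ext (Subtype.ext ?_)⟩
      show ((k₀ : G)⁻¹ * (d : G))⁻¹ * z * ((k₀ : G)⁻¹ * d) = ((w : Sp Q) : G)
      rw [show ((k₀ : G)⁻¹ * (d : G))⁻¹ * z * ((k₀ : G)⁻¹ * d) =
        (d : G)⁻¹ * ((k₀ : G) * z * (k₀ : G)⁻¹) * d by group, hk₀]
      group
  have h4 : ((Nat.card (Zsub G a) : ℂ) - 1) * ∑ d : twoPt G a t, F d =
      (Nat.card (twoPt G a t) : ℂ) * ((∑ w : Zin a Q, (x.2 : Sp Q → ℂ) w) - (x.2 : Sp Q → ℂ) 1) := by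
    have e1 : ∑ k : Ksub G a t, ∑ d : twoPt G a t, F (kd k * d) =
        (Nat.card (Ksub G a t) : ℂ) * ∑ d, F d := by
      rw [Finset.sum_congr rfl fun k _ => h1 k, Finset.sum_const, Finset.card_univ, nsmul_eq_mul,
        Nat.card_eq_fintype_card]
    rw [Finset.sum_comm, Finset.sum_congr rfl fun d _ => h3 d, Finset.sum_const, Finset.card_univ,
      nsmul_eq_mul, ← Nat.card_eq_fintype_card] at e1
    rw [card_Zsub hS h2, e1]
    push_cast
    ring
  rw [hθ, mul_left_comm, h4, sum_Zin (Zin_le_center hS h2), card_Zin hS h2, cdeg_spec, dg]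
  push_cast
  split_ifs <;> ring

end CfsgLib.RankOneTwo
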