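import Cfsg.Agent.Lib.RankOneTwo.Groups
import Cfsg.Agent.Lib.RankOneTwo.CharTools
import Cfsg.Agent.Lib.Solvable.NilpotentParts
import Cfsg.Agent.S1132
import Cfsg.Agent.S1137
import Cfsg.Agent.S1138

/-!
The odd part and the 2-part of `Q`, their normalisation by `G_a`, the action of `D` on their
irreducible characters and its fixed-point properties.
-/

set_option autoImplicit false

noncomputable section

namespace CfsgLib.RankOneTwo

open CfsgLib.RankOneInvol CfsgLib.Characters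
open MulAction (stabilizer mem_stabilizer_iff)

universe u v

variable {G : Type u} {Ω : Type v} [Group G] [MulAction G Ω] {a : Ω} {t : G} {Q : Subgroup G}

/-- the elements of odd order of `Q` -/
def Pp (Q : Subgroup G) : Subgroup G := Subgroup.closure {x | x ∈ Q ∧ Odd (orderOf x)}

/-- the elements of 2-power order of `Q` -/
def Sp (Q : Subgroup G) : Subgroup G := NilPart.part 2 Q

/-- conjugation by elements normalising `A` -/
def conjAut (A : Subgroup G) (g : G) (hg : ∀ x ∈ A, g * x * g⁻¹ ∈ A) (hg' : ∀ x ∈ A, g⁻¹ * x * g ∈ A) :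
    A ≃* A where
  toFun x := ⟨g * x * g⁻¹, hg x x.2⟩
  invFun x := ⟨g⁻¹ * x * g, hg' x x.2⟩
  left_inv x := Subtype.ext (by group)
  right_inv x := Subtype.ext (by group)
  map_mul' x y := Subtype.ext (by
    show g * ((x : G) * y) * g⁻¹ = g * x * g⁻¹ * (g * y * g⁻¹)
    group)

@[simp] theorem conjAut_apply (A : Subgroup G) (g : G) (hg : ∀ x ∈ A, g * x * g⁻¹ ∈ A)
    (hg' : ∀ x ∈ A, g⁻¹ * x * g ∈ A) (x : A) :
    ((conjAut A g hg hg' x : A) : G) = g * x * g⁻¹ := rfl

/-- `D` normalises `A` -/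
def DNormal (D A : Subgroup G) : Prop := ∀ d ∈ D, ∀ x ∈ A, d * x * d⁻¹ ∈ A

/-- the automorphism of `A` given by `d` -/
def dAut {D A : Subgroup G} (h : DNormal D A) (d : D) : A ≃* A :=
  conjAut A (d : G) (h d d.2) fun x hx => by simpa using h (d : G)⁻¹ (inv_mem d.2) x hx

/-- `D` acts on the irreducible characters of a subgroup it normalises -/
@[reducible] def irrAction {D A : Subgroup G} (h : DNormal D A) : MulAction D (Cfsg.IrrCharacter A) where
  smul d χ := BrauerPerm.twistIrr (dAut h d) χ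
  one_smul χ := Subtype.ext (funext fun k => by
    show (χ : A → ℂ) ((dAut h 1).symm k) = _
    refine congrArg _ (Subtype.ext ?_)
    show ((1 : D) : G)⁻¹ * (k : G) * ((1 : D) : G) = k
    simp)
  mul_smul d d' χ := Subtype.ext (funext fun k => by
    show (χ : A → ℂ) ((dAut h (d * d')).symm k) = (χ : A → ℂ) ((dAut h d').symm ((dAut h d).symm k))
    refine congrArg _ (Subtype.ext ?_)
    show ((d * d' : D) : G)⁻¹ * (k : G) * ((d * d' : D) : G) =
      (d' : G)⁻¹ * ((d : G)⁻¹ * (k : G) * (d : G)) * (d' : G)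
    rw [Subgroup.coe_mul, mul_inv_rev]
    group)

/-- `x` of prime order with `C_A(x) = 1` fixes only the trivial irreducible character of `A` -/
theorem irr_fixed_trivial [Finite G] {D A : Subgroup G} (h : DNormal D A) (x : D)
    (hp : (orderOf (x : G)).Prime) (hfix : ∀ y ∈ A, (x : G) * y = y * x → y = 1)
    (χ : Cfsg.IrrCharacter A) (hχ : (irrAction h).smul x χ = χ) : χ = principalIrr A := by
  refine fixed_irr_trivial (dAut h x) hp ?_ ?_ χ hχ
  · have key : ∀ n : ℕ, ∀ y : A, (((dAut h x) ^ n : MulAut A) y : G) = (x : G) ^ n * y * ((x : G) ^ n)⁻¹ := by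
      intro n
      induction n with
      | zero => intro y; simp
      | succ n ih =>
        intro y
        rw [pow_succ', MulAut.mul_apply]
        show (x : G) * (((dAut h x) ^ n : MulAut A) y : G) * (x : G)⁻¹ = _
        rw [ih, pow_succ', mul_inv_rev]
        group
    refine MulEquiv.ext fun y => Subtype.ext ?_
    rw [key, pow_orderOf_eq_one]
    simp
  · intro y hy
    exact Subtype.ext (hfix y y.2 (mul_inv_eq_iff_eq_mul.1 (congrArg Subtype.val hy)))

section Nilpotent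

variable [Finite G] (hQ : Group.IsNilpotent Q)
include hQ

theorem exists_complement : ∃ (P₂ : Sylow 2 Q) (C : Subgroup Q), C.Normal ∧
    C.IsComplement' (P₂ : Subgroup Q) ∧ Pp Q = C.map Q.subtype := by
  haveI : Fact (Nat.Prime 2) := ⟨Nat.prime_two⟩
  haveI := hQ
  obtain ⟨P₂, C, hn, hC⟩ := NilpotentSubgroups.hasNormalPComplement_of_nilpotent (p := 2) (N := Q)
  haveI := hn
  refine ⟨P₂, C, hn, hC, le_antisymm ((Subgroup.closure_le _).2 ?_) ?_⟩
  · rintro x ⟨hx, ho⟩
    refine ⟨⟨x, hx⟩, NilpotentSubgroups.mem_complement_of_coprime hC ?_, rfl⟩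
    rw [Subgroup.orderOf_mk]
    exact ho.coprime_two_right
  · rintro _ ⟨x, hx, rfl⟩
    refine Subgroup.subset_closure ⟨x.2, ?_⟩
    have := NilpotentSubgroups.orderOf_coprime_of_mem_complement hC hx
    rw [Q.subtype_apply, Subgroup.orderOf_coe]
    exact Nat.coprime_two_right.1 this

omit hQ [Finite G] in
theorem Pp_le : Pp Q ≤ Q := (Subgroup.closure_le _).2 fun _ h => h.1

omit hQ [Finite G] in
theorem Sp_le : Sp Q ≤ Q := NilPart.part_le 2 Q

theorem odd_card_Pp : Odd (Nat.card (Pp Q)) := by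
  haveI : Fact (Nat.Prime 2) := ⟨Nat.prime_two⟩
  obtain ⟨P₂, C, -, hC, hP⟩ := exists_complement hQ
  rw [hP, Subgroup.card_map_of_injective Q.subtype_injective, ← hC.index_eq_card]
  exact Nat.odd_iff.2 (Nat.two_dvd_ne_zero.1 P₂.not_dvd_index)

theorem odd_orderOf_Pp {x : G} (hx : x ∈ Pp Q) : Odd (orderOf x) :=
  (odd_card_Pp hQ).of_dvd_nat (Subgroup.orderOf_dvd_natCard _ hx)

theorem isTwo_Sp : IsPGroup 2 (Sp Q) :=
  haveI : Fact (Nat.Prime 2) := ⟨Nat.prime_two⟩
  NilPart.isPGroup_part hQ 2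

theorem card_Pp_mul : Nat.card (Pp Q) * Nat.card (Sp Q) = Nat.card Q := by
  haveI : Fact (Nat.Prime 2) := ⟨Nat.prime_two⟩
  obtain ⟨P₂, C, -, hC, hP⟩ := exists_complement hQ
  rw [hP, Subgroup.card_map_of_injective Q.subtype_injective, Sp, NilPart.card_part hQ 2,
    ← P₂.card_eq_multiplicity]
  exact hC.card_mul

theorem coprime_Pp_Sp {x y : G} (hx : x ∈ Pp Q) (hy : y ∈ Sp Q) : (orderOf x).Coprime (orderOf y) := by
  obtain ⟨k, hk⟩ := IsPGroup.iff_orderOf.1 (isTwo_Sp hQ) ⟨y, hy⟩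
  rw [Subgroup.orderOf_mk] at hk
  rw [hk]
  exact (odd_orderOf_Pp hQ hx).coprime_two_right.pow_right k

theorem commute_Pp_Sp {x y : G} (hx : x ∈ Pp Q) (hy : y ∈ Sp Q) : x * y = y * x :=
  (NilPart.commute_of_mem hQ (Pp_le hx) (Sp_le hy) (coprime_Pp_Sp hQ hx hy)).eq

/-- `Q = P × S` -/
theorem exists_split : ∃ e : Q ≃* Pp Q × Sp Q, ∀ p : Pp Q × Sp Q,
    ((e.symm p : Q) : G) = (p.1 : G) * p.2 := by
  classical
  let f : Pp Q × Sp Q →* Q :=
    MonoidHom.mk' (fun p => ⟨(p.1 : G) * p.2, Q.mul_mem (Pp_le p.1.2) (Sp_le p.2.2)⟩) fun p r => by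
      refine Subtype.ext ?_
      show ((p.1 : G) * r.1) * ((p.2 : G) * r.2) = (p.1 : G) * p.2 * ((r.1 : G) * r.2)
      exact (show Commute (r.1 : G) (p.2 : G) from commute_Pp_Sp hQ r.1.2 p.2.2).mul_mul_mul_comm _ _
  have hinj : Function.Injective f := by
    rw [injective_iff_map_eq_one]
    rintro ⟨⟨x, hx⟩, ⟨y, hy⟩⟩ h
    have h' : x * y = 1 := congrArg Subtype.val h
    have hxy : x = y⁻¹ := eq_inv_of_mul_eq_one_left h'
    have ho : orderOf x = 1 := by
      have := coprime_Pp_Sp hQ hx hy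
      rw [← orderOf_inv y, ← hxy] at this
      exact (Nat.coprime_self _).1 this
    rw [orderOf_eq_one_iff] at ho
    subst ho
    rw [one_mul] at h'
    subst h'
    rfl
  have hbij : Function.Bijective f :=
    (Nat.bijective_iff_injective_and_card f).2 ⟨hinj, by rw [Nat.card_prod, card_Pp_mul hQ]⟩
  refine ⟨(MulEquiv.ofBijective f hbij).symm, fun p => ?_⟩
  rw [MulEquiv.symm_symm]
  rfl

end Nilpotent

variable [Finite G] (hS : Cfsg.IsRankOneSetup G Ω a t Q)
include hS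

theorem dNormal_Pp : DNormal (stabilizer G a) (Pp Q) := by
  intro g hg x hx
  have : (Pp Q).map (MulAut.conj g).toMonoidHom ≤ Pp Q := by
    rw [Pp, MonoidHom.map_closure, Subgroup.closure_le]
    rintro _ ⟨y, ⟨hy, ho⟩, rfl⟩
    refine Subgroup.subset_closure ⟨Q_conj hS hg hy, ?_⟩
    show Odd (orderOf ((MulAut.conj g).toMonoidHom y))
    rw [orderOf_injective _ (MulAut.conj g).injective]
    exact ho
  exact this (Subgroup.mem_map_of_mem _ hx)

theorem dNormal_Sp : DNormal (stabilizer G a) (Sp Q) := by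
  intro g hg x hx
  have : (Sp Q).map (MulAut.conj g).toMonoidHom ≤ Sp Q := by
    rw [Sp, NilPart.part, MonoidHom.map_closure, Subgroup.closure_le]
    rintro _ ⟨y, ⟨hy, ho⟩, rfl⟩
    refine Subgroup.subset_closure ⟨Q_conj hS hg hy, ?_⟩
    show ∃ k, orderOf ((MulAut.conj g).toMonoidHom y) = 2 ^ k
    rw [orderOf_injective _ (MulAut.conj g).injective]
    exact ho
  exact this (Subgroup.mem_map_of_mem _ hx)

omit [Finite G] in
theorem DNormal.mono {D D' A : Subgroup G} (h : DNormal D A) (hle : D' ≤ D) : DNormal D' A :=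
  fun d hd => h d (hle hd)

variable (h2 : ∃ x y : G, x ≠ 1 ∧ y ≠ 1 ∧ x ≠ y ∧ x * x = 1 ∧ y * y = 1 ∧ x * y = y * x)
include h2

theorem Zsub_le_Sp : Zsub G a ≤ Sp Q := by
  intro z hz
  haveI : Fact (Nat.Prime 2) := ⟨Nat.prime_two⟩
  refine NilPart.mem_part (Zsub_le hS h2 hz) ?_
  by_cases h : z = 1
  · exact ⟨0, by simp [h]⟩
  · exact ⟨1, by rw [pow_one]; exact orderOf_eq_prime (by rw [pow_two]; exact Zsub_sq hS h2 hz) h⟩

theorem Ksub_fpf {k y : G} (hk : k ∈ Ksub G a t) (hk1 : k ≠ 1) (hy : y ∈ Q) (h : k * y = y * k) :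
    y = 1 := by
  have hk' := (mem_Ksub_iff hS h2).1 hk
  have hfix : k • y • t • a = y • t • a := by
    rw [smul_smul, h, mul_smul, (mem_twoPt.1 (Ksub_le hS h2 hk)).2]
  rcases invSet_fixes_two hS hk' hk1 hfix with e | e
  · exact absurd (smul_left_cancel y (e.trans (Q_smul hS hy).symm)) (ta_ne hS)
  · exact eq_one_of_mem_Q hS hy e

/-- a nontrivial element of `K` fixes only the trivial character of a normalised subgroup of `Q` -/
theorem Ksub_irr_free {A : Subgroup G} (hA : A ≤ Q) (h : DNormal (twoPt G a t) A)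
    (k : twoPt G a t) (hk : (k : G) ∈ Ksub G a t) (hk1 : k ≠ 1) (χ : Cfsg.IrrCharacter A)
    (hχ : (irrAction h).smul k χ = χ) : χ = principalIrr A := by
  have hk1' : (k : G) ≠ 1 := fun e => hk1 (Subtype.ext e)
  obtain ⟨p, hp, hpdvd⟩ := Nat.exists_prime_and_dvd (fun h => hk1' (orderOf_eq_one_iff.1 h))
  set x : twoPt G a t := k ^ (orderOf (k : G) / p) with hx
  have hxo : orderOf (x : G) = p := by
    rw [hx, SubgroupClass.coe_pow, orderOf_pow' _ (Nat.div_pos (Nat.le_of_dvd (orderOf_pos _) hpdvd) hp.pos).ne',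
      Nat.gcd_eq_right (Nat.div_dvd_of_dvd hpdvd), Nat.div_div_self hpdvd (orderOf_pos _).ne']
  have hx1 : (x : G) ≠ 1 := fun e => by rw [e, orderOf_one] at hxo; exact hp.one_lt.ne hxo
  letI := irrAction h
  refine irr_fixed_trivial h x (hxo ▸ hp)
    (fun y hy hc => Ksub_fpf hS h2 (by rw [hx, SubgroupClass.coe_pow]; exact pow_mem hk _) hx1 (hA hy) hc) χ ?_
  have : ∀ n : ℕ, k ^ n • χ = χ := fun n => by
    induction n with
    | zero => simp
    | succ n ih => rw [pow_succ, mul_smul, show k • χ = χ from hχ, ih]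
  exact this _

/-- commutators of `S` lie in `Z` -/
theorem commutator_Sp [FaithfulSMul G Ω] {x y : G} (hx : x ∈ Sp Q) (hy : y ∈ Sp Q) :
    x * y * (y * x)⁻¹ ∈ Zsub G a := by
  haveI : Fact (Nat.Prime 2) := ⟨Nat.prime_two⟩
  haveI := isNilpotent_Q hS h2
  obtain ⟨P₂, hP⟩ := NilPart.exists_sylow_eq (isNilpotent_Q hS h2) 2
  have hlift : ∀ {w : G}, w ∈ Sp Q → ∃ w' : (P₂ : Subgroup Q), ((w' : Q) : G) = w := by
    intro w hw
    rw [Sp, hP] at hw
    obtain ⟨w', hw', rfl⟩ := hw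
    exact ⟨⟨w', hw'⟩, rfl⟩
  obtain ⟨x', rfl⟩ := hlift hx
  obtain ⟨y', rfl⟩ := hlift hy
  rw [mem_Zsub_iff hS h2, or_iff_not_imp_left]
  intro hne
  rcases Cfsg.Agent.S1132.result hS h2 P₂ with hab | hsz
  · exfalso
    apply hne
    have := congrArg (fun w : (P₂ : Subgroup Q) => ((w : Q) : G)) (hab.is_comm.comm x' y')
    simp only [Subgroup.coe_mul] at this
    rw [this, mul_inv_cancel]
  · obtain ⟨-, hcen⟩ := Cfsg.Agent.S1137.result hsz
    have hc := (Cfsg.Agent.S1138.result hsz).2.1 x'⁻¹ y'⁻¹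
    have hz := congrArg (fun w : (P₂ : Subgroup Q) => ((w : Q) : G)) (hcen _ hc)
    simp only [Subgroup.coe_mul, InvMemClass.coe_inv, inv_inv, OneMemClass.coe_one] at hz
    refine mem_invols.2 ⟨?_, hne, ?_⟩
    · exact Q_smul hS (Q.mul_mem (Q.mul_mem (Sp_le hx) (Sp_le hy))
        (Q.inv_mem (Q.mul_mem (Sp_le hy) (Sp_le hx))))
    · simpa [mul_assoc] using hz

end CfsgLib.RankOneTwo
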