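import Cfsg.Agent.Lib.RankOneTwo.Pairs
import Cfsg.Agent.Lib.RankOneTwo.Arith

/-!
The stabiliser in `D` of a nontrivial character of the odd part of `Q`, and the counting of the
characters of the 2-part moved by it.
-/

set_option autoImplicit false

noncomputable section

namespace CfsgLib.RankOneTwo

open CfsgLib.RankOneInvol CfsgLib.Characters
open MulAction (stabilizer mem_stabilizer_iff)

universe u v

variable {G : Type u} {Ω : Type v} [Group G] [MulAction G Ω] {a : Ω} {t : G} {Q : Subgroup G}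
  [Finite G] (hS : Cfsg.IsRankOneSetup G Ω a t Q)

/-- the stabiliser in `D` of a character of the odd part -/
def stabP (ξ : Cfsg.IrrCharacter (Pp Q)) : Subgroup (twoPt G a t) :=
  @MulAction.stabilizer _ _ _ (irrAction (hPn hS)) ξ

theorem mem_stabP {ξ : Cfsg.IrrCharacter (Pp Q)} {d : twoPt G a t} :
    d ∈ stabP hS ξ ↔ (irrAction (hPn hS)).smul d ξ = ξ := Iff.rfl

theorem freeP_iff {x : Pair Q} :
    FreeP hS x ↔ ∀ d ∈ stabP hS x.1, (irrAction (hSn hS)).smul d x.2 = x.2 → d = 1 :=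
  ⟨fun h d h1 h2 => h d (Prod.ext h1 h2),
    fun h d hd => h d (congrArg Prod.fst hd) (congrArg Prod.snd hd)⟩

theorem freeP_of_stabP_eq_bot {x : Pair Q} (h : stabP hS x.1 = ⊥) : FreeP hS x :=
  (freeP_iff hS).2 fun d hd _ => Subgroup.mem_bot.1 (h ▸ hd)

include hS in
theorem odd_card_stabP (ξ : Cfsg.IrrCharacter (Pp Q)) : Odd (Nat.card (stabP hS ξ)) :=
  hS.odd_card.of_dvd_nat (Subgroup.card_subgroup_dvd_card _)

variable (h2 : ∃ x y : G, x ≠ 1 ∧ y ≠ 1 ∧ x ≠ y ∧ x * x = 1 ∧ y * y = 1 ∧ x * y = y * x)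
include hS h2

section Bad

variable [FaithfulSMul G Ω] (ih : IndHyp.{v} (Nat.card G)) {ξ : Cfsg.IrrCharacter (Pp Q)}
  (hξ : ξ ≠ principalIrr _)
include ih hξ

omit h2 ih in
theorem exists_commute_of_prime {x : twoPt G a t} (hx : x ∈ stabP hS ξ)
    (hp : (orderOf (x : G)).Prime) :
    ∃ y ∈ Pp Q, y ≠ 1 ∧ (x : G) * y = y * x := by
  by_contra hno
  push Not at hno
  exact hξ (irr_fixed_trivial (hPn hS) x hp (fun y hy hc => by
    by_contra hy1
    exact hno y hy hy1 hc) ξ hx)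

theorem stabP_atMostOne {e : twoPt G a t} (he : e ∈ stabP hS ξ) (he1 : e ≠ 1) :
    (∀ s ∈ Zsub G a, ∀ s' ∈ Zsub G a, s ≠ 1 → s' ≠ 1 → (e : G) * s = s * e → (e : G) * s' = s' * e →
        s = s') ∧
      ∀ k ∈ Ksub G a t, (e : G) * k = k * e → k = 1 := by
  refine atMostOne_of_prime hS (E := (stabP hS ξ).map (twoPt G a t).subtype)
    (Subgroup.map_subtype_le _) h2 ih ?_ ⟨e, he, rfl⟩ fun h => he1 (Subtype.ext h)
  rintro _ ⟨x, hx, rfl⟩ hp
  obtain ⟨y, hy, hy1, hc⟩ := exists_commute_of_prime hS hξ hx hp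
  exact ⟨y, Pp_le hy, hy1, odd_orderOf_Pp (isNilpotent_Q hS h2) hy, hc⟩

theorem stabP_cyclic {f : ℕ}
    (hf : ∀ E : Subgroup G, E ≤ twoPt G a t →
      (∀ e ∈ E, (∀ k ∈ Ksub G a t, e * k = k * e) → e = 1) → IsCyclic E ∧ Nat.card E ≤ f) :
    IsCyclic (stabP hS ξ) ∧ Nat.card (stabP hS ξ) ≤ f := by
  have key := hf ((stabP hS ξ).map (twoPt G a t).subtype) (Subgroup.map_subtype_le _) (by
    rintro _ ⟨e, he, rfl⟩ hk
    by_contra h1
    obtain ⟨k, hk', hk1⟩ := exists_invSet_ne_one hS h2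
    exact hk1 ((stabP_atMostOne hS h2 ih hξ he fun h => h1 (congrArg Subtype.val h)).2 k
      ((mem_Ksub_iff hS h2).2 hk') (hk k ((mem_Ksub_iff hS h2).2 hk'))))
  let e := Subgroup.equivMapOfInjective (stabP hS ξ) (twoPt G a t).subtype Subtype.coe_injective
  refine ⟨?_, (Nat.card_congr e.toEquiv).trans_le key.2⟩
  haveI := key.1
  exact isCyclic_of_surjective e.symm e.symm.surjective

omit hξ in
theorem stabP_comm {ξ : Cfsg.IrrCharacter (Pp Q)} (hξ : ξ ≠ principalIrr _) {e e' : twoPt G a t}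
    (he : e ∈ stabP hS ξ) (he' : e' ∈ stabP hS ξ) : e * e' = e' * e := by
  obtain ⟨f, -, -, hf⟩ := exists_exponent hS h2
  haveI := (stabP_cyclic hS h2 ih hξ hf).1
  exact congrArg Subtype.val ((IsCyclic.commutative (α := stabP hS ξ)).is_comm.comm ⟨e, he⟩ ⟨e', he'⟩)

theorem exists_fixed_invol (hne : stabP hS ξ ≠ ⊥) :
    ∃ s ∈ Zsub G a, s ≠ 1 ∧ ∀ e ∈ stabP hS ξ, (e : G) * s = s * e := by
  obtain ⟨x₀, hx₀, hx₀1⟩ := (Subgroup.bot_or_exists_ne_one _).resolve_left hne
  obtain ⟨p, hp, hpdvd⟩ := Nat.exists_prime_and_dvd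
    (fun h => hx₀1 (Subtype.ext (orderOf_eq_one_iff.1 (show orderOf (x₀ : G) = 1 from h))))
  set x : twoPt G a t := x₀ ^ (orderOf (x₀ : G) / p) with hx
  have hxo : orderOf (x : G) = p := by
    rw [hx, SubgroupClass.coe_pow,
      orderOf_pow' _ (Nat.div_pos (Nat.le_of_dvd (orderOf_pos _) hpdvd) hp.pos).ne',
      Nat.gcd_eq_right (Nat.div_dvd_of_dvd hpdvd), Nat.div_div_self hpdvd (orderOf_pos _).ne']
  have hx1 : (x : G) ≠ 1 := fun e => by rw [e, orderOf_one] at hxo; exact hp.one_lt.ne hxo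
  have hxE : x ∈ stabP hS ξ := Subgroup.pow_mem _ hx₀ _
  obtain ⟨y, hy, hy1, hc⟩ := exists_commute_of_prime hS hξ hxE (hxo ▸ hp)
  obtain ⟨s, ⟨hs, hxs⟩, huniq⟩ := unique_invol hS h2 ih x.2 hx1 (Pp_le hy) hy1
    (odd_orderOf_Pp (isNilpotent_Q hS h2) hy) hc
  refine ⟨s, Subgroup.subset_closure hs, (mem_invols.1 hs).2.1, fun e he => ?_⟩
  have hcomm : Commute (x : G) e := congrArg Subtype.val (stabP_comm hS h2 ih hξ hxE he)
  have hmem : (e : G) * s * (e : G)⁻¹ ∈ Cfsg.involutionsIn (stabilizer G a : Set G) :=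
    ((mem_Zsub_iff hS h2).1 (Zsub_conj hS h2 (mem_twoPt.1 e.2).1 (Subgroup.subset_closure hs))).resolve_left
      (conj_ne_one (mem_invols.1 hs).2.1 _)
  have := huniq _ ⟨hmem, ((hcomm.mul_right (show Commute (x : G) s from hxs)).mul_right hcomm.inv_right).eq⟩
  exact mul_inv_eq_iff_eq_mul.1 this

end Bad

theorem dNormal_Zsub : DNormal (twoPt G a t) (Zsub G a) := fun d hd _ hz =>
  Zsub_conj hS h2 (mem_twoPt.1 hd).1 hz

theorem card_irr_Zsub : Nat.card (Cfsg.IrrCharacter (Zsub G a)) = Nat.card (Zsub G a) := by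
  rw [card_irr_eq_card_conjClasses]
  refine (Nat.card_eq_of_bijective ConjClasses.mk ⟨fun x y h => ?_, ConjClasses.mk_surjective⟩).symm
  obtain ⟨c, hc⟩ := isConj_iff.1 (ConjClasses.mk_eq_mk_iff_isConj.1 h)
  rw [← hc]
  refine Subtype.ext ?_
  show (x : G) = c * x * (c : G)⁻¹
  rw [Zsub_comm hS h2 c.2 (Zsub_le hS h2 x.2)]
  group

/-- the linear character of `Z` below a character of `S` -/
def omegaOf (μ : Cfsg.IrrCharacter (Sp Q)) : Cfsg.IrrCharacter (Zsub G a) :=
  ⟨fun z => (μ : Sp Q → ℂ) ⟨z, Zsub_le_Sp hS h2 z.2⟩ / (μ : Sp Q → ℂ) 1, by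
    classical
    haveI := Fintype.ofFinite (Sp Q)
    obtain ⟨ω, hω⟩ := irr_central_scalar μ (Zin a Q) (Zin_le_center hS h2)
    convert isIrrCharacter_of_hom
      (ω.comp (Subgroup.subgroupOfEquivOfLe (Zsub_le_Sp hS h2)).symm.toMonoidHom) using 1
    funext z
    have h1 := hω ((Subgroup.subgroupOfEquivOfLe (Zsub_le_Sp hS h2)).symm z)
    rw [div_eq_iff (irr_one_ne_zero μ), mul_comm]
    exact h1⟩

theorem omegaOf_apply (μ : Cfsg.IrrCharacter (Sp Q)) (z : Zsub G a) :
    (omegaOf hS h2 μ : Zsub G a → ℂ) z =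
      (μ : Sp Q → ℂ) ⟨z, Zsub_le_Sp hS h2 z.2⟩ / (μ : Sp Q → ℂ) 1 := rfl

theorem omegaOf_eq_principal_iff (μ : Cfsg.IrrCharacter (Sp Q)) :
    omegaOf hS h2 μ = principalIrr _ ↔ Triv a μ := by
  constructor
  · intro h z
    have := congrFun (congrArg Subtype.val h) ⟨((z : Sp Q) : G), Subgroup.mem_subgroupOf.1 z.2⟩
    rw [omegaOf_apply, div_eq_iff (irr_one_ne_zero μ)] at this
    simpa [principalIrr] using this
  · intro h
    refine Subtype.ext (funext fun z => ?_)
    rw [omegaOf_apply, show (⟨z, Zsub_le_Sp hS h2 z.2⟩ : Sp Q) =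
      ((⟨⟨z, Zsub_le_Sp hS h2 z.2⟩, Subgroup.mem_subgroupOf.2 z.2⟩ : Zin a Q) : Sp Q) from rfl, h,
      div_self (irr_one_ne_zero μ)]
    rfl

theorem omegaOf_smul (d : twoPt G a t) (μ : Cfsg.IrrCharacter (Sp Q)) :
    omegaOf hS h2 ((irrAction (hSn hS)).smul d μ) =
      (irrAction (dNormal_Zsub hS h2)).smul d (omegaOf hS h2 μ) := by
  refine Subtype.ext (funext fun z => ?_)
  show (μ : Sp Q → ℂ) ((dAut (hSn hS) d).symm ⟨z, _⟩) / (μ : Sp Q → ℂ) ((dAut (hSn hS) d).symm 1) = _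
  rw [map_one]
  rfl

theorem cdeg_eq_one_of_triv [FaithfulSMul G Ω] {μ : Cfsg.IrrCharacter (Sp Q)} (h : Triv a μ) :
    cdeg μ = 1 := by
  classical
  haveI := Fintype.ofFinite (Sp Q)
  obtain ⟨c, n, ρ, hρ, rfl⟩ := μ
  haveI := hρ
  haveI := CharScalar.nontrivial_of_irreducible ρ
  have hn : 0 < n := by simpa using CharScalar.finrank_pos ρ
  have hZ : ∀ z : Zin a Q, ρ (z : Sp Q) = 1 := by
    intro z
    obtain ⟨c, hc⟩ := CharScalar.center_scalar ρ (Zin_le_center hS h2 z.2)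
    have h1 : ρ.character (z : Sp Q) = ρ.character 1 := h z
    rw [Representation.character, hc, map_smul, LinearMap.trace_one, Representation.char_one,
      smul_eq_mul, mul_eq_right₀ (by simpa using hn.ne')] at h1
    rw [hc, h1, one_smul]
  have hcomm : ∀ x y : Sp Q, ρ x * ρ y = ρ y * ρ x := by
    intro x y
    have hz : x * y * (y * x)⁻¹ ∈ Zin a Q := Subgroup.mem_subgroupOf.2 (by
      simpa using commutator_Sp hS h2 x.2 y.2)
    rw [← map_mul, ← map_mul, show x * y = x * y * (y * x)⁻¹ * (y * x) by group, map_mul,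
      hZ ⟨_, hz⟩, one_mul]
  have hsc : ∀ x : Sp Q, ∃ c : ℂ, ρ x = c • 1 := fun x => CharScalar.exists_scalar ρ _ fun y => hcomm x y
  choose s hs using hsc
  have hnorm := classInner_irr_self (χ := ρ.character) ⟨n, ρ, hρ, rfl⟩
  have hchar : ∀ x, ρ.character x = s x * n := by
    intro x
    rw [Representation.character, hs, map_smul, LinearMap.trace_one, smul_eq_mul]
    simp
  have hunit : ∀ x, s x * (starRingEnd ℂ) (s x) = 1 := by
    intro x
    have h1 : s x⁻¹ * s x = 1 := by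
      have hinj : ∀ a b : ℂ, a • (1 : Module.End ℂ (Fin n → ℂ)) = b • 1 → a = b := fun a b h =>
        smul_left_injective ℂ (one_ne_zero (α := Module.End ℂ (Fin n → ℂ))) h
      refine hinj _ _ ?_
      have h3 : ρ x⁻¹ * ρ x = 1 := by rw [← map_mul, inv_mul_cancel, map_one]
      rw [hs, hs, smul_mul_smul_comm, one_mul] at h3
      rw [h3, one_smul]
    have h2' : (starRingEnd ℂ) (s x) = s x⁻¹ := by
      have h4 := char_apply_inv ⟨n, ρ, rfl⟩ x
      rw [hchar, hchar, map_mul, map_natCast] at h4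
      exact (mul_right_cancel₀ (Nat.cast_ne_zero.2 hn.ne') h4).symm
    rw [h2', mul_comm, h1]
  unfold Cfsg.classInner at hnorm
  simp only [hchar, map_mul, map_natCast] at hnorm
  rw [Finset.sum_congr rfl fun x _ => show s x * (n : ℂ) * ((starRingEnd ℂ) (s x) * n) = (n : ℂ) ^ 2 by
    linear_combination ((n : ℂ) ^ 2) * hunit x, Finset.sum_const, Finset.card_univ, nsmul_eq_mul,
    ← Nat.card_eq_fintype_card, inv_mul_cancel_left₀ (Nat.cast_ne_zero.2 Nat.card_pos.ne')] at hnorm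
  have hn1 : n = 1 := by
    have : n ^ 2 = 1 := by exact_mod_cast hnorm
    exact (Nat.pow_eq_one.1 this).resolve_right two_ne_zero
  have := cdeg_spec (⟨ρ.character, n, ρ, hρ, rfl⟩ : Cfsg.IrrCharacter (Sp Q))
  change ρ.character 1 = _ at this
  rw [Representation.char_one, Module.finrank_fin_fun, Nat.cast_inj] at this
  omega

theorem card_S : Nat.card (Sp Q) = Nat.card (Zsub G a) * (Zin a Q).index := by
  rw [← card_Zin hS h2, Subgroup.card_mul_index]

theorem cdeg_sq_le_index (μ : Cfsg.IrrCharacter (Sp Q)) : cdeg μ ^ 2 ≤ (Zin a Q).index := by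
  classical
  haveI := Fintype.ofFinite (Sp Q)
  exact degree_sq_le_index μ _ (Zin_le_center hS h2) (cdeg_spec μ)

open scoped Classical in
theorem sum_sq_triv :
    ∑ μ ∈ Finset.univ.filter (fun μ : Cfsg.IrrCharacter (Sp Q) => Triv a μ), cdeg μ ^ 2 =
      (Zin a Q).index := by
  haveI := Fintype.ofFinite (Sp Q)
  haveI := Fintype.ofFinite (Zin a Q)
  have h := sum_sq_over (Zin a Q) (Zin_le_center hS h2) 1
  have hfilt : (Finset.univ.filter fun χ : Cfsg.IrrCharacter (Sp Q) =>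
      ∀ z : Zin a Q, (χ : Sp Q → ℂ) z = (χ : Sp Q → ℂ) 1 * ((1 : Zin a Q →* ℂˣ) z : ℂ)) =
      Finset.univ.filter fun μ : Cfsg.IrrCharacter (Sp Q) => Triv a μ :=
    Finset.filter_congr fun χ _ => by simp [Triv]
  rw [hfilt] at h
  simp only [cdeg_spec] at h
  exact_mod_cast h

open scoped Classical in
theorem card_triv [FaithfulSMul G Ω] :
    Nat.card {μ : Cfsg.IrrCharacter (Sp Q) // Triv a μ} = (Zin a Q).index := by
  rw [← sum_sq_triv hS h2, Finset.sum_congr rfl fun μ hμ => by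
    rw [cdeg_eq_one_of_triv hS h2 (Finset.mem_filter.1 hμ).2, one_pow], ← Finset.card_eq_sum_ones,
    Nat.card_eq_fintype_card, Fintype.card_subtype]

omit h2 in
theorem triv_principal : Triv a (principalIrr (Sp Q)) := fun _ => rfl

theorem triv_smul {μ : Cfsg.IrrCharacter (Sp Q)} (d : twoPt G a t) (h : Triv a μ) :
    Triv a ((irrAction (hSn hS)).smul d μ) :=
  (triv_pact_iff hS h2 d ((principalIrr (Pp Q), μ) : Pair Q)).2 h

/-- `[S : Z] ≡ 1` modulo `q - 1`, and few characters trivial on `Z` are stabilised -/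
theorem free_count [FaithfulSMul G Ω] (ih : IndHyp.{v} (Nat.card G)) {ξ : Cfsg.IrrCharacter (Pp Q)}
    (hξ : ξ ≠ principalIrr _) (μ : Cfsg.IrrCharacter (Sp Q))
    (hgood : stabP hS ξ = ⊥ ∨ (Zin a Q).index ≠ 1) :
    Nat.card (stabP hS ξ) * cdeg μ ≤
      Nat.card {η : Cfsg.IrrCharacter (Sp Q) // Triv a η ∧ FreeP hS (ξ, η)} := by
  classical
  by_cases hE : stabP hS ξ = ⊥
  · rw [hE, Subgroup.card_bot, one_mul]
    refine le_trans (Nat.le_self_pow two_ne_zero _) ((cdeg_sq_le_index hS h2 μ).trans (le_of_eq ?_))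
    rw [← card_triv hS h2]
    exact Nat.card_congr (Equiv.subtypeEquivRight fun η =>
      ⟨fun h => ⟨h, freeP_of_stabP_eq_bot hS hE⟩, fun h => h.1⟩)
  have hσ := hgood.resolve_left hE
  obtain ⟨f, hf2, hq, hfE⟩ := exists_exponent hS h2
  obtain ⟨-, hef⟩ := stabP_cyclic hS h2 ih hξ hfE
  let U := {η : Cfsg.IrrCharacter (Sp Q) // Triv a η ∧ η ≠ principalIrr _}
  letI act0 := irrAction (hSn hS)
  letI : MulAction (twoPt G a t) U :=
    { smul := fun d η => ⟨d • η.1, triv_smul hS h2 d η.2.1, fun e => η.2.2 (by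
        rw [← inv_smul_smul d η.1, e]
        exact Subtype.ext (funext fun k => rfl))⟩
      one_smul := fun η => Subtype.ext (one_smul _ η.1)
      mul_smul := fun d d' η => Subtype.ext (mul_smul d d' η.1) }
  set K : Subgroup (twoPt G a t) := (Ksub G a t).subgroupOf (twoPt G a t) with hK
  have hcardK : Nat.card K = 2 ^ f - 1 := by
    rw [hK, Nat.card_congr (Subgroup.subgroupOfEquivOfLe (Ksub_le hS h2)).toEquiv, ← hq,
      card_Zsub hS h2]
    omega
  have hfree : ∀ k ∈ K, ∀ η : U, k • η = η → k = 1 := fun k hk η e => by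
    by_contra hk1
    exact η.2.2 (Ksub_irr_free hS h2 Sp_le (hSn hS) k (Subgroup.mem_subgroupOf.1 hk) hk1 η.1
      (congrArg Subtype.val e))
  have hstab : ∀ η : U, MulAction.stabilizer K η = ⊥ := fun η => by
    rw [eq_bot_iff]
    exact fun k hk => Subgroup.mem_bot.2 (Subtype.ext (hfree k k.2 η hk))
  set j := Nat.card (Quotient (MulAction.orbitRel K U)) with hj
  have hcU : Nat.card U = j * (2 ^ f - 1) := by
    rw [Nat.card_congr (MulAction.selfEquivOrbitsQuotientProd hstab), Nat.card_prod, hcardK]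
  have hU1 : Nat.card {η : Cfsg.IrrCharacter (Sp Q) // Triv a η} = Nat.card U + 1 := by
    rw [← Finite.card_option]
    refine Nat.card_congr ((Equiv.optionSubtypeNe
      (⟨principalIrr _, triv_principal hS⟩ : {η : Cfsg.IrrCharacter (Sp Q) // Triv a η})).symm.trans
      (Equiv.optionCongr ⟨fun η => ⟨η.1.1, η.1.2, fun e => η.2 (Subtype.ext e)⟩,
        fun η => ⟨⟨η.1, η.2.1⟩, fun e => η.2.2 (congrArg Subtype.val e)⟩, fun _ => rfl, fun _ => rfl⟩))
  rw [card_triv hS h2] at hU1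
  have hj1 : 1 ≤ j := by
    by_contra hj0
    rw [show j = 0 by omega, zero_mul] at hcU
    omega
  have hcent : ∀ e ∈ stabP hS ξ, e ≠ 1 → ∀ k ∈ K, e * k = k * e → k = 1 := fun e he he1 k hk hc =>
    Subtype.ext ((stabP_atMostOne hS h2 ih hξ he he1).2 k (Subgroup.mem_subgroupOf.1 hk)
      (congrArg Subtype.val hc))
  have hbad := card_stabilised_mul_le (U := U) (K := K) (E := stabP hS ξ) hfree
    (fun e _ k hk => Subgroup.mem_subgroupOf.2 (Ksub_conj hS h2 e.2 (Subgroup.mem_subgroupOf.1 hk)))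
    hcent fun e he e' he' => stabP_comm hS h2 ih hξ he he'
  rw [hcardK, hcU] at hbad
  set Bad := {η : U // ∃ e ∈ stabP hS ξ, e ≠ 1 ∧ e • η = η} with hBad
  have hbj : Nat.card Bad ≤ j := by
    have h4 : 0 < 2 ^ f - 1 := by
      have : 2 ^ 1 ≤ 2 ^ f := Nat.pow_le_pow_right (by norm_num) (by omega)
      omega
    exact Nat.le_of_mul_le_mul_right hbad h4
  have hsplit : Nat.card U = Nat.card Bad + Nat.card {η : U // ¬ ∃ e ∈ stabP hS ξ, e ≠ 1 ∧ e • η = η} := by
    rw [← Nat.card_sum]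
    exact Nat.card_congr (Equiv.sumCompl _).symm
  have hinj : Nat.card {η : U // ¬ ∃ e ∈ stabP hS ξ, e ≠ 1 ∧ e • η = η} ≤
      Nat.card {η : Cfsg.IrrCharacter (Sp Q) // Triv a η ∧ FreeP hS (ξ, η)} := by
    refine Nat.card_le_card_of_injective (fun η => ⟨η.1.1, η.1.2.1, (freeP_iff hS).2 fun d hd hde => ?_⟩)
      fun x y e => Subtype.ext (Subtype.ext (Subtype.mk.inj e))
    by_contra hd1
    exact η.2 ⟨d, hd, hd1, Subtype.ext hde⟩
  have hm : cdeg μ ^ 2 ≤ 1 + j * (2 ^ f - 1) := by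
    have := cdeg_sq_le_index hS h2 μ
    omega
  have := free_enough hf2 hef (odd_card_stabP hS ξ) hj1 hm
  have hsub : j * (2 ^ f - 2) + j = j * (2 ^ f - 1) := by
    have : 2 ^ 1 ≤ 2 ^ f := Nat.pow_le_pow_right (by norm_num) (by omega)
    rw [show 2 ^ f - 1 = (2 ^ f - 2) + 1 by omega]
    ring
  omega

open scoped Classical in
/-- the weight of the good pairs over a nontrivial character of the odd part -/
theorem weight_le [FaithfulSMul G Ω] (ih : IndHyp.{v} (Nat.card G)) {ξ : Cfsg.IrrCharacter (Pp Q)}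
    (hξ : ξ ≠ principalIrr _) :
    (Nat.card (Zsub G a) - 2) * (Zin a Q).index ≤
      ∑ μ ∈ Finset.univ.filter (fun μ : Cfsg.IrrCharacter (Sp Q) => ¬ Triv a μ ∧ FreeP hS (ξ, μ)),
        cdeg μ ^ 2 := by
  set F : Finset (Cfsg.IrrCharacter (Sp Q)) :=
    Finset.univ.filter (fun μ => ¬ Triv a μ ∧ FreeP hS (ξ, μ)) with hF
  set A : Finset (Cfsg.IrrCharacter (Sp Q)) := Finset.univ.filter fun μ => Triv a μ with hA
  set B : Finset (Cfsg.IrrCharacter (Sp Q)) :=
    Finset.univ.filter (fun μ => ¬ Triv a μ ∧ ¬ FreeP hS (ξ, μ)) with hB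
  haveI := Fintype.ofFinite (Sp Q)
  have htot : ∑ μ ∈ F, cdeg μ ^ 2 + ∑ μ ∈ A, cdeg μ ^ 2 + ∑ μ ∈ B, cdeg μ ^ 2 = Nat.card (Sp Q) := by
    rw [← sum_cdeg_sq, hF, hA, hB, ← Finset.sum_union, ← Finset.sum_union]
    · refine Finset.sum_congr (Finset.eq_univ_of_forall fun μ => ?_) fun _ _ => rfl
      simp only [Finset.mem_union, Finset.mem_filter, Finset.mem_univ, true_and]
      tauto
    · rw [Finset.disjoint_union_left]
      constructor <;> refine Finset.disjoint_filter.2 fun μ _ h => ?_ <;> tauto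
    · exact Finset.disjoint_filter.2 fun μ _ h => by tauto
  have hBle : ∑ μ ∈ B, cdeg μ ^ 2 ≤ (Zin a Q).index := by
    rcases B.eq_empty_or_nonempty with he | ⟨μ₀, hμ₀⟩
    · simp [he]
    haveI := Fintype.ofFinite (Zin a Q)
    obtain ⟨ω₀, hω₀⟩ := irr_central_scalar μ₀ (Zin a Q) (Zin_le_center hS h2)
    have key : ∀ μ ∈ B, omegaOf hS h2 μ = omegaOf hS h2 μ₀ := by
      intro μ hμ
      let U := {ω : Cfsg.IrrCharacter (Zsub G a) // ω ≠ principalIrr _}
      letI act0 := irrAction (dNormal_Zsub hS h2)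
      letI : MulAction (twoPt G a t) U :=
        { smul := fun d ω => ⟨d • ω.1, fun e => ω.2 (by
            rw [← inv_smul_smul d ω.1, e]
            exact Subtype.ext (funext fun k => rfl))⟩
          one_smul := fun ω => Subtype.ext (one_smul _ ω.1)
          mul_smul := fun d d' ω => Subtype.ext (mul_smul d d' ω.1) }
      set K : Subgroup (twoPt G a t) := (Ksub G a t).subgroupOf (twoPt G a t) with hK
      have hfree : ∀ k ∈ K, ∀ ω : U, k • ω = ω → k = 1 := fun k hk ω e => by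
        by_contra hk1
        exact ω.2 (Ksub_irr_free hS h2 (Zsub_le hS h2) (dNormal_Zsub hS h2) k
          (Subgroup.mem_subgroupOf.1 hk) hk1 ω.1 (congrArg Subtype.val e))
      have hget : ∀ ν ∈ B, ∃ (e : twoPt G a t) (ω : U), e ∈ stabP hS ξ ∧ e ≠ 1 ∧ e • ω = ω ∧
          ω.1 = omegaOf hS h2 ν := by
        intro ν hν
        obtain ⟨-, hnt, hnf⟩ := Finset.mem_filter.1 hν
        rw [freeP_iff] at hnf
        push Not at hnf
        obtain ⟨e, he, heν, he1⟩ := hnf
        refine ⟨e, ⟨_, fun h => hnt ((omegaOf_eq_principal_iff hS h2 ν).1 h)⟩, he, he1,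
          Subtype.ext ?_, rfl⟩
        show (irrAction (dNormal_Zsub hS h2)).smul e (omegaOf hS h2 ν) = omegaOf hS h2 ν
        rw [← omegaOf_smul, heν]
      obtain ⟨e, x, he, he1, hx, hxe⟩ := hget μ hμ
      obtain ⟨e', y, he', he'1, hy, hye⟩ := hget μ₀ hμ₀
      obtain ⟨k, hk⟩ : ∃ k : K, (k : twoPt G a t) • x = y := by
        have hb : Function.Bijective fun k : K => (k : twoPt G a t) • x := by
          refine (Nat.bijective_iff_injective_and_card _).2 ⟨fun k l h => ?_, ?_⟩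
          · have h' : (l⁻¹ * k : K).1 • x = x := by
              show ((l : twoPt G a t)⁻¹ * k) • x = x
              rw [mul_smul, show (k : twoPt G a t) • x = (l : twoPt G a t) • x from h, inv_smul_smul]
            exact (inv_mul_eq_one.1 (Subtype.ext (hfree _ (l⁻¹ * k : K).2 x h'))).symm
          · have h1 : Nat.card (Cfsg.IrrCharacter (Zsub G a)) = Nat.card U + 1 := by
              rw [← Finite.card_option]
              exact Nat.card_congr (Equiv.optionSubtypeNe (principalIrr (Zsub G a))).symm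
            rw [card_irr_Zsub hS h2, card_Zsub hS h2,
              ← Nat.card_congr (Subgroup.subgroupOfEquivOfLe (Ksub_le hS h2)).toEquiv, ← hK] at h1
            omega
        exact hb.2 y
      have := unique_stabilised (U := U) (K := K) (E := stabP hS ξ) hfree
        (fun e _ k hk => Subgroup.mem_subgroupOf.2 (Ksub_conj hS h2 e.2 (Subgroup.mem_subgroupOf.1 hk)))
        (fun e he he1 k hk hc => Subtype.ext ((stabP_atMostOne hS h2 ih hξ he he1).2 k
          (Subgroup.mem_subgroupOf.1 hk) (congrArg Subtype.val hc)))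
        (fun e he e' he' => stabP_comm hS h2 ih hξ he he') he he1 hx he' he'1 hy k.2 hk
      rw [← hxe, this, hye]
    have h := sum_sq_over (Zin a Q) (Zin_le_center hS h2) ω₀
    have hsub : B ⊆ Finset.univ.filter fun χ : Cfsg.IrrCharacter (Sp Q) =>
        ∀ z : Zin a Q, (χ : Sp Q → ℂ) z = (χ : Sp Q → ℂ) 1 * (ω₀ z : ℂ) := by
      intro μ hμ
      refine Finset.mem_filter.2 ⟨Finset.mem_univ _, fun z => ?_⟩
      have := congrFun (congrArg Subtype.val (key μ hμ)) ⟨((z : Sp Q) : G), Subgroup.mem_subgroupOf.1 z.2⟩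
      rw [omegaOf_apply, omegaOf_apply, div_eq_iff (irr_one_ne_zero μ)] at this
      refine this.trans ?_
      show (μ₀ : Sp Q → ℂ) z / (μ₀ : Sp Q → ℂ) 1 * _ = _
      rw [hω₀, mul_div_cancel_left₀ _ (irr_one_ne_zero μ₀), mul_comm]
    refine (Finset.sum_le_sum_of_subset hsub).trans (le_of_eq ?_)
    simp only [cdeg_spec] at h ⊢
    exact_mod_cast h
  have hA' : ∑ μ ∈ A, cdeg μ ^ 2 = (Zin a Q).index := sum_sq_triv hS h2
  rw [card_S hS h2] at htot
  rw [Nat.sub_mul]
  omega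

theorem exists_not_triv : ∃ μ : Cfsg.IrrCharacter (Sp Q), ¬ Triv a μ := by
  classical
  by_contra hall
  push Not at hall
  haveI := Fintype.ofFinite (Sp Q)
  have h1 := sum_sq_triv hS h2
  rw [Finset.filter_true_of_mem fun μ _ => hall μ, sum_cdeg_sq, card_S hS h2] at h1
  have h2' : 0 < (Zin a Q).index := Nat.pos_of_ne_zero Subgroup.index_ne_zero_of_finite
  have h3 : Nat.card (Zsub G a) = 1 := by
    nlinarith
  rw [card_Zsub hS h2] at h3
  have : 0 < Nat.card (Ksub G a t) := Nat.card_pos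
  omega

/-- `|P| ≥ 2 q - 1` -/
theorem card_Pp_ge (hP : Pp Q ≠ ⊥) : 2 * Nat.card (Zsub G a) - 1 ≤ Nat.card (Pp Q) := by
  classical
  haveI := Fintype.ofFinite (Pp Q)
  obtain ⟨ξ, hξ⟩ : ∃ ξ : Cfsg.IrrCharacter (Pp Q), ξ ≠ principalIrr _ := by
    by_contra hall
    push Not at hall
    have h1 := sum_cdeg_sq (A := Pp Q)
    rw [Finset.sum_eq_single (principalIrr _) (fun b _ hb => absurd (hall b) hb) (by simp),
      show cdeg (principalIrr (Pp Q)) = 1 from ?_, one_pow] at h1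
    · exact hP (Subgroup.eq_bot_of_card_eq _ h1.symm)
    · have := cdeg_spec (principalIrr (Pp Q))
      simp only [principalIrr] at this
      exact_mod_cast this.symm
  letI := irrAction (hPn hS)
  let kd : Ksub G a t → twoPt G a t := fun k => ⟨k, Ksub_le hS h2 k.2⟩
  have hQ := isNilpotent_Q hS h2
  let φ : Bool × Ksub G a t → {η : Cfsg.IrrCharacter (Pp Q) // η ≠ principalIrr _} := fun p =>
    ⟨kd p.2 • (bif p.1 then BrauerPerm.conjIrr ξ else ξ), fun e => by
      have h1 : (bif p.1 then BrauerPerm.conjIrr ξ else ξ) = principalIrr _ := by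
        rw [← inv_smul_smul (kd p.2) (bif p.1 then BrauerPerm.conjIrr ξ else ξ), e]
        exact Subtype.ext (funext fun k => rfl)
      cases hb : p.1
      · rw [hb] at h1; exact hξ h1
      · rw [hb] at h1
        refine hξ (Subtype.ext (funext fun k => ?_))
        have := congrFun (congrArg Subtype.val h1) k
        simp only [cond_true, BrauerPerm.conjIrr_apply, principalIrr] at this
        have h' := congrArg (starRingEnd ℂ) this
        rw [Complex.conj_conj, map_one] at h'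
        exact h'⟩
  have hfix : ∀ (η : Cfsg.IrrCharacter (Pp Q)), η ≠ principalIrr _ → ∀ k l, kd k • η = kd l • η → k = l := by
    intro η hη k l h
    by_contra hne
    refine hη (Ksub_irr_free hS h2 Pp_le (hPn hS) (kd (l⁻¹ * k)) (l⁻¹ * k).2
      (fun e => hne ?_) η ?_)
    · exact ((inv_mul_eq_one (a := l) (b := k)).1
        (Subtype.ext (congrArg (fun d : twoPt G a t => (d : G)) e))).symm
    · show kd (l⁻¹ * k) • η = η
      rw [show kd (l⁻¹ * k) = (kd l)⁻¹ * kd k from Subtype.ext rfl, mul_smul, h, inv_smul_smul]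
  have hconj : BrauerPerm.conjIrr ξ ≠ principalIrr _ := fun e =>
    hξ (Subtype.ext (funext fun k => by
      have := congrArg (starRingEnd ℂ) (congrFun (congrArg Subtype.val e) k)
      simpa [principalIrr] using this))
  have hne : ∀ d : twoPt G a t, BrauerPerm.conjIrr ξ ≠ d • ξ := by
    intro d e
    have := conjPair_ne_pact hS (x := (ξ, principalIrr (Sp Q))) (by exact hξ) hQ d
    refine this (Prod.ext e (Subtype.ext (funext fun k => ?_)))
    rw [pact_snd]
    simp [conjPair, principalIrr]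
  have hinj : Function.Injective φ := by
    rintro ⟨b, k⟩ ⟨b', k'⟩ h
    have h' := congrArg Subtype.val h
    cases b <;> cases b'
    · exact Prod.ext rfl (hfix ξ hξ k k' h')
    · exact absurd (by
        show BrauerPerm.conjIrr ξ = ((kd k')⁻¹ * kd k) • ξ
        rw [mul_smul]
        exact eq_inv_smul_iff.2 h'.symm) (hne _)
    · exact absurd (by
        show BrauerPerm.conjIrr ξ = ((kd k)⁻¹ * kd k') • ξ
        rw [mul_smul]
        exact eq_inv_smul_iff.2 h') (hne _)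
    · exact Prod.ext rfl (hfix _ hconj k k' h')
  have h1 := Nat.card_le_card_of_injective φ hinj
  rw [Nat.card_prod, Nat.card_eq_fintype_card (α := Bool), Fintype.card_bool] at h1
  have h3 : Nat.card {η : Cfsg.IrrCharacter (Pp Q) // η ≠ principalIrr _} + 1 ≤ Nat.card (Pp Q) := by
    rw [← Finite.card_option, Nat.card_congr (Equiv.optionSubtypeNe (principalIrr (Pp Q))),
      Nat.card_eq_fintype_card]
    conv_rhs => rw [← sum_cdeg_sq]
    rw [← Finset.card_univ, Finset.card_eq_sum_ones]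
    exact Finset.sum_le_sum fun η _ => Nat.one_le_pow _ _ (cdeg_pos η)
  have h4 := card_Zsub hS h2
  omega

end CfsgLib.RankOneTwo
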